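import Cfsg.Agent.Lib.Spor.MathieuByGraph.Mass
import Cfsg.Agent.Lib.Char.SmallOrderGraph.List
import Cfsg.Agent.Lib.Char.HalfDegree.Group
import Cfsg.Agent.Lib.Char.SmallDegreeSylow
import Cfsg.Agent.Lib.Classical.Dickson.Tools

/-!
The Sylow subgroup of order twenty-three of a simple group whose order divides that of the Mathieu group of degree
twenty-four.
-/

set_option autoImplicit false
set_option linter.unusedSectionVars false
set_option linter.style.haveILetI false
set_option maxRecDepth 100000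

namespace Cfsg.Agent.MathieuByGraph

open Cfsg Cfsg.Agent.Char Cfsg.Agent.Small.Order459648 Cfsg.Agent.Char.PrimeSylowCount
open Cfsg.Agent.MTwelve.OrderFront (val_one)
open Cfsg.Agent.MTwentyFour.ByOrder (divList mem_divList dEven two_degree odd_degree)
open scoped ComplexConjugate

universe u

local instance fact_twentyThree : Fact (Nat.Prime 23) := ⟨by norm_num⟩

theorem twopow_table : ∀ n ∈ divList, n % 23 = 1 → n ≠ 1 → ∀ e ∈ [11, 22], 10644480 % (n * e) = 0 →
    10644480 / (n * e) % 1024 ≠ 0 ∧ (n % 945 = 0 → n = 967680 ∧ e = 11) := by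
  decide +kernel

theorem option_table : ∀ n ∈ divList, n % 23 = 1 → n ≠ 1 → ∀ e ∈ [11, 22], 10644480 % (n * e) = 0 →
    n ∈ [24, 70] ∨ (n ∈ [576, 13824, 1680, 40320]) ∨ (n = 967680 ∧ e = 11) := by
  decide +kernel

theorem odd_eleven : ∀ d ∈ dEven, d % 23 ∈ [1, 22, 11, 12] → d % 2 = 1 →
    (145728 % d = 0 ∨ 3497472 % d = 0 ∨ 291456 % d = 0 ∨ 6994944 % d = 0) → d = 11 := by
  decide +kernel

variable {G : Type u} [Group G] [Fintype G] [IsSimpleGroup G]

theorem deg_mem (hd : Nat.card G ∣ 244823040) (hna : ¬ IsMulCommutative G) {χ : IrrCharacter G}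
    (hne : χ ≠ oneChar) (h23 : ¬ 23 ∣ charDegree (χ : G → ℂ)) : charDegree (χ : G → ℂ) ∈ dEven := by
  have h1 := one_lt_degree hna hne
  obtain ⟨-, hmem⟩ := degree_bound hd hne
  have hle : charDegree (χ : G → ℂ) ≤ 15646 := by simpa using (List.mem_filter.1 hmem).2
  refine List.mem_filter.2 ⟨mem_divList ((((show Nat.Prime 23 by norm_num).coprime_iff_not_dvd.2
    h23).symm).dvd_of_dvd_mul_left (((deg_dvd_card χ.2).trans hd).trans
      (show 244823040 ∣ 23 * 10644480 by norm_num))), ?_⟩
  simp [hle]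
  omega

/-- The share of the elements of order divisible by a prime is at least one over that prime. -/
theorem share {r : ℕ} [Fact r.Prime] (hr : r ∣ Nat.card G) (hr2 : ¬ r ^ 2 ∣ Nat.card G)
    (hna : ¬ IsMulCommutative G) : Nat.card G ≤ r * (pSet r G).card := by
  obtain ⟨m, hm⟩ := hr
  have hrp : r.Prime := Fact.out
  have hm1 : 1 < m := by
    rcases Nat.lt_or_ge 1 m with h | h
    · exact h
    · exfalso
      have hc : Nat.card G = r := by
        have h0 : m ≠ 0 := fun h0 => (Nat.card_pos (α := G)).ne' (by rw [hm, h0, mul_zero])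
        rw [hm, show m = 1 by omega, mul_one]
      haveI : IsCyclic G := isCyclic_of_prime_card hc
      exact hna IsCyclic.commutative
  have hmr : ¬ r ∣ m := fun h => hr2 (by rw [pow_two, hm]; exact Nat.mul_dvd_mul_left r h)
  obtain ⟨P, n, e, k, hP, hn, hk, hnek, -, -, he, -, -⟩ := data hm hmr hm1
  have h := pSet_frac P hP hn hk (by rw [hm, hnek])
  have he' : e ≤ r - 1 := Nat.le_of_dvd (by have := hrp.two_le; omega) he
  have h2 : (r - 1) * Nat.card G ≤ (r - 1) * (r * (pSet r G).card) := by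
    calc (r - 1) * Nat.card G ≤ r * e * (pSet r G).card := h
      _ ≤ r * (r - 1) * (pSet r G).card := Nat.mul_le_mul_right _ (Nat.mul_le_mul_left _ he')
      _ = (r - 1) * (r * (pSet r G).card) := by ring
  exact Nat.le_of_mul_le_mul_left h2 (by have := hrp.two_le; omega)

omit [IsSimpleGroup G] in
/-- An element of prime order `q` with the full part of `q` in the degree. -/
theorem false_of_full {p : ℕ} [Fact p.Prime] {M : Ideal AlgInt} (hM : IsPModular p M) (P : Sylow p G)
    (hP : Nat.card P = p) [IsSimpleGroup G] (hna : ¬ IsMulCommutative G) {χ : IrrCharacter G}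
    (hχ : χ ∈ principalBlock M G) {y : G} (hy : y ∈ (P : Subgroup G)) (hy1 : y ≠ 1) {q : ℕ} (hq : q.Prime)
    (hqp : q ≠ p) {v : G} (hv : orderOf v = q) (hc : v * y = y * v)
    (hd : q ^ (Nat.card G).factorization q ∣ charDegree (χ : G → ℂ)) (hp : ¬ p ∣ charDegree (χ : G → ℂ)) :
    False := by
  classical
  obtain ⟨n, μ, hn, hμ, htr, -⟩ := exists_eigen hna χ hv
  have hω : IsPrimitiveRoot (Complex.exp (2 * Real.pi * Complex.I / q)) q :=
    Complex.isPrimitiveRoot_exp q hq.ne_zero
  set c := Complex.exp (2 * Real.pi * Complex.I / q)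
  obtain ⟨m, hm⟩ := p_dvd_mult hM P hP hχ hy hy1 hq hqp (hv ▸ pow_orderOf_eq_one v) hc μ hμ htr hω.pow_eq_one
    (hω.ne_one hq.one_lt)
  have h := twist_eq μ hq.ne_zero hμ hω.pow_eq_one
  rw [Finset.sum_eq_single 0 (fun j hj hj0 => ?_) (fun h => absurd (Finset.mem_range.2 hq.pos) h), hm] at h
  · rw [pow_zero, one_mul, ← htr 0, pow_zero, val_one] at h
    have h2 : charDegree (χ : G → ℂ) = q * (p * m) := by exact_mod_cast h
    exact hp (h2 ▸ dvd_mul_of_dvd_right (dvd_mul_right p m) q)
  · rw [← htr j, BSW.defect_zero_vanish hq (by rw [← charDegree_eq_deg]; exact hd) (g := v ^ j) ?_, mul_zero]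
    have hnd : ¬ q ∣ j := fun h => by
      have := Nat.le_of_dvd (Nat.pos_of_ne_zero hj0) h
      have := Finset.mem_range.1 hj
      omega
    rw [orderOf_pow, hv, ((hq.coprime_iff_not_dvd).2 hnd).gcd_eq_one, Nat.div_one]

/-- A faithful degree eleven gives the order of the projective special linear group over twenty-three elements. -/
theorem deg_ne_eleven (hna : ¬ IsMulCommutative G) (h23 : 23 ∣ Nat.card G) (hsq : ¬ 23 ^ 2 ∣ Nat.card G)
    (hN : Nat.card G ≠ 6072) {χ : IrrCharacter G} (hne : χ ≠ oneChar) : charDegree (χ : G → ℂ) ≠ 11 := by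
  classical
  intro hd
  obtain ⟨n, ρ, hρ⟩ := irr_isCharacter χ.2
  have h1 : ρ.character 1 = (n : ℂ) := SmallSylow.char_one_nat ρ
  have hn : n = 11 := by
    rw [← hd, ← hρ, charDegree, h1, Complex.natCast_re, Nat.floor_natCast]
  subst hn
  have hinj : Function.Injective ρ := by
    intro a b hab
    refine inv_mul_eq_one.mp ?_
    by_contra hg
    refine SmallOrderGraph.norm_ne_deg hna hne hg ?_
    have h2 : ρ.character (a⁻¹ * b) = ρ.character 1 := by
      show LinearMap.trace ℂ _ (ρ (a⁻¹ * b)) = LinearMap.trace ℂ _ (ρ 1)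
      rw [map_mul, ← hab, ← map_mul, inv_mul_cancel, map_one]
    rw [← hρ, h2, h1, show charDegree ρ.character = 11 from by rw [hρ]; exact hd, Complex.norm_natCast]
  have hnn : ∀ H : Subgroup G, H.Normal → Nat.card H ≠ 23 := by
    intro H hH hc
    rcases IsSimpleGroup.eq_bot_or_eq_top_of_normal H hH with e | e
    · rw [e, Subgroup.card_bot] at hc; omega
    · rw [e, Subgroup.card_top] at hc
      haveI : IsCyclic G := isCyclic_of_prime_card hc
      exact hna IsCyclic.commutative
  obtain ⟨φ⟩ := HalfDegree.main (p := 23) (n := 11) (by norm_num) h23 hsq hnn ρ hinj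
  have h2 := Classical.Dickson.card_P2 (F := ZMod 23)
  have h3 := Nat.card_congr φ.toEquiv
  rw [← Subgroup.index_eq_card, Small.SmallOrders.center_eq_bot hna, Subgroup.index_bot] at h3
  rw [ZMod.card, show Nat.gcd 2 (23 - 1) = 2 from rfl] at h2
  omega

/-- The automiser and the order: only a few orders survive. -/
theorem twentyThree_options (hna : ¬ IsMulCommutative G) (hd : Nat.card G ∣ 244823040) (h23 : 23 ∣ Nat.card G) :
    (11 ∣ Nat.card G ∧ Nat.card G < 64009) ∨ Nat.card G = 10200960 ∨ Nat.card G = 244823040 ∨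
      ∃ (P : Sylow 23 G) (n e : ℕ), Nat.card P = 23 ∧
        Nat.card (Subgroup.centralizer ((P : Subgroup G) : Set G)) = 23 ∧
        (Subgroup.centralizer ((P : Subgroup G) : Set G)).relIndex
          (Subgroup.normalizer ((P : Subgroup G) : Set G)) = e ∧ Nat.card (Sylow 23 G) = n ∧
        ((Nat.card G = 425040 ∧ n = 1680 ∧ e = 11) ∨ (Nat.card G = 850080 ∧ n = 1680 ∧ e = 22) ∨
          (Nat.card G = 20401920 ∧ n = 40320 ∧ e = 22)) := by
  classical
  haveI : Fact (Nat.Prime 11) := ⟨by norm_num⟩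
  haveI : Fact (Nat.Prime 5) := ⟨by norm_num⟩
  have hbig : 6000 ≤ Nat.card G := by
    by_contra hlt
    have h := SmallOrderGraph.card_mem_orders hna (not_le.1 hlt)
    simp only [SmallOrderGraph.orders, List.mem_cons, List.not_mem_nil, or_false] at h
    omega
  obtain ⟨m, hm⟩ := id h23
  have hm' : m ∣ 10644480 := Nat.dvd_of_mul_dvd_mul_left (by norm_num : 0 < 23)
    (hm ▸ hd.trans (show 244823040 ∣ 23 * 10644480 by norm_num))
  have hm23 : ¬ 23 ∣ m := fun h => absurd (h.trans hm') (by norm_num)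
  have hsq : ¬ 23 ^ 2 ∣ Nat.card G := fun h => absurd (h.trans hd) (by norm_num)
  obtain ⟨P, n, e, k, hP, hn, hk, hnek, hn1, hne1, he22, he1, he⟩ := data (G := G) (p := 23) hm hm23 (by omega)
  have hC : Nat.card (Subgroup.centralizer ((P : Subgroup G) : Set G)) = 23 * k := hk
  have hk0 : k ≠ 0 := fun h0 => by rw [h0, mul_zero] at hnek; omega
  have hel : e = 2 ∨ e = 11 ∨ e = 22 := by
    have : e ≤ 22 := Nat.le_of_dvd (by norm_num) he22
    interval_cases e <;> simp_all <;> omega
  have hnM : n ∈ divList := mem_divList ((Dvd.intro (e * k) (by rw [← hnek, mul_assoc])).trans hm')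
  have hnem : 10644480 % (n * e) = 0 := Nat.mod_eq_zero_of_dvd ((Dvd.intro k hnek).trans hm')
  obtain ⟨t, ht, het⟩ : ∃ t, 0 < t ∧ e * t + 1 = 23 := by
    rcases hel with rfl | rfl | rfl
    exacts [⟨11, by norm_num⟩, ⟨2, by norm_num⟩, ⟨1, by norm_num⟩]
  obtain ⟨M, hM⟩ := exists_pModular (show Nat.Prime 23 by norm_num)
  obtain ⟨X, Y, a, δ, h, h1X, hone, hYc⟩ := Solv.BReyn.exists_principal_one_mem hM hP he (by omega) ht het
  change (oneChar : IrrCharacter G) ∈ X at h1X
  change a (oneChar : IrrCharacter G) = 1 at hone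
  obtain ⟨θ, hθ⟩ : Y.Nonempty := Finset.card_pos.1 (by omega)
  have hθne : θ ≠ oneChar := fun e1 => Finset.disjoint_left.1 h.disj h1X (e1 ▸ hθ)
  have hdX : ∀ χ ∈ X, charDegree (χ : G → ℂ) % 23 = 1 ∨ charDegree (χ : G → ℂ) % 23 = 22 := fun χ hχ => by
    have h2 := (h.a_congr χ hχ).eq
    rcases h.a_sign χ hχ with e' | e' <;> rw [e'] at h2 <;> omega
  have hdY : ∀ ψ ∈ Y, ¬ 23 ∣ charDegree (ψ : G → ℂ) ∧
      (e = 11 → charDegree (ψ : G → ℂ) % 23 ∈ [1, 22, 11, 12]) ∧
      (e = 22 → charDegree (ψ : G → ℂ) % 23 = 1 ∨ charDegree (ψ : G → ℂ) % 23 = 22) := fun ψ hψ => by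
    have h2 := (h.congrY ψ hψ).eq
    rcases h.sign with e' | e' <;> rw [e'] at h2 <;> rcases hel with rfl | rfl | rfl <;>
      refine ⟨by omega, fun he2 => ?_, fun he2 => ?_⟩ <;>
        (try simp only [List.mem_cons, List.not_mem_nil, or_false]) <;> omega
  have hrel : δ * (charDegree (θ : G → ℂ) : ℤ) = 1 + ∑ χ ∈ X.erase oneChar, a χ * (charDegree (χ : G → ℂ) : ℤ) := by
    have h2 := h.rel θ hθ 1 (by simp)
    rw [← Finset.add_sum_erase X _ h1X, hone] at h2
    simp only [val_one] at h2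
    have h3 : ((δ * (charDegree (θ : G → ℂ) : ℤ) : ℤ) : ℂ) =
        ((1 + ∑ χ ∈ X.erase oneChar, a χ * (charDegree (χ : G → ℂ) : ℤ) : ℤ) : ℂ) := by
      push_cast at h2 ⊢
      simp only [oneChar, charDegree] at h2 ⊢
      simpa using h2
    exact_mod_cast h3
  obtain ⟨y, hyP, hy, hyz⟩ := MathieuEleven.gen_prime hP
  have hy1 : y ≠ 1 := fun e' => by rw [e', orderOf_one] at hy; omega
  have hyC : ∀ v ∈ Subgroup.centralizer ((P : Subgroup G) : Set G), v * y = y * v := fun v hv =>
    (Subgroup.mem_centralizer_iff.1 hv y hyP).symm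
  have hsmall : ∀ χ : IrrCharacter G, χ ≠ oneChar → (χ ∈ X ∨ χ ∈ Y) → charDegree (χ : G → ℂ) ≤ 45 → k = 1 := by
    intro χ hne hmem hle
    have hpg := centralizer_sylow_isPGroup_of_small_degree hM (perfect hna) P χ
      ((h.mem_iff χ).mpr hmem) (faithful hne (by have := one_lt_degree hna hne; omega)) (by omega)
    obtain ⟨j, hj⟩ := hpg.exists_card_eq
    have hj1 : j < 2 := by
      by_contra hlt
      exact hsq ((pow_dvd_pow 23 (by omega : 2 ≤ j)).trans (hj ▸ Subgroup.card_subgroup_dvd_card _))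
    rw [hC] at hj
    interval_cases j <;> omega
  rcases eq_or_ne e 2 with rfl | he2
  · -- automiser of order two
    exfalso
    obtain ⟨χ, hsing⟩ : ∃ χ, X.erase oneChar = {χ} :=
      Finset.card_eq_one.1 ((Finset.card_erase_of_mem h1X).trans (by rw [h.cardX]))
    obtain ⟨hne, hχX⟩ := Finset.mem_erase.1 (show χ ∈ X.erase oneChar by rw [hsing]; simp)
    rw [hsing, Finset.sum_singleton] at hrel
    have h23χ : ¬ 23 ∣ charDegree (χ : G → ℂ) := by have := hdX χ hχX; omega
    have hdeg : charDegree (χ : G → ℂ) = 22 ∨ charDegree (χ : G → ℂ) = 45 := by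
      refine two_degree _ (deg_mem hd hna hne h23χ) (a χ) ?_ ?_ _
        (deg_mem hd hna hθne (hdY θ hθ).1) δ ?_ ?_ hrel
      · rcases h.a_sign χ hχX with h' | h' <;> simp [h']
      · exact Int.emod_eq_zero_of_dvd (Int.modEq_iff_dvd.1 (h.a_congr χ hχX).symm)
      · rcases h.sign with h' | h' <;> simp [h']
      · exact Int.emod_eq_zero_of_dvd (Int.modEq_iff_dvd.1 (h.congrY θ hθ).symm)
    have hk1 := hsmall χ hne (Or.inl hχX) (by omega)
    subst hk1
    have haχ : a χ = -1 := by
      have h2 := (h.a_congr χ hχX).eq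
      rcases h.a_sign χ hχX with e' | e' <;> rw [e'] at h2 ⊢
      omega
    have hA : ∀ x ∈ pSet 23 G, (χ : G → ℂ) x = -1 := fun x hx =>
      val_singular hM P hP hsq ((h.mem_iff χ).2 (Or.inl hχX))
        (fun w hw => by rw [h.a_val χ hχX w hw, haχ]; norm_num) (mem_pSet.1 hx)
    have hAc := pSet_frac P hP hn hk (by rw [hm, hnek])
    have hdN : charDegree (χ : G → ℂ) ∣ Nat.card G := deg_dvd_card χ.2
    have hkey : ∀ r : ℕ, [hr : Fact r.Prime] → r ≤ 11 → r ∣ charDegree (χ : G → ℂ) → ¬ r ^ 2 ∣ Nat.card G →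
        False := by
      intro r hr hr11 hrd hr2
      have hB : ∀ x ∈ pSet r G, (χ : G → ℂ) x = 0 := fun x hx => by
        refine BSW.defect_zero_vanish hr.out ?_ (mem_pSet.1 hx)
        rw [← charDegree_eq_deg]
        refine (pow_dvd_pow r ?_).trans ((pow_one r).symm ▸ hrd)
        by_contra hlt
        exact hr2 ((pow_dvd_pow r (show 2 ≤ (Nat.card G).factorization r by omega)).trans (Nat.ordProj_dvd _ _))
      have hne23 : (23 : ℕ) ≠ r := by omega
      have hdisj := pSet_disjoint (q := r) P hP hne23 (by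
        rw [hk, mul_one, Nat.prime_dvd_prime_iff_eq hr.out (by norm_num)]; exact hne23.symm)
      have hm2 := mass hne (pSet 23 G) (pSet r G) hdisj (Or.inr rfl) hA hB
      have hBc := share (hrd.trans hdN) hr2 hna
      have hB11 : r * (pSet r G).card ≤ 11 * (pSet r G).card := Nat.mul_le_mul_right _ hr11
      have hAN : (pSet 23 G).card ≤ Nat.card G := by
        rw [Nat.card_eq_fintype_card]; exact Finset.card_le_univ _
      have h0 : 0 < Nat.card G := Nat.card_pos
      generalize (pSet 23 G).card = A at hm2 hAc hAN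
      generalize (pSet r G).card = B at hm2 hBc hB11
      generalize Nat.card G = N at hm2 hAc hBc hAN h0
      have e1 : (11 * N : ℤ) ≤ 23 * A := by omega
      have e2 : (N : ℤ) ≤ 11 * B := by omega
      have e3 : (0 : ℤ) ≤ 12 * N - 23 * (N - A : ℤ) := by linarith
      have e4 : (0 : ℤ) ≤ 109 * N - 253 * (N - A - B : ℤ) := by linarith
      have e5 : (0 : ℤ) ≤ (N : ℤ) - A := by omega
      have e6 : (11 * N : ℤ) * (11 * N) ≤ (23 * A) * (23 * A) := mul_le_mul e1 e1 (by positivity) (by positivity)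
      have e7 := mul_nonneg e4 e5
      have e8 := mul_nonneg e3 (show (0 : ℤ) ≤ N by positivity)
      nlinarith [e6, e7, e8, hm2, mul_pos (show (0 : ℤ) < N by omega) (show (0 : ℤ) < N by omega)]
    rcases hdeg with hdeg | hdeg
    · exact hkey 11 le_rfl (by rw [hdeg]; norm_num) fun h => absurd (h.trans hd) (by norm_num)
    · exact hkey 5 (by norm_num) (by rw [hdeg]; norm_num) fun h => absurd (h.trans hd) (by norm_num)
  have he11 : e = 11 ∨ e = 22 := hel.resolve_left he2
  have hres : ∀ χ : IrrCharacter G, (χ ∈ X ∨ χ ∈ Y) →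
      ¬ 23 ∣ charDegree (χ : G → ℂ) ∧ charDegree (χ : G → ℂ) % 23 ∈ [1, 22, 11, 12] ∧
        (e = 22 → charDegree (χ : G → ℂ) % 23 = 1 ∨ charDegree (χ : G → ℂ) % 23 = 22) := by
    rintro χ (hX | hY)
    · refine ⟨?_, ?_, fun _ => hdX χ hX⟩
      · have := hdX χ hX; omega
      · rcases hdX χ hX with e' | e' <;> rw [e'] <;> simp
    · refine ⟨(hdY χ hY).1, ?_, (hdY χ hY).2.2⟩
      rcases he11 with he' | he'
      · exact (hdY χ hY).2.1 he'
      · rcases (hdY χ hY).2.2 he' with e' | e' <;> rw [e'] <;> simp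
  obtain ⟨χ, hne, hmem, hodd⟩ : ∃ χ : IrrCharacter G, χ ≠ oneChar ∧ (χ ∈ X ∨ χ ∈ Y) ∧
      charDegree (χ : G → ℂ) % 2 = 1 := by
    by_contra hcon
    push Not at hcon
    have h1 : (2 : ℤ) ∣ δ * (charDegree (θ : G → ℂ) : ℤ) := Dvd.dvd.mul_left (Int.natCast_dvd_natCast.2
      (Nat.dvd_of_mod_eq_zero ((Nat.mod_two_eq_zero_or_one _).resolve_right (hcon θ hθne (Or.inr hθ))))) _
    have h2 : (2 : ℤ) ∣ ∑ χ ∈ X.erase oneChar, a χ * (charDegree (χ : G → ℂ) : ℤ) :=
      Finset.dvd_sum fun χ hχ => Dvd.dvd.mul_left (Int.natCast_dvd_natCast.2 (Nat.dvd_of_mod_eq_zero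
        ((Nat.mod_two_eq_zero_or_one _).resolve_right
          (hcon χ (Finset.mem_erase.1 hχ).1 (Or.inl (Finset.mem_erase.1 hχ).2))))) _
    omega
  obtain ⟨hd23, hmod, hmod22⟩ := hres χ hmem
  have hk1 : k = 1 := by
    by_contra hk1
    have hl := odd_degree _ (deg_mem hd hna hne hd23) hmod hodd
    simp only [List.mem_cons, List.not_mem_nil, or_false] at hl
    rcases hl with e' | e' | e' | hl
    iterate 3 exact hk1 (hsmall χ hne hmem (by omega))
    have helist : e ∈ [11, 22] := by simpa using he11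
    obtain ⟨ht1024, ht945⟩ := twopow_table n hnM hn1 hne1 e helist hnem
    have hk11 : ¬ 11 ∣ k := fun h11 => by
      have h2 : 11 * 11 ∣ m := by
        rw [← hnek, mul_assoc]
        exact Dvd.dvd.mul_left (Nat.mul_dvd_mul (by rcases he11 with e2 | e2 <;> rw [e2] <;> norm_num) h11) n
      exact absurd (h2.trans hm') (by norm_num)
    have hkM : k ∣ 10644480 := (Dvd.intro_left (n * e) hnek).trans hm'
    have hkNe : k ∣ 10644480 / (n * e) := Nat.dvd_div_of_mul_dvd (hnek ▸ hm')
    -- the choice of the prime of the centraliser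
    obtain ⟨q, hq, hqk, hqmod, hqodd⟩ : ∃ q : ℕ, q.Prime ∧ q ∣ k ∧ q ^ k.factorization q % 11 ≠ 1 ∧
        (q = 2 → ∀ s : ℕ, s.Prime → s ∣ k → s = 2) := by
      by_cases hodd' : ∃ s : ℕ, s.Prime ∧ s ∣ k ∧ s ≠ 2
      · obtain ⟨s, hs, hsk, hs2⟩ := hodd'
        refine ⟨s, hs, hsk, ?_, fun e2 => absurd e2 hs2⟩
        have hs11 : s ≠ 11 := fun e2 => hk11 (e2 ▸ hsk)
        have hsM : s ∣ 2 ^ 10 * 3 ^ 3 * 5 * 7 * 11 := by norm_num; exact hsk.trans hkM
        have hsl : s = 3 ∨ s = 5 ∨ s = 7 := by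
          simp only [hs.dvd_mul] at hsM
          rcases hsM with ((((h2 | h2) | h2) | h2) | h2)
          · exact absurd ((Nat.prime_dvd_prime_iff_eq hs Nat.prime_two).1 (hs.dvd_of_dvd_pow h2)) hs2
          · exact Or.inl ((Nat.prime_dvd_prime_iff_eq hs Nat.prime_three).1 (hs.dvd_of_dvd_pow h2))
          · exact Or.inr (Or.inl ((Nat.prime_dvd_prime_iff_eq hs Nat.prime_five).1 h2))
          · exact Or.inr (Or.inr ((Nat.prime_dvd_prime_iff_eq hs (by norm_num)).1 h2))
          · exact absurd ((Nat.prime_dvd_prime_iff_eq hs (by norm_num)).1 h2) hs11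
        have h1 := (hs.dvd_iff_one_le_factorization hk0).1 hsk
        have hb : k.factorization s ≤ 3 := by
          by_contra hlt
          have h3 : s ^ 4 ∣ 10644480 := ((pow_dvd_pow s (by omega)).trans (Nat.ordProj_dvd k s)).trans hkM
          rcases hsl with rfl | rfl | rfl <;> norm_num at h3
        generalize k.factorization s = j at h1 hb ⊢
        rcases hsl with rfl | rfl | rfl <;> interval_cases j <;> norm_num
      · push Not at hodd'
        obtain ⟨s, hs, hsk⟩ := Nat.exists_prime_and_dvd hk1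
        obtain rfl := hodd' s hs hsk
        refine ⟨2, hs, hsk, ?_, fun _ => hodd'⟩
        have h1 := (hs.dvd_iff_one_le_factorization hk0).1 hsk
        have hb : k.factorization 2 < 10 := by
          by_contra hlt
          exact ht1024 (Nat.mod_eq_zero_of_dvd
            ((((pow_dvd_pow 2 (not_lt.1 hlt)).trans (Nat.ordProj_dvd k 2))).trans hkNe))
        generalize k.factorization 2 = j at h1 hb ⊢
        interval_cases j <;> norm_num
    haveI := Fact.mk hq
    have hq23 : q ≠ 23 := fun e2 => absurd ((e2 ▸ hqk).trans hkM) (by norm_num)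
    have hq11 : q ≠ 11 := fun e2 => hk11 (e2 ▸ hqk)
    obtain ⟨v, f, hvC, hv, hf, hfv⟩ := exists_pair P (r := 11) hC he
      (by rcases he11 with e2 | e2 <;> rw [e2] <;> norm_num) hq23 hqmod hk0
    rcases hl with e' | e' | e'
    iterate 2
      exact false_of_two_primes hna hM P hP ((h.mem_iff χ).2 hmem) hne (r := 11) (by norm_num) (by norm_num)
        (by rw [e']; norm_num) (fun h => absurd (h.trans hd) (by norm_num)) hyP hy1 hq hq23 hq11 hv (hyC v hvC)
        (hf ▸ Subgroup.orderOf_dvd_natCard _ (Subgroup.mem_centralizer_singleton_iff.2 hfv)) (by omega)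
    by_cases hq2 : q = 2
    · subst hq2
      have hN : 108056025 ≤ Nat.card G := by
        have h1 := (degree_bound hd hne).1
        rw [e'] at h1
        omega
      obtain ⟨c, hc⟩ := id hd
      have hc2 : c ≤ 2 := by
        by_contra hlt
        have := Nat.mul_le_mul hN (not_le.1 hlt)
        omega
      have h945 : 945 ∣ n * e * k := by
        have hc0 : c ≠ 0 := by rintro rfl; omega
        interval_cases c <;> omega
      have hkc : Nat.Coprime 945 k := Nat.coprime_of_dvd fun s hs h1 h2 => by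
        have h3 : s = 2 := hqodd rfl s hs h2
        subst h3
        norm_num at h1
      have h1 := ht945 (Nat.mod_eq_zero_of_dvd (by
        have h2 := hkc.dvd_of_dvd_mul_right h945
        rcases he11 with rfl | rfl
        · exact (Nat.Coprime.dvd_of_dvd_mul_right (by norm_num) h2)
        · exact (Nat.Coprime.dvd_of_dvd_mul_right (by norm_num) h2)))
      obtain ⟨rfl, rfl⟩ := h1
      have : k ≤ 1 := by
        have h2 := Nat.le_of_dvd (by norm_num) hkNe
        norm_num at h2
        exact h2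
      omega
    · refine false_of_full hM P hP hna ((h.mem_iff χ).2 hmem) hyP hy1 hq hq23 hv (hyC v hvC) ?_ hd23
      have h1 : (Nat.card G).factorization q ≤ (244823040 : ℕ).factorization q :=
        (Nat.factorization_le_iff_dvd Nat.card_pos.ne' (by norm_num)).2 hd q
      refine (pow_dvd_pow q h1).trans ?_
      have hqM : q ^ (244823040 : ℕ).factorization q ∣ 10395 * 2 ^ 10 * 23 :=
        (Nat.ordProj_dvd _ _).trans (show 244823040 ∣ 10395 * 2 ^ 10 * 23 by norm_num)
      rw [e']
      refine Nat.Coprime.dvd_of_dvd_mul_right ?_ (Nat.Coprime.dvd_of_dvd_mul_right ?_ hqM)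
      · exact ((Nat.coprime_primes hq Nat.prime_two).2 hq2).pow _ _
      · exact ((Nat.coprime_primes hq (by norm_num)).2 hq23).pow_left _
  subst hk1
  rw [mul_one] at hC hnek
  have hG : Nat.card G = 23 * (n * e) := by rw [hm, hnek]
  rcases option_table n hnM hn1 hne1 e (by simpa using he11) hnem with hsm | hmid | ⟨rfl, rfl⟩
  · refine Or.inl ?_
    simp only [List.mem_cons, List.not_mem_nil, or_false] at hsm
    rcases hsm with rfl | rfl <;> rcases he11 with rfl | rfl <;> refine ⟨?_, ?_⟩ <;> omega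
  · simp only [List.mem_cons, List.not_mem_nil, or_false] at hmid
    rcases hmid with rfl | rfl | rfl | rfl
    · exfalso
      have hdN : charDegree (χ : G → ℂ) ∣ Nat.card G := deg_dvd_card χ.2
      have h11 := odd_eleven _ (deg_mem hd hna hne hd23) hmod hodd (by
        rcases he11 with rfl | rfl <;> rw [hG] at hdN <;> norm_num at hdN
        · exact Or.inl (Nat.mod_eq_zero_of_dvd hdN)
        · exact Or.inr (Or.inr (Or.inl (Nat.mod_eq_zero_of_dvd hdN))))
      exact deg_ne_eleven hna h23 hsq (by rcases he11 with rfl | rfl <;> omega) hne h11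
    · exfalso
      have hdN : charDegree (χ : G → ℂ) ∣ Nat.card G := deg_dvd_card χ.2
      have h11 := odd_eleven _ (deg_mem hd hna hne hd23) hmod hodd (by
        rcases he11 with rfl | rfl <;> rw [hG] at hdN <;> norm_num at hdN
        · exact Or.inr (Or.inl (Nat.mod_eq_zero_of_dvd hdN))
        · exact Or.inr (Or.inr (Or.inr (Nat.mod_eq_zero_of_dvd hdN))))
      exact deg_ne_eleven hna h23 hsq (by rcases he11 with rfl | rfl <;> omega) hne h11
    · refine Or.inr (Or.inr (Or.inr ⟨P, 1680, e, hP, hC, he, hn, ?_⟩))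
      rcases he11 with rfl | rfl <;> omega
    · rcases he11 with rfl | rfl
      · exact Or.inr (Or.inl (by omega))
      · exact Or.inr (Or.inr (Or.inr ⟨P, 40320, 22, hP, hC, he, hn, by omega⟩))
  · exact Or.inr (Or.inr (Or.inl (by omega)))

end Cfsg.Agent.MathieuByGraph
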