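import Cfsg.Agent.Lib.Spor.MathieuByGraph.Top
import Cfsg.Agent.Lib.Char.SmallOrderGraph.List

/-!
A group of order 7920 with a degree divisible by 55 is simple.
-/

set_option autoImplicit false
set_option linter.style.haveILetI false
set_option linter.unusedSectionVars false

namespace Cfsg.Agent.MathieuByGraph

open Cfsg Cfsg.Agent.Char

universe u

variable {G : Type u} [Group G] [Finite G]

/-- When the top has the full order the group is simple. -/
theorem simple_of_full {N : ℕ} (hG : Nat.card G = N) (L : Subgroup G)
    [IsSimpleGroup (L ⧸ Subgroup.center L)]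
    (hN : L.index * Nat.card (Subgroup.center L) * Nat.card (L ⧸ Subgroup.center L) = N)
    (ho : Nat.card (L ⧸ Subgroup.center L) = N) : IsSimpleGroup G := by
  have h0 : 0 < N := hG ▸ Nat.card_pos
  rw [ho] at hN
  have h1 : L.index * Nat.card (Subgroup.center L) = 1 := by
    have h : L.index * Nat.card (Subgroup.center L) * N = 1 * N := by rw [hN, one_mul]
    exact Nat.eq_of_mul_eq_mul_right h0 h
  have hLtop : L = ⊤ := Subgroup.index_eq_one.1 (Nat.eq_one_of_mul_eq_one_right h1)
  have hZ : Subgroup.center L = ⊥ := Subgroup.card_eq_one.1 (Nat.eq_one_of_mul_eq_one_left h1)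
  let e : (L ⧸ Subgroup.center L) ≃* G := (QuotientGroup.quotientMulEquivOfEq hZ).trans
    (QuotientGroup.quotientBot.trans ((MulEquiv.subgroupCongr hLtop).trans Subgroup.topEquiv))
  exact MulEquiv.isSimpleGroup e.symm

/-- The smallest case. -/
theorem isSimple_eleven [Fintype G] (hG : Nat.card G = 7920) (χ : IrrCharacter G)
    (h55 : 55 ∣ deg (χ : G → ℂ)) : IsSimpleGroup G := by
  classical
  haveI : Fact (Nat.Prime 11) := ⟨by norm_num⟩
  have hm : ModFree 720 11 :=
    modFree_of_check [(2, 4), (3, 2), (5, 1)] (by norm_num) (by norm_num) (by decide +kernel) (by decide)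
  obtain ⟨L, hLn, -, hT, hna, hrT, hN⟩ := exists_top (r := 11) (m := 720) (by rw [hG]) hm (by norm_num) χ
    ((dvd_mul_left 11 5).trans h55)
  haveI := hLn
  haveI := hT
  refine simple_of_full (N := 7920) hG L (by rw [hN]) ?_
  set o := Nat.card (L ⧸ Subgroup.center L) with ho
  set a := L.index * Nat.card (Subgroup.center L) with ha
  have hN' : a * o = 7920 := by rw [hN]
  have ha0 : 0 < a := Nat.pos_of_ne_zero fun e => by rw [e, zero_mul] at hN'; omega
  rcases Nat.lt_or_ge o 6000 with hlt | hge
  · exfalso
    have h := SmallOrderGraph.card_mem_orders hna (ho ▸ hlt)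
    rw [← ho] at h
    simp only [SmallOrderGraph.orders, List.mem_cons, List.not_mem_nil, or_false] at h
    have h660 : o = 660 := by omega
    rw [h660] at hN'
    have ha12 : a = 12 := by omega
    have hi : L.index ∣ 12 := ha12 ▸ dvd_mul_right _ _
    have h5 := dvd_cofactor L χ (p := 11) (q := 5) (by norm_num) (by norm_num) (by rw [show 11 * 5 = 55 from rfl]; exact h55)
      (fun h => by have := h.trans hi; norm_num at this) (by rw [← ho, h660]; norm_num)
    have := h5.trans hi
    norm_num at this
  · have : a < 2 := by
      by_contra h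
      have := Nat.mul_le_mul (Nat.le_of_not_lt h) hge
      omega
    have : a = 1 := by omega
    rw [this, one_mul] at hN'
    exact hN'

end Cfsg.Agent.MathieuByGraph
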