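import Cfsg.Agent.Lib.Spor.MathieuByGraph.DegreesTwentyFour
import Cfsg.Agent.Lib.Char.BlockBasic
import Cfsg.Agent.Lib.Char.Glauberman
import Cfsg.Agent.Lib.Small.MathieuEleven.Degrees
import Cfsg.Agent.Lib.Small.MathieuEleven.Iso
import Cfsg.Agent.Lib.Spor.MTwentyTwoOrder.Recog
import Cfsg.Agent.Lib.Spor.MTwentyTwoOrder.Table
import Cfsg.Agent.Lib.Spor.MTwentyThreeOrder.Table
import Cfsg.Agent.Lib.Spor.MTwentyThreeNse.Iso
import Cfsg.Agent.Lib.Spor.MTwentyThreeNse.ModelCounts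

/-!
The orders and the edges of the degree graphs of the four Mathieu groups used in their recognition.
-/

set_option autoImplicit false
set_option linter.style.haveILetI false

namespace Cfsg.Agent.MathieuByGraph

open Cfsg Cfsg.Agent.Char

/-- Two primes joined in the degree graph of one group divide a degree of a group with the same graph. -/
theorem exists_deg_of_graph {M G : Type*} [Group M] [Group G] (h : Cfsg.degreeGraph G = Cfsg.degreeGraph M)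
    {p q : ℕ} (hp : p.Prime) (hq : q.Prime) (hpq : p ≠ q) (hd : ∃ d ∈ charDegrees M, p * q ∣ d) :
    ∃ χ : IrrCharacter G, p * q ∣ deg (χ : G → ℂ) := by
  have h1 : (Cfsg.degreeGraph M).Adj p q := ⟨hpq, hp, hq, hd⟩
  rw [← h] at h1
  obtain ⟨-, -, -, _, ⟨χ, rfl⟩, hd'⟩ := h1
  exact ⟨χ, hd'⟩

/-- Degrees are preserved by isomorphisms. -/
theorem charDegrees_subset {M H : Type*} [Group M] [Finite M] [Group H] [Finite H] (e : M ≃* H) {d : ℕ}
    (hd : d ∈ charDegrees H) : d ∈ charDegrees M := by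
  haveI := Fintype.ofFinite M
  haveI := Fintype.ofFinite H
  obtain ⟨χ, rfl⟩ := hd
  refine ⟨⟨_, isIrrCharacter_comp_equiv e χ.2⟩, ?_⟩
  simp [charDegree_eq_deg, deg, map_one]

theorem of_eleven {M : Type*} [Group M] [Finite M] (hM : Cfsg.Spor.IsoM11 M) :
    Nat.card M = 7920 ∧ ∃ d ∈ charDegrees M, 5 * 11 ∣ d := by
  classical
  obtain ⟨e⟩ := hM
  haveI := Fintype.ofFinite ↥Cfsg.Spor.M11
  refine ⟨(Nat.card_congr e.toEquiv).trans MathieuEleven.isM11_concrete.2, ?_⟩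
  have h := (MathieuEleven.degrees MathieuEleven.isM11_concrete).2 55
  rw [if_pos (by norm_num)] at h
  obtain ⟨⟨χ, hχ⟩⟩ := (Nat.card_ne_zero.1 (by rw [h]; norm_num :
    Nat.card {χ : IrrCharacter ↥Cfsg.Spor.M11 // deg (χ : ↥Cfsg.Spor.M11 → ℂ) = 55} ≠ 0)).1
  exact ⟨55, charDegrees_subset e ⟨χ, hχ⟩, by norm_num⟩

theorem of_twentyTwo {M : Type*} [Group M] [Finite M] (hM : Cfsg.Spor.IsoM22 M) :
    Nat.card M = 443520 ∧ (∃ d ∈ charDegrees M, 5 * 11 ∣ d) ∧ ∃ d ∈ charDegrees M, 3 * 11 ∣ d := by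
  classical
  obtain ⟨e⟩ := hM
  haveI := Fintype.ofFinite ↥Cfsg.Spor.M22
  obtain ⟨hs, hc⟩ := MTwentyTwo.ByOrder.isM22_concrete
  haveI := hs
  obtain ⟨F, ⟨T⟩, -⟩ := MTwentyTwo.ByOrder.exists_tbl hc
  obtain ⟨-, -, -, -, -, hq, -, -, hu, -⟩ := T.degrees
  exact ⟨(Nat.card_congr e.toEquiv).trans hc, ⟨55, charDegrees_subset e ⟨T.q, hq⟩, by norm_num⟩,
    231, charDegrees_subset e ⟨T.u, hu⟩, by norm_num⟩

theorem of_twentyThree {M : Type*} [Group M] [Finite M] (hM : Cfsg.Spor.IsoM23 M) :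
    Nat.card M = 10200960 ∧ ∃ d ∈ charDegrees M, 11 * 23 ∣ d := by
  classical
  obtain ⟨e⟩ := hM
  haveI := Fintype.ofFinite ↥Cfsg.Spor.M23
  haveI := MTwentyThree.Nse.simple_m23
  have hc : Nat.card ↥Cfsg.Spor.M23 = 10200960 := MTwentyThree.Nse.card_M
  obtain ⟨T⟩ := MTwentyThree.ByOrder.exists_table hc
  exact ⟨(Nat.card_congr e.toEquiv).trans hc, 253, charDegrees_subset e ⟨T.c 8, T.deg 8⟩, by norm_num⟩

theorem of_twentyFour {M : Type*} [Group M] [Finite M] (hM : Cfsg.Spor.IsoM24 M) :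
    Nat.card M = 244823040 ∧ (∃ d ∈ charDegrees M, 11 * 23 ∣ d) ∧ ∃ d ∈ charDegrees M, 7 * 23 ∣ d := by
  classical
  obtain ⟨e⟩ := hM
  haveI := Fintype.ofFinite ↥Cfsg.M24
  obtain ⟨h1, h2⟩ := TwentyFour.degrees
  exact ⟨(Nat.card_congr e.toEquiv).trans Cfsg.Agent.Spor.card_M24, ⟨253, charDegrees_subset e h1, by norm_num⟩,
    483, charDegrees_subset e h2, by norm_num⟩

end Cfsg.Agent.MathieuByGraph
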