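import Cfsg.Prelude.Def_KGroupFacts
import Mathlib.Algebra.Group.Shrink

/-!
The centre of a perfect group is trivial when its quotient has trivial multiplier.
-/

set_option autoImplicit false
set_option linter.style.haveILetI false

namespace Cfsg.Agent.MathieuByGraph

open Cfsg

theorem center_eq_bot {L : Type*} [Group L] [Finite L] (hperf : commutator L = ⊤) {H : Type} [Group H] [Finite H]
    (hH : Cfsg.HasCyclicSchurMultiplier H 1) (f : (L ⧸ Subgroup.center L) ≃* H) : Subgroup.center L = ⊥ := by
  haveI : Finite (Shrink.{0} L) := Finite.of_equiv L (equivShrink.{0} L)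
  let s : Shrink.{0} L ≃* L := Shrink.mulEquiv
  let σ : Shrink.{0} L →* H := f.toMonoidHom.comp ((QuotientGroup.mk' (Subgroup.center L)).comp s.toMonoidHom)
  have hker : ∀ a, σ a = 1 ↔ s a ∈ Subgroup.center L := fun a => by
    show f (QuotientGroup.mk' (Subgroup.center L) (s a)) = 1 ↔ _
    rw [EmbeddingLike.map_eq_one_iff]
    exact QuotientGroup.eq_one_iff _
  have hstem : Cfsg.IsStemExtension σ := by
    refine ⟨f.surjective.comp ((QuotientGroup.mk'_surjective _).comp s.surjective), fun a ha => ?_, fun a _ => ?_⟩
    · rw [Subgroup.mem_center_iff]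
      intro b
      refine s.injective ?_
      rw [map_mul, map_mul]
      exact Subgroup.mem_center_iff.1 ((hker a).1 ha) (s b)
    · have h : (commutator (Shrink.{0} L)).map s.toMonoidHom = commutator L := by
        rw [commutator_def, Subgroup.map_commutator, Subgroup.map_top_of_surjective _ s.surjective, commutator_def]
      obtain ⟨b, hb, hba⟩ : s a ∈ (commutator (Shrink.{0} L)).map s.toMonoidHom := by
        rw [h, hperf]; exact Subgroup.mem_top _
      exact s.injective hba ▸ hb
  obtain ⟨π, hπ⟩ := hH.2 (Shrink.{0} L) σ hstem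
  rw [eq_bot_iff]
  intro z hz
  haveI : Subsingleton σ.ker := hπ.subsingleton
  have h := Subsingleton.elim (⟨s.symm z, (hker _).2 (by rw [s.apply_symm_apply]; exact hz)⟩ : σ.ker) 1
  have h2 : s.symm z = 1 := congrArg Subtype.val h
  rw [Subgroup.mem_bot]
  exact s.symm.injective (h2.trans (map_one s.symm).symm)

end Cfsg.Agent.MathieuByGraph
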