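import Cfsg.Agent.Lib.Spor.MathieuByGraph.EightyEight
import Cfsg.Agent.Lib.Spor.MathieuByGraph.Eleven
import Cfsg.Agent.Lib.Spor.MathieuByGraph.Models
import Cfsg.Agent.Lib.Spor.MathieuByGraph.StemCenter
import Cfsg.Agent.Lib.Spor.MTwelve.RecogGraph
import Cfsg.Agent.Lib.Spor.MathieuMultTwentyThree
import Cfsg.Agent.S1663
import Cfsg.Agent.S1664

/-!
Groups of the order of one of four Mathieu groups with the same degree graph are simple.
-/

set_option autoImplicit false
set_option linter.style.haveILetI false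
set_option maxRecDepth 100000

namespace Cfsg.Agent.MathieuByGraph

open Cfsg Cfsg.Agent.Char

universe u

variable {G : Type u} [Group G] [Finite G]

theorem iso_eleven (hG : Nat.card G = 7920) (χ : IrrCharacter G) (h55 : 55 ∣ deg (χ : G → ℂ)) :
    Cfsg.Spor.IsoM11 G := by
  haveI := Fintype.ofFinite G
  exact MathieuEleven.iso_of_isM11 ⟨isSimple_eleven hG χ h55, hG⟩ MathieuEleven.isM11_concrete

theorem iso_twentyTwo (hG : Nat.card G = 443520) (χ : IrrCharacter G) (h55 : 55 ∣ deg (χ : G → ℂ))
    (ψ : IrrCharacter G) (h33 : 33 ∣ deg (ψ : G → ℂ)) : Cfsg.Spor.IsoM22 G := by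
  classical
  haveI := Fintype.ofFinite G
  haveI : Fact (Nat.Prime 11) := ⟨by norm_num⟩
  have hm : ModFree 40320 11 :=
    modFree_of_check [(2, 7), (3, 2), (5, 1), (7, 1)] (by norm_num) (by norm_num) (by decide +kernel) (by decide)
  obtain ⟨L, hLn, hperf, hT, hna, hrT, hN⟩ := exists_top (r := 11) (m := 40320) (by rw [hG]) hm (by norm_num) χ
    ((by norm_num : 11 ∣ 55).trans h55)
  set o := Nat.card (L ⧸ Subgroup.center L) with ho
  have hod : o ∣ 443520 := (Dvd.intro_left _ hN).trans (by norm_num)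
  haveI := Fintype.ofFinite (L ⧸ Subgroup.center L)
  have hoN : L.index ∣ 443520 / o := by
    refine Nat.dvd_div_of_mul_dvd ?_
    rw [mul_comm]
    exact ⟨Nat.card (Subgroup.center L), by rw [mul_right_comm, hN]⟩
  rcases lt_or_ge o 6000 with hlt | hge
  · exfalso
    have h660 : o = 660 := by
      have h := SmallOrderGraph.card_mem_orders hna hlt
      rw [← ho] at h
      simp only [SmallOrderGraph.orders, List.mem_cons, List.not_mem_nil, or_false] at h
      omega
    obtain ⟨θ, hd, hsq⟩ := exists_below L χ h55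
      (Nat.Coprime.coprime_dvd_right (hoN.trans (dvd_of_eq (by rw [h660]))) (by norm_num))
    rw [← ho, h660] at hsq
    have := Nat.pow_le_pow_left (Nat.le_of_dvd (deg_pos θ.2) hd) 2
    omega
  rcases order_eleven hna hod hrT hge with h7920 | hfull
  · exfalso
    obtain ⟨f⟩ := MathieuEleven.iso_of_isM11 (G := L ⧸ Subgroup.center L) ⟨hT, h7920⟩ MathieuEleven.isM11_concrete
    have hZ := center_eq_bot hperf Cfsg.Agent.Spor.MathieuMult.eleven_trivial f
    let e : L ≃* L ⧸ Subgroup.center L :=
      QuotientGroup.quotientBot.symm.trans (QuotientGroup.quotientMulEquivOfEq hZ.symm)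
    have hL : Cfsg.IsM11 L := ⟨MulEquiv.isSimpleGroup e, (Nat.card_congr e.toEquiv).trans h7920⟩
    obtain ⟨θ, hd, -⟩ := exists_below L ψ h33
      (Nat.Coprime.coprime_dvd_right (hoN.trans (dvd_of_eq (by rw [show o = 7920 from h7920]))) (by norm_num))
    haveI := Fintype.ofFinite L
    have h := MTwelve.RecogGraph.degree_list hL θ
    simp only [List.mem_cons, List.not_mem_nil, or_false] at h
    rcases h with e' | e' | e' | e' | e' | e' | e' <;> rw [e'] at hd <;> norm_num at hd
  · exact S1663.result ⟨simple_of_full hG L (by rw [hN]) hfull, hG⟩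

/-- The top of a group with a degree divisible by 253 is large. -/
theorem top_large {N : ℕ} (hN : N ∣ 244823040) (L : Subgroup G) [L.Normal] [Fintype G]
    [IsSimpleGroup (L ⧸ Subgroup.center L)] (hna : ¬ IsMulCommutative (L ⧸ Subgroup.center L))
    (h23 : 23 ∣ Nat.card (L ⧸ Subgroup.center L))
    (hmul : L.index * Nat.card (Subgroup.center L) * Nat.card (L ⧸ Subgroup.center L) = N)
    (χ : IrrCharacter G) (h253 : 253 ∣ deg (χ : G → ℂ)) :
    Nat.card (L ⧸ Subgroup.center L) = 10200960 ∨ Nat.card (L ⧸ Subgroup.center L) = 244823040 := by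
  haveI := Fintype.ofFinite (L ⧸ Subgroup.center L)
  rcases order_twentyThree hna ((Dvd.intro_left _ hmul).trans hN) h23 with ⟨h11, hlt⟩ | h | h
  · exfalso
    have hb : ∀ p : ℕ, p.Prime → p ∣ Nat.card (L ⧸ Subgroup.center L) → ¬ p * p ∣ 244823040 →
        Nat.Coprime p L.index := fun p hp hpo hp2 => by
      refine (Nat.Prime.coprime_iff_not_dvd hp).2 fun hi => hp2 ?_
      refine (Nat.mul_dvd_mul (hi.trans (dvd_mul_right _ (Nat.card (Subgroup.center L)))) hpo).trans ?_
      rw [hmul]
      exact hN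
    have hco : Nat.Coprime 253 L.index := by
      rw [show 253 = 11 * 23 from rfl]
      exact Nat.Coprime.mul_left (hb 11 (by norm_num) h11 (by norm_num)) (hb 23 (by norm_num) h23 (by norm_num))
    obtain ⟨θ, hd, hsq⟩ := exists_below L χ h253 hco
    have := Nat.pow_le_pow_left (Nat.le_of_dvd (deg_pos θ.2) hd) 2
    omega
  · exact Or.inl h
  · exact Or.inr h

theorem iso_twentyThree (hG : Nat.card G = 10200960) (χ : IrrCharacter G) (h253 : 253 ∣ deg (χ : G → ℂ)) :
    Cfsg.Spor.IsoM23 G := by
  classical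
  haveI := Fintype.ofFinite G
  haveI : Fact (Nat.Prime 23) := ⟨by norm_num⟩
  have hm : ModFree 443520 23 :=
    modFree_of_check [(2, 7), (3, 2), (5, 1), (7, 1), (11, 1)] (by norm_num) (by norm_num) (by decide +kernel)
      (by decide)
  obtain ⟨L, hLn, -, hT, hna, hrT, hN⟩ := exists_top (r := 23) (m := 443520) (by rw [hG]) hm (by norm_num) χ
    ((by norm_num : 23 ∣ 253).trans h253)
  rcases top_large (by norm_num) L hna hrT hN χ h253 with h | h
  · exact S1664.result ⟨simple_of_full hG L (by rw [hN]) h, hG⟩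
  · exfalso
    have := (Dvd.intro_left _ hN : Nat.card (L ⧸ Subgroup.center L) ∣ _)
    rw [h] at this
    norm_num at this

theorem simple_twentyFour (hG : Nat.card G = 244823040) (χ : IrrCharacter G) (h253 : 253 ∣ deg (χ : G → ℂ))
    (ψ : IrrCharacter G) (h161 : 161 ∣ deg (ψ : G → ℂ)) : IsSimpleGroup G := by
  classical
  haveI := Fintype.ofFinite G
  haveI : Fact (Nat.Prime 23) := ⟨by norm_num⟩
  have hm : ModFree 10644480 23 :=
    modFree_of_check [(2, 10), (3, 3), (5, 1), (7, 1), (11, 1)] (by norm_num) (by norm_num) (by decide +kernel)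
      (by decide)
  obtain ⟨L, hLn, hperf, hT, hna, hrT, hN⟩ := exists_top (r := 23) (m := 10644480) (by rw [hG]) hm (by norm_num) χ
    ((by norm_num : 23 ∣ 253).trans h253)
  rcases top_large (by norm_num) L hna hrT hN χ h253 with h | h
  swap
  · exact simple_of_full hG L (by rw [hN]) h
  exfalso
  have hi : L.index ∣ 24 := by
    refine ⟨Nat.card (Subgroup.center L), ?_⟩
    have h2 := hN
    rw [h] at h2
    omega
  obtain ⟨f⟩ := S1664.result (G := L ⧸ Subgroup.center L) ⟨hT, h⟩
  have hZ := center_eq_bot hperf Cfsg.Agent.Spor.MathieuMult.TwentyThree.multiplier f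
  let e : L ≃* L ⧸ Subgroup.center L :=
    QuotientGroup.quotientBot.symm.trans (QuotientGroup.quotientMulEquivOfEq hZ.symm)
  obtain ⟨θ, hd, -⟩ := exists_below L ψ h161 (Nat.Coprime.coprime_dvd_right hi (by norm_num))
  haveI := Fintype.ofFinite L
  haveI : IsSimpleGroup L := MulEquiv.isSimpleGroup e
  obtain ⟨T⟩ := MTwentyThree.ByOrder.exists_table ((Nat.card_congr e.toEquiv).trans h)
  obtain ⟨i, rfl⟩ := T.bij.2 θ
  have hdeg := T.deg i
  rw [charDegree_eq_deg] at hdeg
  rw [hdeg] at hd
  revert hd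
  fin_cases i <;> norm_num

end Cfsg.Agent.MathieuByGraph
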