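import Cfsg.Agent.Lib.Small.MathieuEleven.Sylow3

/-!
Groups whose order is a prime times a number without prime powers congruent to one modulo that prime: the elements
of that order centralise what they normalise of order prime to it.
-/

set_option autoImplicit false
set_option linter.style.haveILetI false
set_option linter.unusedSectionVars false

namespace Cfsg.Agent.MathieuByGraph

open MulAction
open scoped Pointwise

/-- No prime power dividing `m`, other than one, is congruent to one modulo `r`. -/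
def ModFree (m r : ℕ) : Prop := ∀ q a : ℕ, q.Prime → q ^ a ∣ m → q ^ a % r = 1 → a = 0

theorem modFree_of_check {m r : ℕ} (L : List (ℕ × ℕ))
    (hL : (L.map fun p => p.1 ^ p.2).prod = m) (hp : ∀ p ∈ L, p.1.Prime)
    (h : ∀ p ∈ L, ∀ a ∈ List.range (p.2 + 1), p.1 ^ a % r = 1 → a = 0) (hnd : (L.map Prod.fst).Nodup) :
    ModFree m r := by
  intro q a hq hd hmod
  by_contra ha
  have hqm : q ∣ (L.map fun p => p.1 ^ p.2).prod := hL ▸ (dvd_pow_self q ha).trans hd
  obtain ⟨b, hb, hqb⟩ := (Prime.dvd_prod_iff hq.prime).1 hqm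
  obtain ⟨p, hpL, rfl⟩ := List.mem_map.1 hb
  obtain rfl := (Nat.prime_dvd_prime_iff_eq hq (hp p hpL)).1 (hq.dvd_of_dvd_pow hqb)
  refine ha (h p hpL a (List.mem_range.2 (Nat.lt_succ_of_le ?_)) hmod)
  have hperm : (L.map fun x => x.1 ^ x.2).prod = p.1 ^ p.2 * ((L.erase p).map fun x => x.1 ^ x.2).prod := by
    rw [((List.perm_cons_erase hpL).map _).prod_eq, List.map_cons, List.prod_cons]
  have hco : Nat.Coprime (p.1 ^ a) ((L.erase p).map fun x => x.1 ^ x.2).prod := by
    refine Nat.coprime_list_prod_right_iff.2 fun x hx => ?_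
    obtain ⟨y, hy, rfl⟩ := List.mem_map.1 hx
    refine ((Nat.coprime_primes (hp p hpL) (hp y (List.mem_of_mem_erase hy))).2 fun e => ?_).pow _ _
    have hnd' := ((List.perm_cons_erase hpL).map Prod.fst).nodup_iff.1 hnd
    rw [List.map_cons, List.nodup_cons] at hnd'
    exact hnd'.1 (e ▸ List.mem_map_of_mem hy)
  exact (Nat.pow_dvd_pow_iff_le_right (hp p hpL).one_lt).1 (hco.dvd_of_dvd_mul_right (hperm ▸ hL ▸ hd))

universe u

variable {r m : ℕ} [Fact r.Prime] {G : Type u} [Group G] [Finite G]

/-- An element of prime order centralises the prime power subgroups it normalises. -/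
theorem cent_pgroup (hG : Nat.card G ∣ r * m) (hm : ModFree m r) {x : G} (hx : orderOf x = r) {q : ℕ} [Fact q.Prime] (hq : q ≠ r)
    (M : Subgroup G) (hM : IsPGroup q M) (hxn : x ∈ Subgroup.normalizer (M : Set G)) : ∀ m ∈ M, m * x = x * m := by
  classical
  have hqp : q.Prime := Fact.out
  obtain ⟨k, hk⟩ := hM.exists_card_eq
  let X := Subgroup.zpowers (⟨x, hxn⟩ : Subgroup.normalizer (M : Set G))
  let φ : X →* MulAut M := (M.normalizerMonoidHom).comp X.subtype
  letI : MulAction X M := MulAction.compHom _ φ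
  have hmod := (IsPGroup.of_card (n := 1) (by rw [Nat.card_zpowers, Subgroup.orderOf_mk, hx, pow_one]) :
    IsPGroup r X).card_modEq_card_fixedPoints M
  set C : Subgroup M := (Subgroup.centralizer ({x} : Set G)).comap M.subtype with hC
  have hfix : fixedPoints X M = (C : Set M) := by
    ext c
    constructor
    · intro hc
      exact Subgroup.mem_centralizer_singleton_iff.2
        (mul_inv_eq_iff_eq_mul.1 (congrArg Subtype.val (hc ⟨_, Subgroup.mem_zpowers _⟩))).symm
    · intro hc s
      obtain ⟨i, hi⟩ := Subgroup.mem_zpowers_iff.1 s.2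
      refine Subtype.ext ?_
      show ((s : Subgroup.normalizer (M : Set G)) : G) * c * ((s : Subgroup.normalizer (M : Set G)) : G)⁻¹ = c
      have hcx : Commute (c : G) x := Subgroup.mem_centralizer_singleton_iff.1 hc
      rw [← hi]
      show x ^ i * (c : G) * (x ^ i)⁻¹ = c
      rw [← (hcx.zpow_right i).eq, mul_inv_cancel_right]
  rw [hfix, hk] at hmod
  obtain ⟨j, hjk, hj⟩ := (Nat.dvd_prime_pow hqp).1 (hk ▸ Subgroup.card_subgroup_dvd_card C)
  change q ^ k ≡ Nat.card C [MOD r] at hmod
  rw [hj, show q ^ k = q ^ j * q ^ (k - j) by rw [← pow_add, Nat.add_sub_cancel' hjk]] at hmod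
  have hco : Nat.Coprime r q := (Nat.coprime_primes Fact.out hqp).2 hq.symm
  have h1 : q ^ (k - j) % r = 1 := by
    have h := Nat.ModEq.cancel_left_of_coprime (hco.pow_right j).gcd_eq_one
      (hmod.trans (by rw [mul_one]) : q ^ j * q ^ (k - j) ≡ q ^ j * 1 [MOD r])
    exact (show q ^ (k - j) % r = 1 % r from h).trans (Nat.mod_eq_of_lt (Fact.out : r.Prime).one_lt)
  have hd : q ^ (k - j) ∣ m := by
    have h7 : q ^ (k - j) ∣ r * m :=
      (pow_dvd_pow q (Nat.sub_le k j)).trans ((hk ▸ Subgroup.card_subgroup_dvd_card M).trans hG)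
    exact ((hco.symm.pow_left (k - j))).dvd_of_dvd_mul_left h7
  have hkj : k = j := by
    have := hm q (k - j) hqp hd h1
    omega
  have htop : C = ⊤ := Subgroup.eq_top_of_card_eq C (by rw [hj, hk, hkj])
  intro m hm
  have : (⟨m, hm⟩ : M) ∈ C := htop ▸ Subgroup.mem_top _
  exact Subgroup.mem_centralizer_singleton_iff.1 this

/-- An element of prime order centralises the subgroups of order prime to it that it normalises. -/
theorem cent_normalised (hG : Nat.card G ∣ r * m) (hm : ModFree m r) {x : G} (hx : orderOf x = r) (N : Subgroup G)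
    (hxN : x ∈ Subgroup.normalizer (N : Set G)) (hrM : ¬ r ∣ Nat.card N) : ∀ n ∈ N, n * x = x * n := by
  classical
  set C : Subgroup N := (Subgroup.centralizer ({x} : Set G)).comap N.subtype with hC
  suffices h : C = ⊤ by
    intro n hn
    have : (⟨n, hn⟩ : N) ∈ C := h ▸ Subgroup.mem_top _
    exact Subgroup.mem_centralizer_singleton_iff.1 this
  rw [← Subgroup.index_eq_one]
  by_contra hne
  obtain ⟨q, hq, hqC⟩ := Nat.exists_prime_and_dvd hne
  haveI := Fact.mk hq
  have hqN : q ∣ Nat.card N := hqC.trans C.index_dvd_card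
  let X := Subgroup.zpowers (⟨x, hxN⟩ : Subgroup.normalizer (N : Set G))
  let φ : X →* MulAut N := (N.normalizerMonoidHom).comp X.subtype
  letI : MulDistribMulAction X N := MulDistribMulAction.compHom _ φ
  have hnq : ¬ r ∣ Nat.card (Sylow q N) := fun h => by
    obtain ⟨Q⟩ : Nonempty (Sylow q N) := inferInstance
    exact hrM (h.trans (Q.card_dvd_index.trans (Q : Subgroup N).index_dvd_card))
  obtain ⟨Q, hQ⟩ := (IsPGroup.of_card (n := 1) (by rw [Nat.card_zpowers, Subgroup.orderOf_mk, hx, pow_one]) :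
    IsPGroup r X).nonempty_fixed_point_of_prime_not_dvd_card (Sylow q N) hnq
  set M := (Q : Subgroup N).map N.subtype with hM
  have hxM : x ∈ Subgroup.normalizer (M : Set G) := by
    refine Subgroup.mem_normalizer_fintype fun n hn => ?_
    obtain ⟨y, hy, rfl⟩ := hn
    refine ⟨(⟨_, Subgroup.mem_zpowers _⟩ : X) • y, ?_, rfl⟩
    have h := Subgroup.smul_mem_pointwise_smul y (⟨_, Subgroup.mem_zpowers _⟩ : X) _ hy
    exact (congrArg (fun R : Sylow q N => (R : Subgroup N)) (hQ ⟨_, Subgroup.mem_zpowers _⟩)).le h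
  have hqne : q ≠ r := fun e => hrM (e ▸ hqN)
  have hcent := cent_pgroup hG hm hx hqne M (Q.isPGroup'.map _) hxM
  exact Q.not_dvd_index (hqC.trans (Subgroup.index_dvd_of_le fun y hy =>
    Subgroup.mem_centralizer_singleton_iff.2 (hcent y ⟨y, hy, rfl⟩)))

variable {L : Type u} [Group L] [Finite L]

/-- The normal subgroups of a group generated by elements of that order. -/
theorem normal_cases (hG : Nat.card L ∣ r * m) (hm : ModFree m r) (hr2 : ¬ r ^ 2 ∣ r * m) (hgen : Subgroup.closure {x : L | orderOf x = r} = ⊤)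
    (M : Subgroup L) [hM : M.Normal] : M ≤ Subgroup.center L ∨ M = ⊤ := by
  classical
  by_cases hrM : r ∣ Nat.card M
  · right
    obtain ⟨y, hy⟩ := exists_prime_orderOf_dvd_card' (G := M) r hrM
    rw [eq_top_iff, ← hgen, Subgroup.closure_le]
    intro x hx
    have hsyl : ∀ z : L, orderOf z = r → ∃ P : Sylow r L, Subgroup.zpowers z = (P : Subgroup L) := by
      intro z hz
      obtain ⟨P, hP⟩ := (IsPGroup.of_card (n := 1) (by rw [Nat.card_zpowers, hz, pow_one]) :
        IsPGroup r (Subgroup.zpowers z)).exists_le_sylow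
      refine ⟨P, Subgroup.eq_of_le_of_card_ge hP ?_⟩
      obtain ⟨k, hk⟩ := P.isPGroup'.exists_card_eq
      rw [Nat.card_zpowers, hz, hk]
      rcases Nat.lt_or_ge 1 k with h | h
      · exfalso
        have h2 : r ^ 2 ∣ r * m :=
          (pow_dvd_pow r h).trans ((hk ▸ Subgroup.card_subgroup_dvd_card (P : Subgroup L)).trans hG)
        exact hr2 h2
      · exact (Nat.pow_le_pow_right (Fact.out : r.Prime).pos h).trans_eq (pow_one r)
    obtain ⟨P₀, hP₀⟩ := hsyl (y : L) (by rw [Subgroup.orderOf_coe, hy])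
    obtain ⟨P, hP⟩ := hsyl x hx
    obtain ⟨g, rfl⟩ := MulAction.exists_smul_eq L P₀ P
    have hxP : x ∈ ((g • P₀ : Sylow r L) : Subgroup L) := hP ▸ Subgroup.mem_zpowers x
    have h' := (MathieuEleven.mem_smul_sylow P₀).1 hxP
    rw [← hP₀] at h'
    have h'' := hM.conj_mem _ ((Subgroup.zpowers_le).2 y.2 h') g
    rwa [show g * (g⁻¹ * x * g) * g⁻¹ = x by group] at h''
  · left
    intro v hv
    rw [Subgroup.mem_center_iff]
    intro l
    have hle : (⊤ : Subgroup L) ≤ Subgroup.centralizer ({v} : Set L) := by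
      rw [← hgen, Subgroup.closure_le]
      intro x hx
      refine Subgroup.mem_centralizer_singleton_iff.2 (cent_normalised hG hm hx M ?_ hrM v hv).symm
      rw [Subgroup.normalizer_eq_top]
      exact Subgroup.mem_top x
    exact Subgroup.mem_centralizer_singleton_iff.1 (hle (Subgroup.mem_top l))

end Cfsg.Agent.MathieuByGraph
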