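import Cfsg.Agent.Lib.Small.DegreeSearch
import Cfsg.Agent.Lib.Small.MathieuEleven.Sylow3
import Cfsg.Agent.Lib.Char.SmallOrderGraph.Invol
import Cfsg.Agent.Lib.Solv.BrauerReynoldsBlock
import Cfsg.Agent.Lib.Spor.MTwentyFourOrder.SylowArith
import Cfsg.Agent.Lib.Spor.MTwelve.OrderFront.Block
import Cfsg.Agent.Lib.Spor.MTwelve.OrderFront.Values

/-!
A search for the degrees of the principal block of a Sylow subgroup of prime order in a group of order dividing
that of the Mathieu group of degree twenty-four, with a condition on the degrees of that block.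
-/

set_option autoImplicit false
set_option linter.unusedSectionVars false
set_option linter.style.haveILetI false
set_option maxRecDepth 100000

namespace Cfsg.Agent.MathieuByGraph

open Cfsg Cfsg.Agent.Char Cfsg.Agent.Small.Order459648
open Cfsg.Agent.MTwelve.OrderFront (val_one one_add_sq_le)
open Cfsg.Agent.MTwentyFour.ByOrder (divList mem_divList)

/-- the divisors of the order of the Mathieu group of degree twenty-four that can be degrees -/
def degDivs : List ℕ := (divList ++ divList.map fun d => 23 * d).filter fun d => decide (d ≤ 15646)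

theorem mem_degDivs {d : ℕ} (h : d ∣ 244823040) (hle : d ≤ 15646) : d ∈ degDivs := by
  refine List.mem_filter.2 ⟨?_, by simpa using hle⟩
  rw [List.mem_append, List.mem_map]
  by_cases h23 : 23 ∣ d
  · obtain ⟨c, rfl⟩ := h23
    exact Or.inr ⟨c, mem_divList (Nat.dvd_of_mul_dvd_mul_left (by norm_num : 0 < 23)
      (h.trans (show 244823040 ∣ 23 * 10644480 by norm_num))), rfl⟩
  · exact Or.inl (mem_divList ((((by norm_num : Nat.Prime 23).coprime_iff_not_dvd.2 h23).symm).dvd_of_dvd_mul_left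
      (h.trans (show 244823040 ∣ 23 * 10644480 by norm_num))))

/-- the signed degrees of the non-exceptional characters -/
def xCands (N p n e lo : ℕ) (ok : ℕ → Bool) : List ℤ :=
  (degDivs.filter fun d => decide (lo < d ∧ N % d = 0 ∧ d * d < N ∧ n * e % d = 0 ∧ (d % p = 1 ∨ (d + 1) % p = 0))
    && ok d).map fun d => if d % p = 1 then (d : ℤ) else -(d : ℤ)

/-- the signed degrees of the exceptional characters -/
def yCands (N p e lo : ℕ) (ok : ℕ → Bool) : List ℤ :=
  (degDivs.filter fun d => decide (lo < d ∧ N % d = 0 ∧ d * d < N ∧ (d % p = e % p ∨ (d + e) % p = 0))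
    && ok d).map fun d => if d % p = e % p then (d : ℤ) else -(d : ℤ)

/-- no system of degrees exists -/
def chk (N p n e : ℕ) (ok : ℕ → Bool) : Bool :=
  let lo := Small.DegreeSearch.low N p n e
  let th := yCands N p e lo ok
  Small.DegreeSearch.search N (fun S Q => th.all fun t => !(decide (t = S ∧ Q + (p - 1) / e * t.natAbs ^ 2 ≤ N)))
    (xCands N p n e lo ok) (e - 1) 1 1

universe u

variable {G : Type u} [Group G] [Fintype G] [IsSimpleGroup G]

/-- The bound on the degrees. -/
theorem degree_bound (hd : Nat.card G ∣ 244823040) {χ : IrrCharacter G} (hne : χ ≠ oneChar) :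
    charDegree (χ : G → ℂ) * charDegree (χ : G → ℂ) < Nat.card G ∧ charDegree (χ : G → ℂ) ∈ degDivs := by
  have h := one_add_sq_le (g := (1 : G)) hne (val_one χ)
  have hC : Nat.card (Subgroup.centralizer ({1} : Set G)) ≤ Nat.card G := Subgroup.card_le_card_group _
  have h1 : 1 + charDegree (χ : G → ℂ) * charDegree (χ : G → ℂ) ≤ Nat.card G := by
    refine le_trans ?_ hC
    exact_mod_cast h
  refine ⟨by omega, mem_degDivs ((deg_dvd_card χ.2).trans hd) ?_⟩
  by_contra hlt
  have h2 : 15647 * 15647 ≤ charDegree (χ : G → ℂ) * charDegree (χ : G → ℂ) :=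
    Nat.mul_le_mul (Nat.lt_of_not_le hlt) (Nat.lt_of_not_le hlt)
  have := Nat.le_of_dvd (by norm_num) hd
  omega

/-- The search is sound. -/
theorem false_of_chk (hna : ¬ IsMulCommutative G) {p : ℕ} [Fact p.Prime] (hp2 : 2 < p) {M : Ideal AlgInt}
    (hM : IsPModular p M) (P : Sylow p G) (hP : Nat.card P = p) {e : ℕ}
    (he : (Subgroup.centralizer ((P : Subgroup G) : Set G)).relIndex
      (Subgroup.normalizer ((P : Subgroup G) : Set G)) = e) (hep : e ∣ p - 1) (he1 : e ≠ 1)
    {N n : ℕ} (hN : Nat.card G = N) (hd : N ∣ 244823040) (hn : Nat.card (Sylow p G) = n) (ok : ℕ → Bool)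
    (hok : ∀ χ : IrrCharacter G, χ ∈ principalBlock M G → χ ≠ oneChar → ok (charDegree (χ : G → ℂ)) = true)
    (hc : chk N p n e ok = true) : False := by
  classical
  have hp : p.Prime := Fact.out
  subst hN hn
  have hp1 : 0 < p - 1 := by omega
  have he0 : 0 < e := Nat.pos_of_dvd_of_pos hep hp1
  obtain ⟨t, ht, het⟩ : ∃ t, 0 < t ∧ e * t + 1 = p := by
    obtain ⟨t, ht⟩ := hep
    refine ⟨t, Nat.pos_of_ne_zero fun h0 => ?_, by omega⟩
    rw [h0, mul_zero] at ht; omega
  obtain ⟨X, Y, a, δ, h, h1X, hone, hYc⟩ :=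
    Solv.BReyn.exists_principal_one_mem hM hP he (by omega) ht het
  change (oneChar : IrrCharacter G) ∈ X at h1X
  change a (oneChar : IrrCharacter G) = 1 at hone
  obtain ⟨θ, hθ⟩ : Y.Nonempty := Finset.card_pos.1 (by omega)
  have hθne : θ ≠ oneChar := fun e1 => Finset.disjoint_left.1 h.disj h1X (e1 ▸ hθ)
  set lo := Small.DegreeSearch.low (Nat.card G) p (Nat.card (Sylow p G)) e with hlo
  -- lower bound
  have hlow : ∀ χ : IrrCharacter G, χ ∈ X ∨ χ ∈ Y → χ ≠ oneChar → lo < charDegree (χ : G → ℂ) := by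
    intro χ hχ hne
    have h1 := one_lt_degree hna hne
    rw [hlo, Small.DegreeSearch.low]
    split_ifs with hC
    · exact h1
    · by_contra hlt
      refine hC ?_
      have hpg := centralizer_sylow_isPGroup_of_small_degree hM (perfect hna) P χ
        ((h.mem_iff χ).mpr hχ) (faithful hne (by omega)) (by omega)
      set C := Subgroup.centralizer ((P : Subgroup G) : Set G)
      have hCN : Nat.card (Sylow p G) * (Nat.card C * e) = Nat.card G := by
        rw [← he, ← Small.SmallOrders.card_normalizer P, Subgroup.relIndex,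
          ← Subgroup.card_mul_index (C.subgroupOf (Subgroup.normalizer ((P : Subgroup G) : Set G))),
          Nat.card_congr
            (Subgroup.subgroupOfEquivOfLe (Subgroup.centralizer_le_normalizer _)).toEquiv]
      have hPC : (P : Subgroup G) ≤ C := fun g hg => Subgroup.mem_centralizer_iff.2 fun b hb =>
        MathieuEleven.comm_of_prime hP b hb g hg
      have hCp : Nat.card C = p :=
        (congrArg (fun H : Subgroup G => Nat.card H) (P.is_maximal' hpg hPC)).trans hP
      rw [← hCN, hCp]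
      ring
  -- the divisor coming from the class of an element of the Sylow subgroup
  have hdvdC : ∀ χ ∈ X, charDegree (χ : G → ℂ) ∣ Nat.card (Sylow p G) * e := by
    intro χ hχ
    obtain ⟨y, hy⟩ := SmallOrderGraph.nonOne_nonempty P hP
    have hy1 : (y : G) ≠ 1 := mem_nonOne.mp hy
    have hclass : Nat.card {x : G // IsConj (y : G) x} = Nat.card (Sylow p G) * e := by
      rw [card_conjClass_eq_index, ← centralizer_zpowers_eq, eq_zpowers_of_prime_sylow hP y.2 hy1,
        Sylow.card_eq_index_normalizer P, ← he, Nat.mul_comm]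
      exact (Subgroup.relIndex_mul_index (Subgroup.centralizer_le_normalizer _)).symm
    rw [← hclass]
    have h2 := omega_isIntegral χ.2 (y : G)
    rw [omega, h.a_val χ hχ y hy, val_one] at h2
    obtain ⟨z, hz⟩ := isIntegral_rat_cast_imp
      (q := (Nat.card {x : G // IsConj (y : G) x} : ℚ) * a χ / charDegree (χ : G → ℂ))
      (by push_cast at h2 ⊢; exact h2)
    have hd0 : (charDegree (χ : G → ℂ) : ℚ) ≠ 0 := Nat.cast_ne_zero.mpr (deg_pos χ.2).ne'
    have h3 : (Nat.card {x : G // IsConj (y : G) x} : ℤ) * a χ = z * charDegree (χ : G → ℂ) := by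
      rw [eq_div_iff hd0] at hz
      exact_mod_cast hz.symm
    refine Int.natCast_dvd_natCast.1 ⟨z * a χ, ?_⟩
    rcases h.a_sign χ hχ with e1 | e1 <;> rw [e1] at h3 ⊢ <;> linarith
  set f : IrrCharacter G → ℤ := fun χ => a χ * (charDegree (χ : G → ℂ) : ℤ) with hfdef
  have hfabs : ∀ χ ∈ X, (f χ).natAbs = charDegree (χ : G → ℂ) := fun χ hχ => by
    rcases h.a_sign χ hχ with e1 | e1 <;> simp [f, e1]
  have hfmem : ∀ χ ∈ X.erase oneChar,
      f χ ∈ xCands (Nat.card G) p (Nat.card (Sylow p G)) e lo ok := by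
    intro χ hχ
    obtain ⟨hne, hχX⟩ := Finset.mem_erase.1 hχ
    obtain ⟨hsq, hmem⟩ := degree_bound hd hne
    obtain ⟨hs, hsg⟩ : (charDegree (χ : G → ℂ) % p = 1 ∨ (charDegree (χ : G → ℂ) + 1) % p = 0) ∧
        f χ = if charDegree (χ : G → ℂ) % p = 1 then (charDegree (χ : G → ℂ) : ℤ)
          else -(charDegree (χ : G → ℂ) : ℤ) := by
      have h2 := h.a_congr χ hχX
      rcases h.a_sign χ hχX with e1 | e1 <;> rw [e1] at h2
      · have h3 : charDegree (χ : G → ℂ) % p = 1 := by
          have h4 : ((charDegree (χ : G → ℂ) % p : ℕ) : ℤ) = ((1 : ℕ) : ℤ) := by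
            rw [Int.natCast_mod, Nat.cast_one]
            exact h2.eq.trans (Int.emod_eq_of_lt (by norm_num) (by omega))
          exact_mod_cast h4
        exact ⟨Or.inl h3, by simp [f, e1, h3]⟩
      · have h3 : (charDegree (χ : G → ℂ) + 1) % p = 0 := by
          have h4 : (p : ℤ) ∣ ((charDegree (χ : G → ℂ) + 1 : ℕ) : ℤ) := by
            have := (Int.modEq_iff_dvd.1 h2.symm)
            push_cast; simpa using this
          exact Nat.mod_eq_zero_of_dvd (by exact_mod_cast h4)
        refine ⟨Or.inr h3, ?_⟩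
        have h5 : charDegree (χ : G → ℂ) % p ≠ 1 := fun h5 => by
          rw [Nat.add_mod, h5, Nat.mod_eq_of_lt (show 1 < p by omega),
            Nat.mod_eq_of_lt (show 1 + 1 < p by omega)] at h3
          omega
        simp [f, e1, h5]
    rw [hsg, xCands, List.mem_map]
    refine ⟨_, List.mem_filter.2 ⟨hmem, ?_⟩, rfl⟩
    rw [Bool.and_eq_true, decide_eq_true_eq]
    exact ⟨⟨hlow χ (Or.inl hχX) hne, Nat.mod_eq_zero_of_dvd (deg_dvd_card χ.2), hsq,
      Nat.mod_eq_zero_of_dvd (hdvdC χ hχX), hs⟩, hok χ ((h.mem_iff χ).2 (Or.inl hχX)) hne⟩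
  have hdegY : ∀ θ₁ ∈ Y, charDegree (θ₁ : G → ℂ) = charDegree (θ : G → ℂ) := by
    intro θ₁ h1
    have h3 := h.regY θ₁ h1 θ hθ 1 (by rw [orderOf_one]; exact hp.not_dvd_one)
    rw [val_one, val_one] at h3
    exact_mod_cast h3
  have hsum : (∑ χ ∈ X, charDegree (χ : G → ℂ) ^ 2) + (p - 1) / e * charDegree (θ : G → ℂ) ^ 2 ≤ Nat.card G := by
    have h1 : ∑ χ : IrrCharacter G, charDegree (χ : G → ℂ) ^ 2 = Nat.card G := by
      have := sum_sq_deg (G := G)
      simp only [val_one] at this
      exact_mod_cast this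
    have h2 : ∑ χ ∈ Y, charDegree (χ : G → ℂ) ^ 2 = (p - 1) / e * charDegree (θ : G → ℂ) ^ 2 := by
      rw [Finset.sum_congr rfl (g := fun _ => charDegree (θ : G → ℂ) ^ 2)
        fun χ hχ => by rw [hdegY χ hχ], Finset.sum_const, h.cardY, smul_eq_mul]
    rw [← h2, ← Finset.sum_union h.disj, ← h1]
    exact Finset.sum_le_univ_sum_of_nonneg (f := fun χ : IrrCharacter G => _) fun χ => Nat.zero_le _
  have hrel : δ * (charDegree (θ : G → ℂ) : ℤ) = 1 + ∑ χ ∈ X.erase oneChar, f χ := by
    have h2 := h.rel θ hθ 1 (by rw [orderOf_one]; exact hp.not_dvd_one)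
    simp only [val_one] at h2
    have h3 : δ * (charDegree (θ : G → ℂ) : ℤ) = ∑ χ ∈ X, f χ := by exact_mod_cast h2
    rw [h3, ← Finset.add_sum_erase X _ h1X]
    simp [f, hone, charDegree_oneChar]
  have hQ : 1 + ∑ χ ∈ X.erase oneChar, (f χ).natAbs ^ 2 + (p - 1) / e * charDegree (θ : G → ℂ) ^ 2 ≤
      Nat.card G := by
    rw [Finset.sum_congr rfl (g := fun χ : IrrCharacter G => charDegree (χ : G → ℂ) ^ 2) fun χ hχ => by
      rw [hfabs χ (Finset.mem_of_mem_erase hχ)]]
    rw [← Finset.add_sum_erase X _ h1X, charDegree_oneChar, one_pow] at hsum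
    exact hsum
  unfold chk at hc
  have h4 := Small.DegreeSearch.search_sound _ (e - 1) 1 1 (X.erase oneChar) hfmem
    (by rw [Finset.card_erase_of_mem h1X, h.cardX]) hc (by omega)
  rw [List.all_eq_true] at h4
  obtain ⟨hs, hsg⟩ : (charDegree (θ : G → ℂ) % p = e % p ∨ (charDegree (θ : G → ℂ) + e) % p = 0) ∧
      δ * (charDegree (θ : G → ℂ) : ℤ) = if charDegree (θ : G → ℂ) % p = e % p then (charDegree (θ : G → ℂ) : ℤ)
        else -(charDegree (θ : G → ℂ) : ℤ) := by
    have h2 := h.congrY θ hθ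
    rcases h.sign with e1 | e1 <;> rw [e1] at h2 ⊢
    · rw [one_mul] at h2
      have h3 : charDegree (θ : G → ℂ) % p = e % p := by exact_mod_cast h2.eq
      exact ⟨Or.inl h3, by simp [h3]⟩
    · have h3 : p ∣ charDegree (θ : G → ℂ) + e := by
        have := Int.modEq_iff_dvd.1 h2.symm
        have h4 : (p : ℤ) ∣ ((charDegree (θ : G → ℂ) + e : ℕ) : ℤ) := by push_cast; simpa using this
        exact_mod_cast h4
      refine ⟨Or.inr (Nat.mod_eq_zero_of_dvd h3), ?_⟩
      have h5 : charDegree (θ : G → ℂ) % p ≠ e % p := fun h5 => by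
        have h6 : p ∣ 2 * e := by
          obtain ⟨c, hc'⟩ := h3
          have : (charDegree (θ : G → ℂ) + e) % p = 0 := Nat.mod_eq_zero_of_dvd ⟨c, hc'⟩
          rw [Nat.add_mod, h5, ← Nat.add_mod, ← two_mul] at this
          exact Nat.dvd_of_mod_eq_zero this
        have h7 := Nat.le_of_dvd he0 ((Nat.Coprime.dvd_of_dvd_mul_left
          ((Nat.coprime_primes hp Nat.prime_two).2 (by omega)) h6))
        have : e ≤ p - 1 := Nat.le_of_dvd hp1 (⟨t, by omega⟩)
        omega
      simp [h5]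
  have h5 := h4 (δ * (charDegree (θ : G → ℂ) : ℤ)) (by
    obtain ⟨hsq, hmem⟩ := degree_bound hd hθne
    rw [hsg, yCands, List.mem_map]
    refine ⟨_, List.mem_filter.2 ⟨hmem, ?_⟩, rfl⟩
    rw [Bool.and_eq_true, decide_eq_true_eq]
    exact ⟨⟨hlow θ (Or.inr hθ) hθne, Nat.mod_eq_zero_of_dvd (deg_dvd_card θ.2), hsq, hs⟩,
      hok θ ((h.mem_iff θ).2 (Or.inr hθ)) hθne⟩)
  rw [Bool.not_eq_true', decide_eq_false_iff_not] at h5
  refine h5 ⟨hrel, ?_⟩
  have hδθ : (δ * (charDegree (θ : G → ℂ) : ℤ)).natAbs = charDegree (θ : G → ℂ) := by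
    rcases h.sign with e1 | e1 <;> simp [e1]
  rw [hδθ]
  exact hQ

end Cfsg.Agent.MathieuByGraph
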