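import Cfsg.Agent.Lib.Spor.MathieuByGraph.OrbitsTwentyFour
import Cfsg.Agent.Lib.Spor.GolayCount
import Cfsg.Prelude.Def_DegreeGraph

/-!
The Mathieu group of degree twenty-four has characters of degrees 253 and 483.
-/

set_option autoImplicit false
set_option maxRecDepth 100000
set_option linter.style.haveILetI false

namespace Cfsg.Agent.MathieuByGraph.TwentyFour

open Cfsg Cfsg.Agent.Char Cfsg.Agent.Spor MulAction Cfsg.Agent.Perm.PermChar

theorem perm_one {H : Type*} [Group H] [Fintype H] {X : Type*} [Fintype X] [MulAction H X] :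
    permChar H X 1 = (Nat.card X : ℂ) := by
  show (Nat.card (fixedBy X (1 : H)) : ℂ) = _
  rw [fixedBy_one_eq_univ, Nat.card_congr (Equiv.Set.univ _)]

theorem card_pt : Nat.card GolayPt = 24 := by
  rw [Nat.card_eq_fintype_card]; rfl

theorem card_pr : Nat.card Pr = 276 := by
  rw [Nat.card_eq_fintype_card, Fintype.card_finset_len]
  rfl

theorem card_oc : Nat.card Oc = 759 := by
  rw [Nat.card_coe_set_eq]
  exact ncard_octads

theorem card_od : Nat.card Od = 552 := by
  rw [Nat.card_eq_fintype_card]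
  decide +kernel

variable [Fintype M24]

theorem inner_comm {X Y : Type*} [Fintype X] [Fintype Y] [MulAction M24 X] [MulAction M24 Y] {n : ℕ}
    (h : classInner (permChar M24 X) (permChar M24 Y) = n) : classInner (permChar M24 Y) (permChar M24 X) = n := by
  rw [← classInner_symm, h, Complex.conj_natCast]

/-- Degrees 253 and 483. -/
theorem degrees : 253 ∈ charDegrees M24 ∧ 483 ∈ charDegrees M24 := by
  classical
  set one : IrrCharacter M24 := ⟨fun _ => 1, isIrrCharacter_one⟩ with hone
  have hd1 : deg (one : M24 → ℂ) = 1 := by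
    have h := char_one_eq_deg (irr_isCharacter one.2)
    simp only [hone] at h ⊢
    exact_mod_cast h.symm
  -- points
  set π1 := permChar M24 GolayPt
  set π2 := permChar M24 Pr
  set π3 := permChar M24 Oc
  set π4 := permChar M24 Od
  have hA : IsCharacter M24 π1 := isCharacter_permChar
  have a1 : classInner π1 (one : M24 → ℂ) = 1 := inner_one (pt 0)
  have b1 : classInner π2 (one : M24 → ℂ) = 1 := inner_one pr₀
  have c1 : classInner π3 (one : M24 → ℂ) = 1 := inner_one oc₀
  have d1 : classInner π4 (one : M24 → ℂ) = 1 := inner_one od₀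
  have i11 : classInner π1 π1 = ((2 : ℕ) : ℂ) := by rw [inner_two (pt 0), pt_pt]
  have i22 : classInner π2 π2 = ((3 : ℕ) : ℂ) := by rw [inner_two pr₀, pr_pr]
  have i33 : classInner π3 π3 = ((4 : ℕ) : ℂ) := by rw [inner_two oc₀, oct_oct]
  have i44 : classInner π4 π4 = ((7 : ℕ) : ℂ) := by rw [inner_two od₀, od_od]
  have i21 : classInner π2 π1 = ((2 : ℕ) : ℂ) := by rw [inner_two pr₀, pr_pt]
  have i31 : classInner π3 π1 = ((2 : ℕ) : ℂ) := inner_comm (by rw [inner_two (pt 0), pt_oct])
  have i32 : classInner π3 π2 = ((3 : ℕ) : ℂ) := inner_comm (by rw [inner_two pr₀, pr_oct])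
  have i41 : classInner π4 π1 = ((3 : ℕ) : ℂ) := by rw [inner_two od₀, od_pt]
  have i42 : classInner π4 π2 = ((4 : ℕ) : ℂ) := by rw [inner_two od₀, od_pr]
  obtain ⟨χ, hχS, hχ1, hχd, hχ0⟩ := exists_next hA {one} (fun _ => 1)
    (fun ψ hψ => by rw [Finset.mem_singleton.1 hψ, a1, Nat.cast_one]) (d := 24) i11 (by simp)
    (perm_one.trans (by rw [card_pt]))
  have hne : χ ≠ one := fun e => hχS (Finset.mem_singleton.2 e)
  rw [Finset.sum_singleton, hd1] at hχd
  have key1 : ∀ θ : M24 → ℂ, classInner θ (one : M24 → ℂ) = 1 → ∀ n : ℕ, classInner θ π1 = (n : ℂ) →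
      classInner θ (χ : M24 → ℂ) = (n : ℂ) - 1 := by
    intro θ h1 n hn
    rw [inner_support hA {one, χ} (fun _ => 1) (fun ψ hψ => by
      rcases Finset.mem_insert.1 hψ with rfl | hψ
      · rw [a1, Nat.cast_one]
      · rw [Finset.mem_singleton.1 hψ, hχ1, Nat.cast_one]) (fun ψ hψ => hχ0 ψ
        (fun e => hψ (Finset.mem_insert.2 (Or.inl (Finset.mem_singleton.1 e))))
        (fun e => hψ (Finset.mem_insert.2 (Or.inr (Finset.mem_singleton.2 e))))),
      Finset.sum_pair hne.symm, h1] at hn
    push_cast at hn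
    linear_combination hn
  -- pairs
  have b2 : classInner π2 (χ : M24 → ℂ) = 1 := by rw [key1 _ b1 2 i21]; norm_num
  have hB : IsCharacter M24 π2 := isCharacter_permChar
  obtain ⟨φ, hφS, hφ1, hφd, hφ0⟩ := exists_next hB {one, χ} (fun _ => 1) (fun ψ hψ => by
      rcases Finset.mem_insert.1 hψ with rfl | hψ
      · rw [b1, Nat.cast_one]
      · rw [Finset.mem_singleton.1 hψ, b2, Nat.cast_one]) (d := 276) i22 (by rw [Finset.sum_pair hne.symm])
    (perm_one.trans (by rw [card_pr]))
  rw [Finset.sum_pair hne.symm, hd1] at hφd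
  simp only [Finset.mem_insert, Finset.mem_singleton, not_or] at hφS
  have key2 : ∀ θ : M24 → ℂ, classInner θ (one : M24 → ℂ) = 1 → ∀ m : ℕ, classInner θ π1 = (m : ℂ) →
      ∀ n : ℕ, classInner θ π2 = (n : ℂ) → classInner θ (φ : M24 → ℂ) = (n : ℂ) - m := by
    intro θ h1 m hm n hn
    rw [inner_support hB {one, χ, φ} (fun _ => 1) (fun ψ hψ => by
      simp only [Finset.mem_insert, Finset.mem_singleton] at hψ
      rcases hψ with rfl | rfl | rfl
      · rw [b1, Nat.cast_one]
      · rw [b2, Nat.cast_one]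
      · rw [hφ1, Nat.cast_one]) (fun ψ hψ => by
        simp only [Finset.mem_insert, Finset.mem_singleton, not_or] at hψ
        exact hφ0 ψ (by simp [hψ.1, hψ.2.1]) hψ.2.2),
      Finset.sum_insert (by simp [hne.symm, Ne.symm hφS.1]), Finset.sum_pair (Ne.symm hφS.2), h1,
      key1 _ h1 m hm] at hn
    push_cast at hn
    linear_combination hn
  have hS : ∀ (f : IrrCharacter M24 → ℕ), ∑ ψ ∈ ({one, χ, φ} : Finset (IrrCharacter M24)), f ψ =
      f one + (f χ + f φ) := fun f => by
    rw [Finset.sum_insert (by simp [hne.symm, Ne.symm hφS.1]), Finset.sum_pair (Ne.symm hφS.2)]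
  constructor
  · -- ordered pairs
    have d2 : classInner π4 (χ : M24 → ℂ) = ((2 : ℕ) : ℂ) := by rw [key1 _ d1 3 i41]; norm_num
    have d3 : classInner π4 (φ : M24 → ℂ) = 1 := by rw [key2 _ d1 3 i41 4 i42]; norm_num
    obtain ⟨ω, -, -, hωd, -⟩ := exists_next (θ := π4) isCharacter_permChar {one, χ, φ}
      (fun ψ => if ψ = χ then 2 else 1) (fun ψ hψ => by
        simp only [Finset.mem_insert, Finset.mem_singleton] at hψ
        rcases hψ with rfl | rfl | rfl
        · rw [d1, if_neg hne.symm, Nat.cast_one]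
        · rw [d2, if_pos rfl]
        · rw [d3, if_neg hφS.2, Nat.cast_one]) (d := 552) i44
      (by rw [hS, if_pos rfl, if_neg hne.symm, if_neg hφS.2]) (perm_one.trans (by rw [card_od]))
    rw [hS, if_pos rfl, if_neg hne.symm, if_neg hφS.2, hd1] at hωd
    exact ⟨ω, by rw [charDegree_eq_deg]; omega⟩
  · -- octads
    have c2 : classInner π3 (χ : M24 → ℂ) = 1 := by rw [key1 _ c1 2 i31]; norm_num
    have c3 : classInner π3 (φ : M24 → ℂ) = 1 := by rw [key2 _ c1 2 i31 3 i32]; norm_num
    obtain ⟨ω, -, -, hωd, -⟩ := exists_next (θ := π3) isCharacter_permChar {one, χ, φ}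
      (fun _ => 1) (fun ψ hψ => by
        simp only [Finset.mem_insert, Finset.mem_singleton] at hψ
        rcases hψ with rfl | rfl | rfl
        · rw [c1, Nat.cast_one]
        · rw [c2, Nat.cast_one]
        · rw [c3, Nat.cast_one]) (d := 759) i33
      (by rw [hS]) (perm_one.trans (by rw [card_oc]))
    rw [hS, hd1] at hωd
    exact ⟨ω, by rw [charDegree_eq_deg]; omega⟩

end Cfsg.Agent.MathieuByGraph.TwentyFour
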