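import Cfsg.Agent.Lib.Spor.MathieuByGraph.Excluded
import Cfsg.Agent.Lib.Spor.MTwelve.RecogOrders

/-!
The orders of the simple groups dividing that of the Mathieu group of degree twenty-two and divisible by eleven.
-/

set_option autoImplicit false
set_option linter.unusedSectionVars false
set_option linter.style.haveILetI false
set_option maxRecDepth 100000

namespace Cfsg.Agent.MathieuByGraph

open Cfsg Cfsg.Agent.Char Cfsg.Agent.Small.Order459648 Cfsg.Agent.Char.PrimeSylowCount
open Cfsg.Agent.MTwentyFour.ByOrder (divList mem_divList)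
open scoped ComplexConjugate

universe u

local instance fact_eleven'' : Fact (Nat.Prime 11) := ⟨by norm_num⟩

/-- degrees at an automiser of order five -/
def okFive (d : ℕ) : Bool := [0, 1, 10, 5, 6].contains (d % 11)

/-- degrees at a full automiser -/
def okTen (d : ℕ) : Bool := [0, 1, 10].contains (d % 11)

/-- the cofactors -/
def cofactors : List ℕ := divList.filter fun m => decide (40320 % m = 0 ∧ 546 ≤ m ∧ m < 40320)

theorem table_eleven : (cofactors.all fun m => divList.all fun n => [2, 5, 10].all fun e =>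
    !(decide (m % (n * e) = 0 ∧ n % 11 = 1 ∧ n ≠ 1)) || chk (11 * m) 11 n e (fun _ => true) ||
      decide (8640 % m = 0) ||
      decide ((m = 5040 ∧ n = 2520 ∧ e = 2) ∨ (m = 3360 ∧ n = 672 ∧ e = 5) ∨ (m = 6720 ∧ n = 672 ∧ e = 10)) ||
      (decide (m / (n * e) ∈ [3, 4, 7, 14, 28] ∧ e ≠ 2) && chk (11 * m) 11 n e (fun d => d != 45))) = true := by
  decide +kernel

theorem table_seven_five : (allDivs.all fun n => [2, 3, 6].all fun e =>
    !(decide (5280 % (n * e) = 0 ∧ n % 7 = 1 ∧ n ≠ 1)) || chk 36960 7 n e okFive ||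
      decide (n = 2640 ∧ e = 2)) = true := by
  decide +kernel

theorem table_seven_ten : (allDivs.all fun n => [2, 3, 6].all fun e =>
    !(decide (10560 % (n * e) = 0 ∧ n % 7 = 1 ∧ n ≠ 1)) || chk 73920 7 n e okTen) = true := by
  decide +kernel

/-- the pairs of degrees at an automiser of order two with a self-centralising Sylow subgroup -/
def pairOk (N p : ℕ) (As : List ℕ) : Bool :=
  let D : List ℕ := degDivs.filter fun d => decide (1 < d ∧ N % d = 0 ∧ d * d < N)
  D.all fun f => ([1, -1] : List ℤ).all fun a => D.all fun g => ([1, -1] : List ℤ).all fun δ =>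
    !(decide (((f : ℤ) - a) % p = 0 ∧ δ * g = 1 + a * f ∧ 1 + f * f + (p - 1) / 2 * (g * g) ≤ N)) ||
      As.any fun A => decide ((N : ℤ) * a = (A : ℤ) * (p * f * (δ * g)))

theorem pair_eleven : pairOk 55440 11 [56, 12] = true := by decide +kernel

theorem pair_seven : pairOk 36960 7 [176, 22] = true := by decide +kernel

/-- A number that is not a square is not a quotient of squares. -/
theorem no_square {A : ℕ} (hA : ∀ c ≤ A, c * c ≠ A) {x c : ℤ} (hx : x ≠ 0) (h : (A : ℤ) * x ^ 2 = c ^ 2) :
    False := by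
  have hd : x ∣ c := (Int.pow_dvd_pow_iff two_ne_zero).1 ⟨A, by rw [← h]; ring⟩
  obtain ⟨d, rfl⟩ := hd
  have h2 : (A : ℤ) = d ^ 2 := mul_left_cancel₀ (pow_ne_zero 2 hx) (by linear_combination h)
  have h3 : A = d.natAbs * d.natAbs := by
    have h4 := congrArg Int.natAbs h2
    rw [Int.natAbs_natCast, Int.natAbs_pow, sq] at h4
    exact h4
  refine hA d.natAbs ?_ h3.symm
  rw [h3]
  exact Nat.le_mul_self _

variable {G : Type u} [Group G] [Fintype G] [IsSimpleGroup G]

/-- An automiser of order two with a self-centralising Sylow subgroup does not occur. -/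
theorem false_of_pair {p : ℕ} [Fact p.Prime] (hp5 : 5 ≤ p) (hna : ¬ IsMulCommutative G)
    (hd : Nat.card G ∣ 244823040) {N : ℕ} (hN : Nat.card G = N) (P : Sylow p G) (hP : Nat.card P = p)
    (hC : Nat.card (Subgroup.centralizer ((P : Subgroup G) : Set G)) = p)
    (he : (Subgroup.centralizer ((P : Subgroup G) : Set G)).relIndex
      (Subgroup.normalizer ((P : Subgroup G) : Set G)) = 2) (h2 : 2 ∣ N) {As : List ℕ}
    (hAs : ∀ A ∈ As, ∀ c ≤ A, c * c ≠ A) (htab : pairOk N p As = true) : False := by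
  classical
  haveI : Fact (Nat.Prime 2) := ⟨Nat.prime_two⟩
  have hNP : Nat.card (Subgroup.normalizer ((P : Subgroup G) : Set G)) = 2 * p := by
    have h := Subgroup.card_mul_index ((Subgroup.centralizer ((P : Subgroup G) : Set G)).subgroupOf
      (Subgroup.normalizer ((P : Subgroup G) : Set G)))
    rw [show ((Subgroup.centralizer ((P : Subgroup G) : Set G)).subgroupOf
      (Subgroup.normalizer ((P : Subgroup G) : Set G))).index = 2 from he,
      Nat.card_congr (Subgroup.subgroupOfEquivOfLe (Subgroup.centralizer_le_normalizer _)).toEquiv, hC] at h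
    rw [← h, mul_comm]
  obtain ⟨f, g, a, δ, ha, hδ, hfN, hgN, hf1, hg1, hfa, hrel, hsum, hinv⟩ :=
    Small.StructureConstantTwo.principal_two hna hp5 P hP hC hNP
  obtain ⟨t, ht⟩ := exists_prime_orderOf_dvd_card' (G := G) 2 (hN ▸ h2)
  obtain ⟨u, -, hu, heq⟩ := hinv t ht
  rw [hN] at hfN hgN hsum heq
  have hhalf : 2 ≤ (p - 1) / 2 := by omega
  have hsmall : f * f < N ∧ g * g < N := by
    rw [pow_two, pow_two] at hsum
    have hge : g * g ≤ (p - 1) / 2 * (g * g) := Nat.le_mul_of_pos_left _ (by omega)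
    have := Nat.mul_pos (show 0 < g by omega) (show 0 < g by omega)
    have := Nat.mul_pos (show 0 < f by omega) (show 0 < f by omega)
    constructor <;> omega
  have hle : ∀ d : ℕ, d ∣ N → d * d < N → d ∈ degDivs := fun d hdN hlt => by
    refine mem_degDivs (hdN.trans (hN ▸ hd)) ?_
    by_contra hb
    have h1 : 15647 * 15647 ≤ d * d := Nat.mul_le_mul (Nat.lt_of_not_le hb) (Nat.lt_of_not_le hb)
    have := Nat.le_of_dvd (by norm_num) (hN ▸ hd)
    omega
  simp only [pairOk, List.all_eq_true, List.mem_filter, Bool.or_eq_true, Bool.not_eq_true',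
    decide_eq_false_iff_not, decide_eq_true_eq, List.any_eq_true, Bool.and_eq_true] at htab
  have ha' : a ∈ ([1, -1] : List ℤ) := by simpa using ha
  have hδ' : δ ∈ ([1, -1] : List ℤ) := by simpa using hδ
  rcases htab f ⟨hle f hfN hsmall.1, hf1, Nat.mod_eq_zero_of_dvd hfN, hsmall.1⟩ a ha'
    g ⟨hle g hgN hsmall.2, hg1, Nat.mod_eq_zero_of_dvd hgN, hsmall.2⟩ δ hδ' with h | ⟨A, hA, hAeq⟩
  · exact h ⟨Int.emod_eq_zero_of_dvd hfa, hrel, by rw [pow_two, pow_two] at hsum; exact hsum⟩
  have h0 : (p : ℤ) * f * (δ * g) ≠ 0 :=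
    mul_ne_zero (mul_ne_zero (by omega) (by omega)) (mul_ne_zero (by omega) (by omega))
  refine no_square (hAs A hA) (x := (f : ℤ) - u)
    (c := (Nat.card (Subgroup.centralizer ({t} : Set G)) : ℤ)) (sub_ne_zero.2 hu.symm) ?_
  refine mul_left_cancel₀ h0 ?_
  linear_combination heq - ((f : ℤ) - u) ^ 2 * hAeq

/-- The residues at a self-centralising Sylow subgroup of order eleven. -/
theorem residue_eleven (P : Sylow 11 G) (hP : Nat.card P = 11)
    (hC : Nat.card (Subgroup.centralizer ((P : Subgroup G) : Set G)) = 11) {e : ℕ} (he2 : e = 5 ∨ e = 10)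
    (he : (Subgroup.centralizer ((P : Subgroup G) : Set G)).relIndex
      (Subgroup.normalizer ((P : Subgroup G) : Set G)) = e) (χ : IrrCharacter G) :
    (e = 5 → okFive (charDegree (χ : G → ℂ)) = true) ∧ (e = 10 → okTen (charDegree (χ : G → ℂ)) = true) := by
  classical
  obtain ⟨M, hM⟩ := exists_pModular (show Nat.Prime 11 by norm_num)
  obtain ⟨X, Y, a, δ, h⟩ := exists_prime_principal hM hP he
  have key : charDegree (χ : G → ℂ) % 11 = 0 ∨ charDegree (χ : G → ℂ) % 11 = 1 ∨
      charDegree (χ : G → ℂ) % 11 = 10 ∨ (e = 5 ∧ (charDegree (χ : G → ℂ) % 11 = 5 ∨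
        charDegree (χ : G → ℂ) % 11 = 6)) := by
    by_cases hχ : χ ∈ principalBlock M G
    · rcases (h.mem_iff χ).1 hχ with hX | hY
      · have h2 := (h.a_congr χ hX).eq
        rcases h.a_sign χ hX with e' | e' <;> rw [e'] at h2 <;> omega
      · have h2 := (h.congrY χ hY).eq
        rcases h.sign with e' | e' <;> rw [e'] at h2 <;> rcases he2 with rfl | rfl <;> omega
    · obtain ⟨y0, hy0P, hy0, -⟩ := MathieuEleven.gen_prime hP
      exact Or.inl (Nat.mod_eq_zero_of_dvd
        (mem_or_dvd hM P hP hC hχ hy0P (fun e' => by rw [e', orderOf_one] at hy0; omega)).2)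
  refine ⟨fun he5 => ?_, fun he10 => ?_⟩ <;> rcases key with k | k | k | ⟨k0, k | k⟩ <;>
    first
      | omega
      | simp [okFive, okTen, k]

/-- The orders. -/
theorem order_eleven (hna : ¬ IsMulCommutative G) (hd : Nat.card G ∣ 443520) (h11 : 11 ∣ Nat.card G)
    (hbig : 6000 ≤ Nat.card G) : Nat.card G = 7920 ∨ Nat.card G = 443520 := by
  classical
  by_cases h95 : Nat.card G ∣ 95040
  · rcases MTwelve.RecogOrders.card_cases h95 h11 hbig with h | h
    · exact Or.inl h
    · rw [h] at hd; norm_num at hd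
  have hd' : Nat.card G ∣ 244823040 := hd.trans (by norm_num)
  obtain ⟨m, hm⟩ := id h11
  have hm' : m ∣ 40320 := Nat.dvd_of_mul_dvd_mul_left (by norm_num : 0 < 11)
    (hm ▸ hd.trans (show 443520 ∣ 11 * 40320 by norm_num))
  rcases (Nat.le_of_dvd (by norm_num) hm').lt_or_eq with hlt | heq
  swap
  · exact Or.inr (by rw [hm, heq])
  exfalso
  have hm11 : ¬ 11 ∣ m := fun h => absurd (h.trans hm') (by norm_num)
  have hmem : m ∈ cofactors := List.mem_filter.2 ⟨mem_divList (hm'.trans (by norm_num)), by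
    simp only [decide_eq_true_eq]; exact ⟨Nat.mod_eq_zero_of_dvd hm', by omega, hlt⟩⟩
  obtain ⟨P, n, e, k, hP, hn, hk, hnek, hn1, hne1, he10, he1, he⟩ := data (G := G) (p := 11) hm hm11 (by omega)
  have hel : e = 2 ∨ e = 5 ∨ e = 10 := by
    have : e ≤ 10 := Nat.le_of_dvd (by norm_num) he10
    interval_cases e <;> simp_all <;> omega
  have hnM : n ∈ divList := mem_divList ((Dvd.intro (e * k) (by rw [← hnek, mul_assoc])).trans
    (hm'.trans (by norm_num)))
  have hk0 : k ≠ 0 := fun h0 => by rw [h0, mul_zero] at hnek; omega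
  have hkeq : m / (n * e) = k := by
    rw [← hnek, Nat.mul_div_cancel_left _ (Nat.pos_of_ne_zero fun h0 => by rw [h0, zero_mul] at hnek; omega)]
  have hC : Nat.card (Subgroup.centralizer ((P : Subgroup G) : Set G)) = 11 * k := hk
  obtain ⟨M, hM⟩ := exists_pModular (show Nat.Prime 11 by norm_num)
  have h := List.all_eq_true.1 (List.all_eq_true.1 (List.all_eq_true.1 table_eleven m hmem) n hnM) e
    (by simpa using hel)
  simp only [Bool.or_eq_true, Bool.and_eq_true, Bool.not_eq_true', decide_eq_false_iff_not, decide_eq_true_eq,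
    hkeq] at h
  rcases h with (((h | h) | h) | h) | ⟨⟨hkl, he2⟩, h⟩
  · exact h ⟨Nat.mod_eq_zero_of_dvd (Dvd.intro k hnek), hn1, hne1⟩
  · exact false_of_chk hna (by norm_num) hM P hP he he10 he1 hm (hm ▸ hd') hn _ (fun _ _ _ => rfl) h
  · exact h95 (hm ▸ (show 11 * m ∣ 11 * 8640 from Nat.mul_dvd_mul_left _ (Nat.dvd_of_mod_eq_zero h)).trans
      (by norm_num))
  · rcases h with ⟨rfl, rfl, rfl⟩ | ⟨rfl, rfl, rfl⟩ | ⟨rfl, rfl, rfl⟩
    · obtain rfl : k = 1 := by omega
      rw [mul_one] at hC
      exact false_of_pair (by norm_num) hna hd' hm P hP hC he (by norm_num) (As := [56, 12])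
        (by decide) pair_eleven
    · obtain rfl : k = 1 := by omega
      rw [mul_one] at hC
      haveI : Fact (Nat.Prime 7) := ⟨by norm_num⟩
      obtain ⟨R, n', e', k', hR, hn', hk', hnek', hn1', hne1', he6, he1', hre⟩ :=
        data (G := G) (p := 7) (m := 5280) (by rw [hm]) (by norm_num) (by norm_num)
      have he'l : e' = 2 ∨ e' = 3 ∨ e' = 6 := by
        have : e' ≤ 6 := Nat.le_of_dvd (by norm_num) he6
        interval_cases e' <;> simp_all <;> omega
      have h' := List.all_eq_true.1 (List.all_eq_true.1 table_seven_five n' (mem_allDivs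
        ((Dvd.intro (e' * k') (by rw [← hnek', mul_assoc])).trans (show 5280 ∣ 244823040 by norm_num)))) e'
        (by simpa using he'l)
      simp only [Bool.or_eq_true, Bool.not_eq_true', decide_eq_false_iff_not, decide_eq_true_eq] at h'
      rcases h' with (h' | h') | ⟨rfl, rfl⟩
      · exact h' ⟨Nat.mod_eq_zero_of_dvd (Dvd.intro k' hnek'), hn1', hne1'⟩
      · obtain ⟨M7, hM7⟩ := exists_pModular (show Nat.Prime 7 by norm_num)
        exact false_of_chk hna (by norm_num) hM7 R hR hre he6 he1' hm (hm ▸ hd') hn' okFive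
          (fun χ _ _ => (residue_eleven P hP hC (Or.inl rfl) he χ).1 rfl) h'
      · obtain rfl : k' = 1 := by omega
        exact false_of_pair (by norm_num) hna hd' hm R hR hk' hre (by norm_num) (As := [176, 22])
          (by decide) pair_seven
    · obtain rfl : k = 1 := by omega
      rw [mul_one] at hC
      haveI : Fact (Nat.Prime 7) := ⟨by norm_num⟩
      obtain ⟨R, n', e', k', hR, hn', hk', hnek', hn1', hne1', he6, he1', hre⟩ :=
        data (G := G) (p := 7) (m := 10560) (by rw [hm]) (by norm_num) (by norm_num)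
      have he'l : e' = 2 ∨ e' = 3 ∨ e' = 6 := by
        have : e' ≤ 6 := Nat.le_of_dvd (by norm_num) he6
        interval_cases e' <;> simp_all <;> omega
      have h' := List.all_eq_true.1 (List.all_eq_true.1 table_seven_ten n' (mem_allDivs
        ((Dvd.intro (e' * k') (by rw [← hnek', mul_assoc])).trans (show 10560 ∣ 244823040 by norm_num)))) e'
        (by simpa using he'l)
      simp only [Bool.or_eq_true, Bool.not_eq_true', decide_eq_false_iff_not, decide_eq_true_eq] at h'
      rcases h' with h' | h'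
      · exact h' ⟨Nat.mod_eq_zero_of_dvd (Dvd.intro k' hnek'), hn1', hne1'⟩
      · obtain ⟨M7, hM7⟩ := exists_pModular (show Nat.Prime 7 by norm_num)
        exact false_of_chk hna (by norm_num) hM7 R hR hre he6 he1' hm (hm ▸ hd') hn' okTen
          (fun χ _ _ => (residue_eleven P hP hC (Or.inr rfl) he χ).2 rfl) h'
  refine false_of_chk hna (by norm_num) hM P hP he he10 he1 hm (hm ▸ hd') hn _ (fun χ hχ hne => ?_) h
  rw [bne_iff_ne]
  intro h45
  obtain ⟨y, hyP, hy, hyz⟩ := MathieuEleven.gen_prime hP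
  have hy1 : y ≠ 1 := fun e' => by rw [e', orderOf_one] at hy; omega
  obtain ⟨q, hq, hqp, hqr, hqmod⟩ : ∃ q : ℕ, q.Prime ∧ q ≠ 11 ∧ q ≠ 5 ∧ q ^ k.factorization q % 5 ≠ 1 := by
    simp only [List.mem_cons, List.not_mem_nil, or_false] at hkl
    rcases hkl with rfl | rfl | rfl | rfl | rfl
    · exact ⟨3, by norm_num, by norm_num, by norm_num, by
        rw [Nat.Prime.factorization_self Nat.prime_three]; norm_num⟩
    · exact ⟨2, by norm_num, by norm_num, by norm_num, by
        rw [show (4 : ℕ) = 2 ^ 2 by norm_num, Nat.Prime.factorization_pow Nat.prime_two,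
          Finsupp.single_eq_same]; norm_num⟩
    all_goals
      refine ⟨7, by norm_num, by norm_num, by norm_num, ?_⟩
      first
        | rw [Nat.Prime.factorization_self (by norm_num : Nat.Prime 7)]
        | rw [show (14 : ℕ) = 7 * 2 by norm_num, Nat.factorization_mul (by norm_num) (by norm_num),
            Finsupp.add_apply, Nat.Prime.factorization_self (by norm_num : Nat.Prime 7),
            Nat.factorization_eq_zero_of_not_dvd (by norm_num : ¬ 7 ∣ 2)]
        | rw [show (28 : ℕ) = 7 * 4 by norm_num, Nat.factorization_mul (by norm_num) (by norm_num),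
            Finsupp.add_apply, Nat.Prime.factorization_self (by norm_num : Nat.Prime 7),
            Nat.factorization_eq_zero_of_not_dvd (by norm_num : ¬ 7 ∣ 4)]
      norm_num
  haveI := Fact.mk hq
  haveI : Fact (Nat.Prime 5) := ⟨by norm_num⟩
  obtain ⟨v, f, hvC, hv, hf, hfv⟩ := exists_pair P (r := 5) hC he
    (by rcases hel with rfl | rfl | rfl <;> first | (exact absurd rfl he2) | norm_num) hqp hqmod hk0
  exact false_of_two_primes hna hM P hP hχ hne (r := 5) Nat.prime_five (by norm_num) (by rw [h45]; norm_num)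
    (fun h' => absurd (h'.trans hd) (by norm_num)) hyP hy1 hq hqp hqr hv
    (Subgroup.mem_centralizer_iff.1 hvC y hyP).symm
    (hf ▸ Subgroup.orderOf_dvd_natCard _ (Subgroup.mem_centralizer_singleton_iff.2 hfv)) (by rw [h45]; norm_num)

end Cfsg.Agent.MathieuByGraph
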