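import Cfsg.Agent.Lib.Spor.MathieuByGraph.TwentyThree

/-!
Three orders are not the order of a simple group.
-/

set_option autoImplicit false
set_option linter.unusedSectionVars false
set_option linter.style.haveILetI false
set_option maxRecDepth 100000

namespace Cfsg.Agent.MathieuByGraph

open Cfsg Cfsg.Agent.Char Cfsg.Agent.Small.Order459648 Cfsg.Agent.Char.PrimeSylowCount
open Cfsg.Agent.MTwelve.OrderFront (val_one mult_nat)
open Cfsg.Agent.MTwentyFour.ByOrder (divList mem_divList)
open scoped ComplexConjugate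

universe u

local instance fact_twentyThree' : Fact (Nat.Prime 23) := ⟨by norm_num⟩
local instance fact_eleven' : Fact (Nat.Prime 11) := ⟨by norm_num⟩
local instance fact_five' : Fact (Nat.Prime 5) := ⟨by norm_num⟩
local instance fact_three' : Fact (Nat.Prime 3) := ⟨by norm_num⟩

/-- the possible numbers of Sylow subgroups -/
def allDivs : List ℕ := divList ++ divList.map fun d => 23 * d

theorem mem_allDivs {d : ℕ} (h : d ∣ 244823040) : d ∈ allDivs := by
  rw [allDivs, List.mem_append, List.mem_map]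
  by_cases h23 : 23 ∣ d
  · obtain ⟨c, rfl⟩ := h23
    exact Or.inr ⟨c, mem_divList (Nat.dvd_of_mul_dvd_mul_left (by norm_num : 0 < 23)
      (h.trans (show 244823040 ∣ 23 * 10644480 by norm_num))), rfl⟩
  · exact Or.inl (mem_divList ((((by norm_num : Nat.Prime 23).coprime_iff_not_dvd.2 h23).symm).dvd_of_dvd_mul_left
      (h.trans (show 244823040 ∣ 23 * 10644480 by norm_num))))

/-- degrees allowed by an automiser of order eleven -/
def okA (d : ℕ) : Bool := [0, 1, 22, 11, 12].contains (d % 23) && d != 11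

/-- degrees with a possible value at the involution -/
def zok (d : ℕ) : Bool :=
  let b : Option ℕ := if d % 23 == 0 then some (d / 23) else if d % 23 == 1 then some ((d + 22) / 23)
    else if d % 23 == 22 then some ((d - 22) / 23) else none
  match b with
  | none => false
  | some b => (List.range (2 * b + 1)).any fun i => ((d : ℤ) - ((i : ℤ) - b)) % 44 == 0

/-- the same without a full power of two -/
def ok2 (d : ℕ) : Bool := zok d && d % 256 != 0

/-- the same without forty-five -/
def ok3 (d : ℕ) : Bool := ok2 d && d != 45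

theorem table_a : (allDivs.all fun n => [5, 10].all fun e =>
    !(decide (38640 % (n * e) = 0 ∧ n % 11 = 1 ∧ n ≠ 1)) || chk 425040 11 n e okA) = true := by
  decide +kernel

theorem table_a_five : (allDivs.all fun n => [2, 4].all fun e =>
    !(decide (85008 % (n * e) = 0 ∧ n % 5 = 1 ∧ n ≠ 1 ∧ n % 23 = 0 ∧ n * e % 3 ≠ 0)) || chk 425040 5 n e okA) =
      true := by
  decide +kernel

theorem table_b : (allDivs.all fun n => [2, 5, 10].all fun e =>
    !(decide (77280 % (n * e) = 0 ∧ n % 11 = 1 ∧ n ≠ 1)) || chk 850080 11 n e zok) = true := by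
  decide +kernel

theorem table_c : (allDivs.all fun n => [5, 10].all fun e =>
    !(decide (1854720 % (n * e) = 0 ∧ n % 11 = 1 ∧ n ≠ 1)) || chk 20401920 11 n e ok2 ||
      (let k := 1854720 / (n * e); decide (k % 2 = 1) ||
        (chk 20401920 11 n e ok3 && decide ((k % 2 = 0 ∧ k % 16 ≠ 0) ∨ k % 64 = 32 ∨ k % 7 = 0)))) = true := by
  decide +kernel

/-- the two degrees of a block with automiser of order two -/
def twoOk (N : ℕ) (ok : ℕ → Bool) (d₀ : ℕ) : Bool :=
  let D : List ℕ := degDivs.filter fun d => decide (1 < d ∧ N % d = 0 ∧ d * d < N) && ok d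
  D.all fun d => !(decide (d % 11 = 1 ∨ d % 11 = 10)) || D.all fun g =>
    !(decide (g % 11 = 2 ∨ (g + 2) % 11 = 0)) ||
      !(decide ((if g % 11 = 2 then (g : ℤ) else -(g : ℤ)) = 1 + (if d % 11 = 1 then (d : ℤ) else -(d : ℤ)))) ||
      decide (d = d₀)

theorem two_a : twoOk 425040 okA 23 = true := by decide +kernel

theorem two_c : twoOk 20401920 ok2 45 = true := by decide +kernel

variable {G : Type u} [Group G] [Fintype G] [IsSimpleGroup G]

omit [IsSimpleGroup G] in
/-- A character is in the block or its degree is divisible by the prime. -/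
theorem mem_or_dvd {p : ℕ} [Fact p.Prime] {M : Ideal AlgInt} (hM : IsPModular p M) (P : Sylow p G)
    (hP : Nat.card P = p) (hC : Nat.card (Subgroup.centralizer ((P : Subgroup G) : Set G)) = p) {χ : IrrCharacter G}
    (hχ : χ ∉ principalBlock M G) {y : G} (hyP : y ∈ (P : Subgroup G)) (hy1 : y ≠ 1) :
    (∀ j : ℕ, y ^ j ≠ 1 → (χ : G → ℂ) (y ^ j) = 0) ∧ p ∣ charDegree (χ : G → ℂ) := by
  have hp : p.Prime := Fact.out
  have ho : ∀ z : G, z ∈ (P : Subgroup G) → z ≠ 1 → orderOf z = p ∧
      Subgroup.centralizer ({z} : Set G) = Subgroup.zpowers z := by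
    intro z hz hz1
    have h1 : orderOf z ∣ p := by
      have := (P : Subgroup G).orderOf_dvd_natCard hz
      rwa [show Nat.card (P : Subgroup G) = p from hP] at this
    have h2 := ((Nat.dvd_prime hp).1 h1).resolve_left fun e' => hz1 (orderOf_eq_one_iff.1 e')
    have h3 : Subgroup.zpowers z = (P : Subgroup G) :=
      Subgroup.eq_of_le_of_card_ge (Subgroup.zpowers_le.2 hz) (by rw [Nat.card_zpowers, h2]; exact hP.le)
    refine ⟨h2, ?_⟩
    rw [← MathieuEleven.centralizer_gen h3, h3]
    exact (Subgroup.eq_of_le_of_card_ge (fun a ha => Subgroup.mem_centralizer_iff.2 fun b hb =>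
      MathieuEleven.comm_of_prime hP b hb a ha) (by rw [hC]; exact hP.ge)).symm
  have hv : ∀ j : ℕ, y ^ j ≠ 1 → (χ : G → ℂ) (y ^ j) = 0 := fun j hj => by
    obtain ⟨h1, h2⟩ := ho _ (pow_mem hyP j) hj
    exact Small.StructureConstantTwo.vanish_outside hM h1 h2 hχ
  refine ⟨hv, ?_⟩
  obtain ⟨hoy, -⟩ := ho y hyP hy1
  obtain ⟨m, hm⟩ := mult_nat (irr_isCharacter χ.2) (n := p) hp.ne_zero (g := y)
    (by rw [← hoy, pow_orderOf_eq_one]) (ζ := 1) (one_pow p)
  rw [Finset.sum_eq_single 0 (fun j hj hj0 => ?_) (fun h => absurd (Finset.mem_range.2 hp.pos) h)] at hm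
  · rw [pow_zero, pow_zero, one_mul, val_one] at hm
    exact ⟨m, by exact_mod_cast hm⟩
  · rw [hv j (fun h => ?_), mul_zero]
    have := Nat.le_of_dvd (Nat.pos_of_ne_zero hj0) (hoy ▸ orderOf_dvd_of_pow_eq_one h)
    have := Finset.mem_range.1 hj
    omega

/-- The residues modulo twenty-three of the degrees. -/
theorem residue (P : Sylow 23 G) (hP : Nat.card P = 23)
    (hC : Nat.card (Subgroup.centralizer ((P : Subgroup G) : Set G)) = 23) {e : ℕ} (he2 : e = 11 ∨ e = 22)
    (he : (Subgroup.centralizer ((P : Subgroup G) : Set G)).relIndex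
      (Subgroup.normalizer ((P : Subgroup G) : Set G)) = e) (χ : IrrCharacter G) :
    [0, 1, 22, 11, 12].contains (charDegree (χ : G → ℂ) % 23) = true ∧
      (e = 22 → ∀ y : G, y ∈ (P : Subgroup G) → y ≠ 1 → ∃ a : ℤ,
        (∀ j : ℕ, y ^ j ≠ 1 → (χ : G → ℂ) (y ^ j) = a) ∧
        ((charDegree (χ : G → ℂ) % 23 = 0 ∧ a = 0) ∨ (charDegree (χ : G → ℂ) % 23 = 1 ∧ a = 1) ∨
          (charDegree (χ : G → ℂ) % 23 = 22 ∧ a = -1))) := by
  classical
  obtain ⟨M, hM⟩ := exists_pModular (show Nat.Prime 23 by norm_num)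
  obtain ⟨t, ht, het⟩ : ∃ t, 0 < t ∧ e * t + 1 = 23 := by
    rcases he2 with rfl | rfl
    exacts [⟨2, by norm_num⟩, ⟨1, by norm_num⟩]
  obtain ⟨X, Y, a, δ, h, h1X, hone, hYc⟩ := Solv.BReyn.exists_principal_one_mem hM hP he (by omega) ht het
  by_cases hχ : χ ∈ principalBlock M G
  · rcases (h.mem_iff χ).1 hχ with hX | hY
    · have h2 := (h.a_congr χ hX).eq
      refine ⟨?_, fun _ y hy _ => ⟨a χ, fun j hj => h.a_val χ hX ⟨y ^ j, pow_mem hy j⟩ (mem_nonOne.2 hj), ?_⟩⟩
      · rcases h.a_sign χ hX with e' | e' <;> rw [e'] at h2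
        · rw [show charDegree (χ : G → ℂ) % 23 = 1 by omega]; rfl
        · rw [show charDegree (χ : G → ℂ) % 23 = 22 by omega]; rfl
      · rcases h.a_sign χ hX with e' | e' <;> rw [e'] at h2 ⊢ <;> omega
    · have h2 := (h.congrY χ hY).eq
      refine ⟨?_, fun he22 y hy hy1 => ?_⟩
      · rcases h.sign with e' | e' <;> rw [e'] at h2 <;> rcases he2 with rfl | rfl
        · rw [show charDegree (χ : G → ℂ) % 23 = 11 by omega]; rfl
        · rw [show charDegree (χ : G → ℂ) % 23 = 22 by omega]; rfl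
        · rw [show charDegree (χ : G → ℂ) % 23 = 12 by omega]; rfl
        · rw [show charDegree (χ : G → ℂ) % 23 = 1 by omega]; rfl
      · subst he22
        obtain ⟨θ, hθ⟩ := Finset.card_eq_one.1 (hYc.trans (show t = 1 by omega))
        obtain rfl : χ = θ := Finset.mem_singleton.1 (hθ ▸ hY)
        refine ⟨-δ, fun j hj => single_val hM P hP hC h hθ (y := ⟨y ^ j, pow_mem hy j⟩) (mem_nonOne.2 hj), ?_⟩
        rcases h.sign with e' | e' <;> rw [e'] at h2 ⊢ <;> omega
  · obtain ⟨y0, hy0P, hy0, -⟩ := MathieuEleven.gen_prime hP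
    have hd := (mem_or_dvd hM P hP hC hχ hy0P (fun e' => by rw [e', orderOf_one] at hy0; omega)).2
    refine ⟨by rw [Nat.mod_eq_zero_of_dvd hd]; rfl, fun _ y hy hy1 => ⟨0, fun j hj => ?_, ?_⟩⟩
    · rw [(mem_or_dvd hM P hP hC hχ hy hy1).1 j hj, Int.cast_zero]
    · exact Or.inl ⟨Nat.mod_eq_zero_of_dvd hd, rfl⟩

/-- No simple group has the first order. -/
theorem not_425040 (hG : Nat.card G = 425040) (P : Sylow 23 G) (hP : Nat.card P = 23)
    (hC : Nat.card (Subgroup.centralizer ((P : Subgroup G) : Set G)) = 23) (hn23 : Nat.card (Sylow 23 G) = 1680)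
    (he : (Subgroup.centralizer ((P : Subgroup G) : Set G)).relIndex
      (Subgroup.normalizer ((P : Subgroup G) : Set G)) = 11) : False := by
  classical
  have hna : ¬ IsMulCommutative G := Lead.BlockDeg.not_comm (p := 23) (m := 18480) (by norm_num) (by rw [hG])
    (by norm_num)
  have hd : Nat.card G ∣ 244823040 := by rw [hG]; norm_num
  have hok : ∀ χ : IrrCharacter G, χ ≠ oneChar → okA (charDegree (χ : G → ℂ)) = true := fun χ hne => by
    rw [okA, (residue P hP hC (Or.inl rfl) he χ).1, Bool.true_and, bne_iff_ne]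
    exact deg_ne_eleven hna (by rw [hG]; norm_num) (by rw [hG]; norm_num) (by rw [hG]; norm_num) hne
  have hk23 : centCard 23 P = 23 * 1 := by rw [centCard, hC]
  -- the Sylow subgroup of order eleven
  obtain ⟨Q, n, e, k, hQ, hn, hk, hnek, hn1, hne1, he10, he1, he'⟩ :=
    data (G := G) (p := 11) (m := 38640) (by rw [hG]) (by norm_num) (by norm_num)
  obtain ⟨M, hM⟩ := exists_pModular (show Nat.Prime 11 by norm_num)
  have hel : e = 2 ∨ e = 5 ∨ e = 10 := by
    have : e ≤ 10 := Nat.le_of_dvd (by norm_num) he10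
    interval_cases e <;> simp_all <;> omega
  obtain rfl : e = 2 := by
    by_contra he2
    have h := List.all_eq_true.1 (List.all_eq_true.1 table_a n (mem_allDivs
      ((Dvd.intro (e * k) (by rw [← hnek, mul_assoc])).trans (show 38640 ∣ 244823040 by norm_num)))) e
      (by rcases hel with rfl | rfl | rfl <;> simp_all)
    simp only [Bool.or_eq_true, Bool.not_eq_true', decide_eq_false_iff_not] at h
    rcases h with h | h
    · exact h ⟨Nat.mod_eq_zero_of_dvd (Dvd.intro k hnek), hn1, hne1⟩
    · exact false_of_chk hna (by norm_num) hM Q hQ he' he10 he1 hG (by norm_num) hn okA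
        (fun χ _ hne => hok χ hne) h
  have hk1 : k ≠ 1 := by rintro rfl; omega
  obtain ⟨X, Y, a, δ, h, h1X, hone, hYc⟩ :=
    Solv.BReyn.exists_principal_one_mem hM hQ he' (by norm_num) (t := 5) (by norm_num) (by norm_num)
  change (oneChar : IrrCharacter G) ∈ X at h1X
  change a (oneChar : IrrCharacter G) = 1 at hone
  obtain ⟨θ, hθ⟩ : Y.Nonempty := Finset.card_pos.1 (by omega)
  have hθne : θ ≠ oneChar := fun e1 => Finset.disjoint_left.1 h.disj h1X (e1 ▸ hθ)
  obtain ⟨χ, hsing⟩ : ∃ χ, X.erase oneChar = {χ} :=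
    Finset.card_eq_one.1 ((Finset.card_erase_of_mem h1X).trans (by rw [h.cardX]))
  obtain ⟨hne, hχX⟩ := Finset.mem_erase.1 (show χ ∈ X.erase oneChar by rw [hsing]; simp)
  have hrel : ∀ g : G, ¬ 11 ∣ orderOf g → (δ : ℂ) * (θ : G → ℂ) g = 1 + (a χ : ℂ) * (χ : G → ℂ) g := by
    intro g hg
    rw [h.rel θ hθ g hg, ← Finset.add_sum_erase X _ h1X, hone, hsing, Finset.sum_singleton]
    simp [oneChar]
  have hrel1 : δ * (charDegree (θ : G → ℂ) : ℤ) = 1 + a χ * (charDegree (χ : G → ℂ) : ℤ) := by
    have h1 := hrel 1 (by rw [orderOf_one]; norm_num)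
    rw [val_one, val_one] at h1
    exact_mod_cast h1
  have hdeg : charDegree (χ : G → ℂ) = 23 := by
    have ht := two_a
    simp only [twoOk, List.all_eq_true, Bool.or_eq_true, Bool.not_eq_true', decide_eq_false_iff_not,
      decide_eq_true_eq, List.mem_filter, Bool.and_eq_true] at ht
    have hmem : ∀ ψ : IrrCharacter G, ψ ≠ oneChar → charDegree (ψ : G → ℂ) ∈ degDivs ∧
        (1 < charDegree (ψ : G → ℂ) ∧ 425040 % charDegree (ψ : G → ℂ) = 0 ∧
          charDegree (ψ : G → ℂ) * charDegree (ψ : G → ℂ) < 425040) ∧ okA (charDegree (ψ : G → ℂ)) = true :=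
      fun ψ hψ => ⟨(degree_bound hd hψ).2, ⟨one_lt_degree hna hψ,
        Nat.mod_eq_zero_of_dvd (hG ▸ deg_dvd_card ψ.2), hG ▸ (degree_bound hd hψ).1⟩, hok ψ hψ⟩
    have hcg := (h.a_congr χ hχX).eq
    have hcgθ := (h.congrY θ hθ).eq
    rcases ht _ (hmem χ hne) with h' | h'
    · exfalso; rcases h.a_sign χ hχX with e' | e' <;> rw [e'] at hcg <;> omega
    rcases h' _ (hmem θ hθne) with (h'' | h'') | h''
    · exfalso; rcases h.sign with e' | e' <;> rw [e'] at hcgθ <;> omega
    · exfalso
      apply h''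
      rcases h.a_sign χ hχX with e' | e' <;> rcases h.sign with e'' | e'' <;> rw [e'] at hcg hrel1 <;>
        rw [e''] at hcgθ hrel1 <;> split_ifs <;> omega
    · exact h''
  have ha : a χ = 1 := by
    have hcg := (h.a_congr χ hχX).eq
    rcases h.a_sign χ hχX with e' | e' <;> rw [e'] at hcg ⊢
    omega
  obtain ⟨hδ, hθd⟩ : δ = 1 ∧ charDegree (θ : G → ℂ) = 24 := by
    rcases h.sign with e' | e' <;> rw [e', ha, hdeg] at hrel1 <;> refine ⟨?_, ?_⟩ <;> omega
  have hχB : χ ∈ principalBlock M G := (h.mem_iff χ).2 (Or.inl hχX)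
  have hθv : ∀ g : G, ¬ 11 ∣ orderOf g → (θ : G → ℂ) g = 1 + (χ : G → ℂ) g := fun g hg => by
    have h1 := hrel g hg
    rw [hδ, ha] at h1
    simpa using h1
  obtain ⟨y, hyP, hy, hyz⟩ := MathieuEleven.gen_prime hQ
  have hy1 : y ≠ 1 := fun e' => by rw [e', orderOf_one] at hy; omega
  have hkQ : Nat.card (Subgroup.centralizer ((Q : Subgroup G) : Set G)) = 11 * k := hk
  -- the centraliser has no element of order three
  have h3 : ¬ 3 ∣ centCard 11 Q := by
    intro h3
    obtain ⟨⟨v, hvC⟩, hv⟩ := exists_prime_orderOf_dvd_card' 3 h3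
    rw [Subgroup.orderOf_mk] at hv
    have hvy : v * y = y * v := (Subgroup.mem_centralizer_iff.1 hvC y hyP).symm
    obtain ⟨d, μ, hdim, hμ, htr, -⟩ := exists_eigen hna χ hv
    have hval : ∀ j : ℕ, ¬ 3 ∣ j → (χ : G → ℂ) (v ^ j) = -1 := by
      intro j hj
      have ho : orderOf (v ^ j) = 3 := by
        rw [orderOf_pow, hv, ((Nat.prime_three.coprime_iff_not_dvd).2 hj).gcd_eq_one, Nat.div_one]
      have h1 := hθv (v ^ j) (by rw [ho]; norm_num)
      rw [BSW.defect_zero_vanish Nat.prime_three (by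
        rw [← charDegree_eq_deg, hθd, hG]
        refine (pow_dvd_pow 3 (show (425040 : ℕ).factorization 3 ≤ 1 from ?_)).trans (by norm_num)
        by_contra hlt
        have := (pow_dvd_pow 3 (show 2 ≤ (425040 : ℕ).factorization 3 by omega)).trans (Nat.ordProj_dvd _ _)
        norm_num at this) (g := v ^ j) (by rw [ho])] at h1
      linear_combination (-1 : ℂ) * h1
    have hω : IsPrimitiveRoot (Complex.exp (2 * Real.pi * Complex.I / (3 : ℕ))) 3 :=
      Complex.isPrimitiveRoot_exp 3 (by norm_num)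
    obtain ⟨m, hm⟩ := p_dvd_mult hM Q hQ hχB hyP hy1 Nat.prime_three (by norm_num) (hv ▸ pow_orderOf_eq_one v) hvy
      μ hμ htr hω.pow_eq_one (hω.ne_one (by norm_num))
    have h1 := twist_eq μ (by norm_num : (3 : ℕ) ≠ 0) hμ hω.pow_eq_one
    rw [hm] at h1
    simp only [Finset.sum_range_succ, Finset.sum_range_zero, zero_add, ← htr] at h1
    rw [hval 1 (by norm_num), hval 2 (by norm_num), pow_zero, pow_zero, val_one, hdeg] at h1
    have hsum := (hω.inv).geom_sum_eq_zero (by norm_num)
    simp only [Finset.sum_range_succ, Finset.sum_range_zero, zero_add] at hsum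
    have h2 : ((24 : ℕ) : ℂ) = ((3 * (11 * m) : ℕ) : ℂ) := by
      push_cast at h1 hsum ⊢
      linear_combination h1 + hsum
    have : 24 = 3 * (11 * m) := by exact_mod_cast h2
    omega
  -- nor one of order five
  have h5 : ¬ 5 ∣ centCard 11 Q := by
    intro h5
    obtain ⟨⟨v, hvC⟩, hv⟩ := exists_prime_orderOf_dvd_card' 5 h5
    rw [Subgroup.orderOf_mk] at hv
    have hvy : v * y = y * v := (Subgroup.mem_centralizer_iff.1 hvC y hyP).symm
    obtain ⟨d, μ, hdim, hμ, htr, hdet⟩ := exists_eigen hna χ hv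
    have hv1 : v ≠ 1 := fun h => by rw [h, orderOf_one] at hv; omega
    obtain ⟨i, hi⟩ : ∃ i, μ i ≠ 1 := by
      by_contra hall
      push Not at hall
      refine SmallOrderGraph.norm_ne_deg hna hne hv1 ?_
      rw [← pow_one v, htr 1, ← hdim]
      simp [hall]
    have hmult : ∀ j, μ j ≠ 1 → 11 ∣ (Finset.univ.filter fun l => μ l = μ j).card ∧
        11 ≤ (Finset.univ.filter fun l => μ l = μ j).card := fun j hj =>
      have h' := p_dvd_mult hM Q hQ hχB hyP hy1 Nat.prime_five (by norm_num) (hv ▸ pow_orderOf_eq_one v) hvy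
        μ hμ htr (hμ j) hj
      ⟨h', Nat.le_of_dvd (Finset.card_pos.2 ⟨j, by simp⟩) h'⟩
    set A := Finset.univ.filter fun l => μ l = μ i with hA
    have hAprod : ∏ l ∈ A, μ l = μ i ^ A.card := by
      rw [Finset.prod_congr rfl (fun l hl => (Finset.mem_filter.1 hl).2), Finset.prod_const]
    have hd23 : d = 23 := hdim.trans hdeg
    obtain ⟨j, hj, hji⟩ : ∃ j, μ j ≠ 1 ∧ μ j ≠ μ i := by
      by_contra hcon
      push Not at hcon
      rw [← Finset.prod_filter_mul_prod_filter_not Finset.univ (fun l => μ l = μ i), hAprod,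
        Finset.prod_eq_one (fun l hl => ?_), mul_one] at hdet
      · obtain ⟨⟨s, hs⟩, h11⟩ : 11 ∣ A.card ∧ 11 ≤ A.card := hmult i hi
        have hAle : A.card ≤ d := (Finset.card_le_univ _).trans_eq (Fintype.card_fin d)
        have hs' : A.card.gcd 5 = 1 := by
          rcases (show A.card = 11 ∨ A.card = 22 by omega) with e' | e' <;> rw [e'] <;> norm_num
        have h' := pow_gcd_eq_one.2 ⟨hdet, hμ i⟩
        rw [hs', pow_one] at h'
        exact hi h'
      · by_contra hl1
        exact (Finset.mem_filter.1 hl).2 (hcon l hl1)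
    set B := Finset.univ.filter fun l => μ l = μ j with hB
    have hAB : Disjoint A B := Finset.disjoint_filter.2 fun l _ h1 h2 => hji (h2.symm.trans h1)
    have hrest : ∀ l, l ∉ A → l ∉ B → μ l = 1 := by
      intro l hlA hlB
      by_contra hl
      have hd2 : Disjoint (A ∪ B) (Finset.univ.filter fun l' => μ l' = μ l) := by
        rw [Finset.disjoint_left]
        intro l' hl' hl''
        have e' := (Finset.mem_filter.1 hl'').2
        rcases Finset.mem_union.1 hl' with h' | h'
        · exact hlA (Finset.mem_filter.2 ⟨Finset.mem_univ _, e'.symm.trans (Finset.mem_filter.1 h').2⟩)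
        · exact hlB (Finset.mem_filter.2 ⟨Finset.mem_univ _, e'.symm.trans (Finset.mem_filter.1 h').2⟩)
      have h' := Finset.card_le_univ ((A ∪ B) ∪ Finset.univ.filter fun l' => μ l' = μ l)
      rw [Finset.card_union_of_disjoint hd2, Finset.card_union_of_disjoint hAB, Fintype.card_fin] at h'
      have : 11 ≤ A.card := (hmult i hi).2
      have : 11 ≤ B.card := (hmult j hj).2
      have := (hmult l hl).2
      omega
    have hABc : A.card = 11 ∧ B.card = 11 := by
      obtain ⟨⟨s, hs⟩, h1⟩ : 11 ∣ A.card ∧ 11 ≤ A.card := hmult i hi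
      obtain ⟨⟨s', hs'⟩, h2⟩ : 11 ∣ B.card ∧ 11 ≤ B.card := hmult j hj
      have h' := Finset.card_le_univ (A ∪ B)
      rw [Finset.card_union_of_disjoint hAB, Fintype.card_fin] at h'
      omega
    have hsplit : ∀ f : Fin d → ℂ, ∑ l, f l = (∑ l ∈ A, f l) + (∑ l ∈ B, f l) + ∑ l ∈ (A ∪ B)ᶜ, f l := by
      intro f
      rw [← Finset.sum_union hAB, Finset.sum_add_sum_compl]
    have hcompl : (A ∪ B)ᶜ.card = 1 := by
      rw [Finset.card_compl, Finset.card_union_of_disjoint hAB, Fintype.card_fin, hABc.1, hABc.2]; omega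
    have hprod : μ i * μ j = 1 := by
      have h1 : ∏ l, μ l = (μ i * μ j) ^ 11 := by
        rw [← Finset.prod_mul_prod_compl (A ∪ B), Finset.prod_union hAB, hAprod,
          Finset.prod_congr rfl (fun l (hl : l ∈ B) => (Finset.mem_filter.1 hl).2), Finset.prod_const,
          Finset.prod_eq_one (fun l hl => hrest l (fun h' => Finset.mem_compl.1 hl (Finset.mem_union_left _ h'))
            (fun h' => Finset.mem_compl.1 hl (Finset.mem_union_right _ h'))), mul_one, hABc.1, hABc.2, mul_pow]
      rw [h1] at hdet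
      have h5' : (μ i * μ j) ^ 5 = 1 := by rw [mul_pow, hμ, hμ, one_mul]
      have h' := pow_gcd_eq_one.2 ⟨hdet, h5'⟩
      rwa [show Nat.gcd 11 5 = 1 by norm_num, pow_one] at h'
    have hval : ∀ s : ℕ, (χ : G → ℂ) (v ^ s) = 1 + 11 * (μ i ^ s + μ j ^ s) := by
      intro s
      rw [htr s, hsplit fun l => μ l ^ s, Finset.sum_congr rfl (g := fun _ => μ i ^ s) (fun l (hl : l ∈ A) => by
        rw [(Finset.mem_filter.1 hl).2]), Finset.sum_congr rfl (g := fun _ => μ j ^ s) (fun l (hl : l ∈ B) => by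
        rw [(Finset.mem_filter.1 hl).2]), Finset.sum_congr (s₁ := (A ∪ B)ᶜ) rfl (g := fun _ => (1 : ℂ)) (fun l hl => by
        rw [hrest l (fun h' => Finset.mem_compl.1 hl (Finset.mem_union_left _ h'))
          (fun h' => Finset.mem_compl.1 hl (Finset.mem_union_right _ h')), one_pow]), Finset.sum_const,
        Finset.sum_const, Finset.sum_const, hABc.1, hABc.2, hcompl]
      push_cast; ring
    set ξ := μ i with hξdef
    have hξ5 : ξ ^ 5 = 1 := hμ i
    have hj4 : μ j = ξ ^ 4 := by linear_combination (μ j) * (-hξ5) + ξ ^ 4 * hprod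
    have hξsum : 1 + ξ + ξ ^ 2 + ξ ^ 3 + ξ ^ 4 = 0 := by
      have h' : (ξ - 1) * (1 + ξ + ξ ^ 2 + ξ ^ 3 + ξ ^ 4) = 0 := by linear_combination hξ5
      exact (mul_eq_zero.1 h').resolve_left (sub_ne_zero.2 hi)
    set x1 := ξ + ξ ^ 4 with hx1
    set x2 := ξ ^ 2 + ξ ^ 3 with hx2
    have hsum12 : x1 + x2 = -1 := by linear_combination hξsum
    have hprod12 : x1 * x2 = -1 := by
      linear_combination hξsum + (ξ + ξ ^ 2) * hξ5
    have hv1' : (χ : G → ℂ) v = 1 + 11 * x1 := by
      have h' := hval 1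
      rw [pow_one] at h'
      rw [h', pow_one, pow_one, hj4]
    have hv2' : (χ : G → ℂ) (v ^ 2) = 1 + 11 * x2 := by
      rw [hval 2, hj4, ← pow_mul, show 4 * 2 = 5 + 3 from rfl, pow_add, hξ5, one_mul]
    have hconj : conj ξ = ξ ^ 4 := by
      have hn : ‖ξ‖ = 1 := Complex.norm_eq_one_of_pow_eq_one hξ5 (by norm_num)
      rw [← Complex.inv_eq_conj hn]
      exact inv_eq_of_mul_eq_one_right (by linear_combination hξ5)
    have hc1 : conj x1 = x1 := by
      rw [hx1, map_add, map_pow, hconj]
      linear_combination (ξ ^ 11 + ξ ^ 6 + ξ) * hξ5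
    have hc2 : conj x2 = x2 := by
      rw [hx2, map_add, map_pow, map_pow, hconj]
      linear_combination (ξ ^ 7 + ξ ^ 2 + ξ ^ 3) * hξ5
    set C := Subgroup.centralizer ({v} : Set G) with hCdef
    have h11v : ∀ s, ¬ 11 ∣ orderOf (v ^ s) := fun s hh => by
      have h' := hh.trans (orderOf_dvd_of_pow_eq_one (n := 5)
        (show (v ^ s) ^ 5 = 1 by rw [← pow_mul, mul_comm, pow_mul, ← hv, pow_orderOf_eq_one, one_pow]))
      norm_num at h'
    have hθY : ∀ ψ ∈ Y, ∀ s, (ψ : G → ℂ) (v ^ s) = 1 + (χ : G → ℂ) (v ^ s) := fun ψ hψ s => by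
      rw [h.regY ψ hψ θ hθ _ (h11v s), hθv _ (h11v s)]
    -- the lower bound on the centraliser
    have hlower : ∀ (s : ℕ) (w : ℂ), ¬ 5 ∣ s → (χ : G → ℂ) (v ^ s) = w → conj w = w →
        ∃ r : ℝ, ((r : ℂ) = 1 + w * w + 5 * ((1 + w) * (1 + w))) ∧ r ≤ Nat.card C := by
      intro s w hs hw hwc
      have hcard : Nat.card (Subgroup.centralizer ({v ^ s} : Set G)) = Nat.card C := by
        rw [hCdef, ← centralizer_zpowers_eq, ← centralizer_zpowers_eq, Subgroup.eq_of_le_of_card_ge (Subgroup.zpowers_le.2 (pow_mem (Subgroup.mem_zpowers v) s))]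
        rw [Nat.card_zpowers, Nat.card_zpowers, orderOf_pow, hv,
          ((Nat.prime_five.coprime_iff_not_dvd).2 hs).gcd_eq_one, Nat.div_one]
      have hcol := MTwelve.OrderFront.column_le (v ^ s) (insert (oneChar : IrrCharacter G) (insert χ Y))
      rw [hcard] at hcol
      have h1 : (oneChar : IrrCharacter G) ∉ insert χ Y := by
        rw [Finset.mem_insert]
        rintro (e' | e')
        · exact hne e'.symm
        · exact Finset.disjoint_left.1 h.disj h1X e'
      have h2 : χ ∉ Y := fun e' => Finset.disjoint_left.1 h.disj hχX e'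
      refine ⟨_, ?_, hcol⟩
      rw [Finset.sum_insert h1, Finset.sum_insert h2, Finset.sum_congr rfl (fun ψ hψ => by rw [hθY ψ hψ s]),
        Finset.sum_const, hYc, hw]
      push_cast
      rw [← Complex.mul_conj', ← Complex.mul_conj', ← Complex.mul_conj', map_add, map_one, hwc]
      simp [oneChar]
      ring
    obtain ⟨r1, hr1, hr1C⟩ := hlower 1 (1 + 11 * x1) (by norm_num) (by rw [pow_one]; exact hv1')
      (by rw [map_add, map_one, map_mul, map_ofNat, hc1])
    obtain ⟨r2, hr2, hr2C⟩ := hlower 2 (1 + 11 * x2) (by norm_num) hv2' (by rw [map_add, map_one, map_mul, map_ofNat, hc2])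
    have hr : r1 + r2 = 1980 := by
      have h' : ((r1 + r2 : ℝ) : ℂ) = ((1980 : ℝ) : ℂ) := by
        push_cast
        rw [hr1, hr2]
        linear_combination (726 * (x1 + x2 - 1) + 242) * hsum12 - 1452 * hprod12
      exact_mod_cast h'
    have hC990 : 990 ≤ Nat.card C := by
      have h' : (990 : ℝ) ≤ (Nat.card C : ℝ) := by linarith
      exact_mod_cast h'
    -- the class is divisible by twenty-four and twenty-three
    have hK23 : ¬ 23 ∣ Nat.card C := by
      intro h23
      obtain ⟨w, hw⟩ := exists_prime_orderOf_dvd_card' (G := C) 23 h23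
      have hw' : orderOf (w : G) = 23 := by rw [Subgroup.orderOf_coe, hw]
      obtain ⟨P', hP'⟩ := exists_sylow_eq P hP (w : G) hw'
      have h1 : centCard 23 P' = 23 := by rw [centCard_eq P' P, hk23]
      have h2 : 5 ∣ centCard 23 P' := by
        rw [← hv]
        refine Subgroup.orderOf_dvd_natCard _ ?_
        rw [hP', centralizer_zpowers_eq]
        exact Subgroup.mem_centralizer_singleton_iff.2 (Subgroup.mem_centralizer_singleton_iff.1 w.2).symm
      rw [h1] at h2
      norm_num at h2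
    have h24 : 24 ∣ C.index := by
      have hom : ∀ s, ¬ 5 ∣ s → IsIntegral ℤ ((C.index : ℂ) * (1 + (χ : G → ℂ) (v ^ s)) / 24) := by
        intro s hs
        have h' := omega_isIntegral θ.2 (v ^ s)
        rw [omega, card_conjClass_eq_index, hθY θ hθ s, val_one, hθd] at h'
        have he2 : Subgroup.centralizer ({v ^ s} : Set G) = C := by
          rw [hCdef, ← centralizer_zpowers_eq, ← centralizer_zpowers_eq,
            Subgroup.eq_of_le_of_card_ge (Subgroup.zpowers_le.2 (pow_mem (Subgroup.mem_zpowers v) s))]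
          rw [Nat.card_zpowers, Nat.card_zpowers, orderOf_pow, hv,
            ((Nat.prime_five.coprime_iff_not_dvd).2 hs).gcd_eq_one, Nat.div_one]
        rw [he2] at h'
        push_cast at h'
        exact h'
      have h' := (hom 1 (by norm_num)).mul (hom 2 (by norm_num))
      rw [pow_one, hv1', hv2'] at h'
      obtain ⟨w, hw⟩ := isIntegral_rat_cast_imp (q := -((C.index : ℚ) * C.index * 139) / 576) (by
        refine Eq.mp (congrArg (IsIntegral ℤ) ?_) h'
        push_cast
        linear_combination ((C.index : ℂ) ^ 2 / 576) * (22 * hsum12 + 121 * hprod12))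
      rw [eq_div_iff (by norm_num)] at hw
      have h576 : 576 ∣ C.index * C.index * 139 := by
        refine Int.natCast_dvd_natCast.1 ⟨-w, ?_⟩
        push_cast
        have : (-((C.index : ℤ) * C.index * 139) : ℤ) = w * 576 := by exact_mod_cast hw.symm
        linarith
      have h24' : 24 ^ 2 ∣ C.index ^ 2 := by
        rw [sq, sq]
        exact (Nat.Coprime.dvd_of_dvd_mul_right (by norm_num) h576)
      exact (Nat.pow_dvd_pow_iff two_ne_zero).1 h24'
    have h23i : 23 ∣ C.index := by
      have h' : 23 ∣ Nat.card C * C.index := by rw [Subgroup.card_mul_index, hG]; norm_num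
      exact ((by norm_num : Nat.Prime 23).dvd_mul.1 h').resolve_left hK23
    have h552 : 552 ∣ C.index := Nat.Coprime.mul_dvd_of_dvd_of_dvd (by norm_num : Nat.Coprime 24 23) h24 h23i
    obtain ⟨c, hc⟩ := h552
    have hmul := Subgroup.card_mul_index C
    rw [hc, hG] at hmul
    have hc0 : c ≠ 0 := by rintro rfl; omega
    have := Nat.mul_le_mul hC990 (Nat.mul_le_mul_left 552 (Nat.one_le_iff_ne_zero.2 hc0))
    omega
  -- the Sylow subgroup of order five
  obtain ⟨R, n', e', k', hR, hn', hk', hnek', hn1', hne1', he4, he1', hre⟩ :=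
    data (G := G) (p := 5) (m := 85008) (by rw [hG]) (by norm_num) (by norm_num)
  have h35 : ¬ 3 ∣ centCard 5 R := by
    intro h'
    rw [hk'] at h'
    have h3k : 3 ∣ k' := ((by norm_num : Nat.Prime 3).dvd_mul.1 h').resolve_left (by norm_num)
    obtain ⟨M5, hM5⟩ := exists_pModular (show Nat.Prime 5 by norm_num)
    have he'l : e' = 2 ∨ e' = 4 := by
      have : e' ≤ 4 := Nat.le_of_dvd (by norm_num) he4
      interval_cases e' <;> simp_all <;> omega
    have h23n : n' % 23 = 0 := by
      by_contra h23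
      have hk'23 : 23 ∣ k' := by
        have h1 : 23 ∣ n' * e' * k' := by rw [hnek']; norm_num
        rcases (by norm_num : Nat.Prime 23).dvd_mul.1 h1 with h2 | h2
        · rcases (by norm_num : Nat.Prime 23).dvd_mul.1 h2 with h3' | h3'
          · exact absurd (Nat.mod_eq_zero_of_dvd h3') h23
          · have := Nat.le_of_dvd (by omega) h3'; omega
        · exact h2
      have h2 := cross R P hR hP (hk' ▸ dvd_mul_of_dvd_right hk'23 5)
      rw [hk23] at h2
      norm_num at h2
    have hne3 : n' * e' % 3 ≠ 0 := fun h0 => by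
      have h9 : 3 * 3 ∣ n' * e' * k' := Nat.mul_dvd_mul (Nat.dvd_of_mod_eq_zero h0) h3k
      rw [hnek'] at h9
      norm_num at h9
    have h := List.all_eq_true.1 (List.all_eq_true.1 table_a_five n' (mem_allDivs
      ((Dvd.intro (e' * k') (by rw [← hnek', mul_assoc])).trans (show 85008 ∣ 244823040 by norm_num)))) e'
      (by simpa using he'l)
    simp only [Bool.or_eq_true, Bool.not_eq_true', decide_eq_false_iff_not] at h
    rcases h with h | h
    · exact h ⟨Nat.mod_eq_zero_of_dvd (Dvd.intro k' hnek'), hn1', hne1', h23n, hne3⟩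
    · exact false_of_chk hna (by norm_num) hM5 R hR hre he4 he1' hG (by norm_num) hn' okA
        (fun χ _ hne => hok χ hne) h
  -- counting
  have d1 := pSet_disjoint (q := 3) Q hQ (by norm_num) h3
  have d2 := pSet_disjoint (q := 5) Q hQ (by norm_num) h5
  have d3 := pSet_disjoint (q := 3) R hR (by norm_num) h35
  have d4 := pSet_disjoint (q := 11) P hP (by norm_num) (by rw [hk23]; norm_num)
  have d5 := pSet_disjoint (q := 3) P hP (by norm_num) (by rw [hk23]; norm_num)
  have d6 := pSet_disjoint (q := 5) P hP (by norm_num) (by rw [hk23]; norm_num)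
  have c11 := pSet_frac Q hQ hn hk (by rw [hG, hnek])
  have c23 := pSet_frac P hP hn23 hk23 (e := 11) (by rw [hG])
  have c3 := share (r := 3) (G := G) (by rw [hG]; norm_num) (by rw [hG]; norm_num) hna
  have c5 := share (r := 5) (G := G) (by rw [hG]; norm_num) (by rw [hG]; norm_num) hna
  have htot := Finset.card_le_univ (pSet 23 G ∪ pSet 11 G ∪ (pSet 5 G ∪ pSet 3 G))
  rw [Finset.card_union_of_disjoint (Finset.disjoint_union_left.2 ⟨Finset.disjoint_union_right.2 ⟨d6, d5⟩,
    Finset.disjoint_union_right.2 ⟨d2, d1⟩⟩), Finset.card_union_of_disjoint d4, Finset.card_union_of_disjoint d3,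
    ← Nat.card_eq_fintype_card, hG] at htot
  rw [hG] at c11 c23 c3 c5
  omega

/-- The involution of the automiser and the conditions it puts on the degrees of the block at eleven. -/
theorem exists_block_invol (hna : ¬ IsMulCommutative G) (hd : Nat.card G ∣ 244823040) (P : Sylow 23 G)
    (hP : Nat.card P = 23) (hC : Nat.card (Subgroup.centralizer ((P : Subgroup G) : Set G)) = 23)
    (he : (Subgroup.centralizer ((P : Subgroup G) : Set G)).relIndex
      (Subgroup.normalizer ((P : Subgroup G) : Set G)) = 22) {M : Ideal AlgInt} (hM : IsPModular 11 M) :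
    2 ∣ Nat.card (Subgroup.centralizer (((Classical.arbitrary (Sylow 11 G)) : Subgroup G) : Set G)) ∧
      ∀ χ : IrrCharacter G, χ ∈ principalBlock M G → χ ≠ oneChar → zok (charDegree (χ : G → ℂ)) = true ∧
        (Nat.card G = 20401920 → charDegree (χ : G → ℂ) % 256 ≠ 0) := by
  classical
  haveI : Fact (Nat.Prime 2) := ⟨Nat.prime_two⟩
  set C := Subgroup.centralizer ((P : Subgroup G) : Set G) with hCdef
  set N := Subgroup.normalizer ((P : Subgroup G) : Set G) with hNdef
  have hN : Nat.card N = 506 := by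
    have h := Subgroup.card_mul_index (C.subgroupOf N)
    rw [show (C.subgroupOf N).index = 22 from he,
      Nat.card_congr (Subgroup.subgroupOfEquivOfLe (Subgroup.centralizer_le_normalizer _)).toEquiv, hC] at h
    exact h.symm
  obtain ⟨⟨i, hiN⟩, hi⟩ := exists_prime_orderOf_dvd_card' (G := N) 2 (by rw [hN]; norm_num)
  rw [Subgroup.orderOf_mk] at hi
  have hiC : i ∉ C := fun h => by
    have := hi ▸ Subgroup.orderOf_dvd_natCard C h
    rw [hC] at this
    norm_num at this
  have hii : i * i = 1 := by rw [← sq, ← hi, pow_orderOf_eq_one]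
  have hiinv : i⁻¹ = i := inv_eq_of_mul_eq_one_right hii
  obtain ⟨g, hgP, hgo, hgz⟩ := MathieuEleven.gen_prime hP
  have hinvg : i * g * i⁻¹ = g⁻¹ := by
    have hmem : i * g * i⁻¹ ∈ Subgroup.zpowers g := by
      rw [hgz]; exact (Subgroup.mem_normalizer_iff.1 hiN g).1 hgP
    obtain ⟨j, hj⟩ := Subgroup.mem_zpowers_iff.1 hmem
    have hjj : g ^ (j * j) = g := by
      calc g ^ (j * j) = (i * g * i⁻¹) ^ j := by rw [← hj, zpow_mul]
        _ = i * g ^ j * i⁻¹ := conj_zpow
        _ = g := by rw [hj, hiinv]; calc i * (i * g * i) * i = (i * i) * g * (i * i) := by group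
            _ = g := by rw [hii]; group
    have h23 : (23 : ℤ) ∣ (j - 1) * (j + 1) := by
      have h := (orderOf_dvd_sub_iff_zpow_eq_zpow).2 (show g ^ (j * j) = g ^ (1 : ℤ) by rw [hjj, zpow_one])
      rw [hgo] at h
      exact h.trans (dvd_of_eq (by ring))
    rcases (Int.prime_iff_natAbs_prime.2 (by norm_num : (23 : ℤ).natAbs.Prime)).dvd_mul.1 h23 with h | h
    · exfalso
      refine hiC (Subgroup.mem_centralizer_iff.2 fun z hz => ?_)
      have hzz : z ∈ Subgroup.zpowers g := hgz ▸ hz
      obtain ⟨m, rfl⟩ := Subgroup.mem_zpowers_iff.1 hzz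
      have e1 : i * g * i⁻¹ = g := by
        rw [← hj]
        refine (orderOf_dvd_sub_iff_zpow_eq_zpow.1 ?_).trans (zpow_one g)
        rw [hgo]; exact h
      exact ((show Commute i g from mul_inv_eq_iff_eq_mul.1 e1).zpow_right m).eq.symm
    · rw [← hj, ← zpow_neg_one]
      refine orderOf_dvd_sub_iff_zpow_eq_zpow.1 ?_
      rw [hgo]; simpa using h
  -- an element of order eleven commuting with the involution
  obtain ⟨f, hf, hfi⟩ : ∃ f : G, orderOf f = 11 ∧ f * i = i * f := by
    set i' : N := ⟨i, hiN⟩ with hi'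
    set K := Subgroup.centralizer ({i'} : Set N)
    have hinvP : ∀ y ∈ (P : Subgroup G), i * y * i⁻¹ = y⁻¹ := fun y hy => by
      have hyz : y ∈ Subgroup.zpowers g := hgz ▸ hy
      obtain ⟨k, rfl⟩ := Subgroup.mem_zpowers_iff.1 hyz
      rw [← conj_zpow, hinvg, inv_zpow]
    have hmul := MathieuEleven.class_mul_centralizer i'
    rw [hN] at hmul
    have hle : Nat.card {x : N // IsConj i' x} ≤ 23 := by
      rw [← hC]
      refine Nat.card_le_card_of_injective (fun x => ⟨((x : N) : G) * i⁻¹, ?_⟩) ?_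
      · obtain ⟨⟨x, hx⟩, hconj⟩ := x
        obtain ⟨⟨n, hn⟩, hxe⟩ := isConj_iff.1 hconj
        have hxe' : n * i * n⁻¹ = x := congrArg Subtype.val hxe
        refine Subgroup.mem_centralizer_iff.2 fun b hb => ?_
        show b * (x * i⁻¹) = x * i⁻¹ * b
        have h1 := hinvP b⁻¹ (inv_mem hb)
        rw [inv_inv] at h1
        have hnb : n⁻¹ * b * n ∈ (P : Subgroup G) := by
          have := (Subgroup.mem_normalizer_iff.1 (inv_mem hn) b).1 hb
          simpa using this
        have h2 := hinvP _ hnb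
        have hxb : x * b⁻¹ * x⁻¹ = b := by
          rw [← hxe']
          calc n * i * n⁻¹ * b⁻¹ * (n * i * n⁻¹)⁻¹ = n * (i * (n⁻¹ * b * n) * i⁻¹)⁻¹ * n⁻¹ := by group
            _ = b := by rw [h2]; group
        calc b * (x * i⁻¹) = x * b⁻¹ * x⁻¹ * (x * i⁻¹) := by rw [hxb]
          _ = x * b⁻¹ * i⁻¹ := by group
          _ = x * i⁻¹ * (i * b⁻¹ * i⁻¹) := by group
          _ = x * i⁻¹ * b := by rw [h1]
      · intro x z h
        exact Subtype.ext (Subtype.ext (mul_right_cancel (congrArg Subtype.val h)))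
    have h23 : ¬ 23 ∣ Nat.card K := by
      intro h
      obtain ⟨⟨⟨w, hwN⟩, hwK⟩, hw⟩ := exists_prime_orderOf_dvd_card' (G := K) 23 h
      simp only [Subgroup.orderOf_mk] at hw
      have hwP : w ∈ (P : Subgroup G) :=
        MathieuEleven.mem_of_normalises ⟨1, by rw [pow_one, ← hw, pow_orderOf_eq_one]⟩ P hwN
      have hc : w * i = i * w := congrArg Subtype.val (Subgroup.mem_centralizer_singleton_iff.1 hwK)
      have h2 := hinvP w hwP
      rw [← hc, mul_inv_cancel_right] at h2
      have : orderOf w ∣ 2 := orderOf_dvd_of_pow_eq_one (by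
        rw [sq]; nth_rewrite 1 [h2]; rw [inv_mul_cancel])
      rw [hw] at this
      exact absurd this (by norm_num)
    have h11 : 11 ∣ Nat.card K := by
      have hKd : Nat.card K ∣ 506 := hN ▸ Subgroup.card_subgroup_dvd_card K
      have hge : 506 ≤ 23 * Nat.card K := hmul ▸ Nat.mul_le_mul_right _ hle
      have key : ∀ d < 507, 22 ≤ d → ¬ 23 ∣ d → d ∣ 506 → 11 ∣ d := by decide +kernel
      exact key _ (Nat.lt_succ_of_le (Nat.le_of_dvd (by norm_num) hKd)) (by omega) h23 hKd
    obtain ⟨w, hw⟩ := exists_prime_orderOf_dvd_card' (G := K) 11 h11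
    exact ⟨((w : N) : G), by rw [Subgroup.orderOf_coe, Subgroup.orderOf_coe, hw],
      congrArg Subtype.val (Subgroup.mem_centralizer_singleton_iff.1 w.2)⟩
  have hsq : ¬ 11 ^ 2 ∣ Nat.card G := fun h => absurd (h.trans hd) (by norm_num)
  have hf11 : ∀ R : Sylow 11 G, Nat.card R = 11 := fun R => by
    obtain ⟨j, hj⟩ := R.isPGroup'.exists_card_eq
    have hj2 : j < 2 := by
      by_contra hlt
      exact hsq ((pow_dvd_pow 11 (not_lt.1 hlt)).trans (hj ▸ Subgroup.card_subgroup_dvd_card _))
    interval_cases j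
    · exfalso
      refine R.not_dvd_index ?_
      have h1 := (R : Subgroup G).index_mul_card
      rw [hj, pow_zero, mul_one] at h1
      rw [h1, ← hf]
      exact orderOf_dvd_natCard f
    · rw [hj, pow_one]
  obtain ⟨Q, hQ⟩ := exists_sylow_eq (Classical.arbitrary (Sylow 11 G)) (hf11 _) f hf
  have hiQ : i ∈ Subgroup.centralizer ((Q : Subgroup G) : Set G) := by
    rw [hQ, centralizer_zpowers_eq]
    exact Subgroup.mem_centralizer_singleton_iff.2 hfi.symm
  refine ⟨?_, fun χ hχ hne => ?_⟩
  · show 2 ∣ centCard 11 _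
    rw [centCard_eq _ Q]
    exact hi ▸ Subgroup.orderOf_dvd_natCard _ hiQ
  have hfQ : f ∈ (Q : Subgroup G) := hQ ▸ Subgroup.mem_zpowers f
  have hf1 : f ≠ 1 := fun e' => by rw [e', orderOf_one] at hf; omega
  obtain ⟨z, hz, h4, -⟩ := SmallOrderGraph.invol_value hna hne hi
  have h22 := invol_congr hna hM Q (hf11 Q) (by norm_num) hχ hfQ hf1 hi hfi.symm hz
  have hg1 : g ≠ 1 := fun e' => by rw [e', orderOf_one] at hgo; omega
  obtain ⟨a, hval, hcases⟩ := (residue P hP hC (Or.inr rfl) he χ).2 rfl g hgP hg1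
  have hb := inverting_bound (p := 23) (by norm_num) hii hgo hinvg hval hz
  have hd44 : (44 : ℤ) ∣ (charDegree (χ : G → ℂ) : ℤ) - z := by omega
  have h11d : ¬ 11 ∣ charDegree (χ : G → ℂ) := by
    obtain ⟨Q', n, e, k, hQ', -, -, -, -, -, he10, he1, he'⟩ := data (G := G) (p := 11) (m := Nat.card G / 11)
      (Nat.mul_div_cancel' (hf ▸ orderOf_dvd_natCard f)).symm (fun h => hsq (by
        rw [pow_two, ← Nat.mul_div_cancel' (hf ▸ orderOf_dvd_natCard f : 11 ∣ Nat.card G)]
        exact Nat.mul_dvd_mul_left 11 h)) (by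
        by_contra hlt
        have h1 := Nat.le_of_dvd Nat.card_pos (hgo ▸ orderOf_dvd_natCard g)
        omega)
    obtain ⟨X, Y, a', δ, h⟩ := exists_prime_principal hM hQ' he'
    have he10' : e ≤ 10 := Nat.le_of_dvd (by norm_num) he10
    rcases (h.mem_iff χ).1 hχ with hX | hY
    · have h2 := (h.a_congr χ hX).eq
      rcases h.a_sign χ hX with e' | e' <;> rw [e'] at h2 <;> omega
    · have h2 := (h.congrY χ hY).eq
      have he0 : e ≠ 0 := fun e0 => by rw [e0] at he10; norm_num at he10
      rcases h.sign with e' | e' <;> rw [e'] at h2 <;> omega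
  refine ⟨?_, fun hGc h256 => ?_⟩
  · rcases hcases with ⟨hm, rfl⟩ | ⟨hm, rfl⟩ | ⟨hm, rfl⟩ <;>
      simp only [zok, hm, beq_self_eq_true, if_true, Nat.reduceBEq, Bool.false_eq_true, if_false, List.any_eq_true,
        List.mem_range, beq_iff_eq] <;>
      rcases abs_cases z with ⟨hz', hsg⟩ | ⟨hz', hsg⟩ <;> rw [hz'] at hb <;> norm_num at hb
    · refine ⟨(z + (charDegree (χ : G → ℂ) / 23 : ℕ)).toNat, by omega, ?_⟩
      rw [Int.toNat_of_nonneg (by omega), show z + ((charDegree (χ : G → ℂ) / 23 : ℕ) : ℤ) - ((charDegree (χ : G → ℂ) / 23 : ℕ) : ℤ) = z by ring]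
      exact Int.emod_eq_zero_of_dvd hd44
    · exact ⟨(z + (charDegree (χ : G → ℂ) / 23 : ℕ)).toNat, by omega, by omega⟩
    · exact ⟨(z + ((charDegree (χ : G → ℂ) + 22) / 23 : ℕ)).toNat, by omega, by omega⟩
    · exact ⟨(z + ((charDegree (χ : G → ℂ) + 22) / 23 : ℕ)).toNat, by omega, by omega⟩
    · exact ⟨(z + ((charDegree (χ : G → ℂ) - 22) / 23 : ℕ)).toNat, by omega, by omega⟩
    · exact ⟨(z + ((charDegree (χ : G → ℂ) - 22) / 23 : ℕ)).toNat, by omega, by omega⟩
  · have h0 : (χ : G → ℂ) i = 0 := by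
      refine BSW.defect_zero_vanish Nat.prime_two ?_ (by rw [hi])
      rw [← charDegree_eq_deg, hGc]
      refine (pow_dvd_pow 2 (show (20401920 : ℕ).factorization 2 ≤ 8 from ?_)).trans (Nat.dvd_of_mod_eq_zero h256)
      by_contra hlt
      have := (pow_dvd_pow 2 (show 9 ≤ (20401920 : ℕ).factorization 2 by omega)).trans (Nat.ordProj_dvd _ _)
      norm_num at this
    rw [h0] at hz
    have hz0 : z = 0 := by exact_mod_cast hz.symm
    omega

/-- No simple group has the second order. -/
theorem not_850080 (hG : Nat.card G = 850080) (P : Sylow 23 G) (hP : Nat.card P = 23)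
    (hC : Nat.card (Subgroup.centralizer ((P : Subgroup G) : Set G)) = 23)
    (he : (Subgroup.centralizer ((P : Subgroup G) : Set G)).relIndex
      (Subgroup.normalizer ((P : Subgroup G) : Set G)) = 22) : False := by
  classical
  have hna : ¬ IsMulCommutative G := Lead.BlockDeg.not_comm (p := 23) (m := 36960) (by norm_num) (by rw [hG])
    (by norm_num)
  have hd : Nat.card G ∣ 244823040 := by rw [hG]; norm_num
  obtain ⟨M, hM⟩ := exists_pModular (show Nat.Prime 11 by norm_num)
  obtain ⟨-, hok⟩ := exists_block_invol hna hd P hP hC he hM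
  obtain ⟨Q, n, e, k, hQ, hn, hk, hnek, hn1, hne1, he10, he1, he'⟩ :=
    data (G := G) (p := 11) (m := 77280) (by rw [hG]) (by norm_num) (by norm_num)
  have hel : e = 2 ∨ e = 5 ∨ e = 10 := by
    have : e ≤ 10 := Nat.le_of_dvd (by norm_num) he10
    interval_cases e <;> simp_all
  have h := List.all_eq_true.1 (List.all_eq_true.1 table_b n (mem_allDivs
    ((Dvd.intro (e * k) (by rw [← hnek, mul_assoc])).trans (show 77280 ∣ 244823040 by norm_num)))) e
    (by simpa using hel)
  simp only [Bool.or_eq_true, Bool.not_eq_true', decide_eq_false_iff_not] at h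
  rcases h with h | h
  · exact h ⟨Nat.mod_eq_zero_of_dvd (Dvd.intro k hnek), hn1, hne1⟩
  · exact false_of_chk hna (by norm_num) hM Q hQ he' he10 he1 hG (by norm_num) hn zok
      (fun χ hχ hne => (hok χ hχ hne).1) h

/-- No simple group has the third order. -/
theorem not_20401920 (hG : Nat.card G = 20401920) (P : Sylow 23 G) (hP : Nat.card P = 23)
    (hC : Nat.card (Subgroup.centralizer ((P : Subgroup G) : Set G)) = 23)
    (he : (Subgroup.centralizer ((P : Subgroup G) : Set G)).relIndex
      (Subgroup.normalizer ((P : Subgroup G) : Set G)) = 22) : False := by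
  classical
  have hna : ¬ IsMulCommutative G := Lead.BlockDeg.not_comm (p := 23) (m := 887040) (by norm_num) (by rw [hG])
    (by norm_num)
  have hd : Nat.card G ∣ 244823040 := by rw [hG]; norm_num
  obtain ⟨M, hM⟩ := exists_pModular (show Nat.Prime 11 by norm_num)
  obtain ⟨h2C, hok'⟩ := exists_block_invol hna hd P hP hC he hM
  have hok : ∀ χ : IrrCharacter G, χ ∈ principalBlock M G → χ ≠ oneChar → ok2 (charDegree (χ : G → ℂ)) = true :=
    fun χ hχ hne => by
      rw [ok2, (hok' χ hχ hne).1, Bool.true_and, bne_iff_ne]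
      exact (hok' χ hχ hne).2 hG
  obtain ⟨Q, n, e, k, hQ, hn, hk, hnek, hn1, hne1, he10, he1, he'⟩ :=
    data (G := G) (p := 11) (m := 1854720) (by rw [hG]) (by norm_num) (by norm_num)
  have hel : e = 2 ∨ e = 5 ∨ e = 10 := by
    have : e ≤ 10 := Nat.le_of_dvd (by norm_num) he10
    interval_cases e <;> simp_all <;> omega
  have hk0 : k ≠ 0 := fun h0 => by rw [h0, mul_zero] at hnek; omega
  have hkQ : Nat.card (Subgroup.centralizer ((Q : Subgroup G) : Set G)) = 11 * k := hk
  have hkodd : k % 2 = 0 := by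
    have h1 : 2 ∣ centCard 11 (Classical.arbitrary (Sylow 11 G)) := h2C
    rw [centCard_eq _ Q, hk] at h1
    omega
  have hsq : ¬ 11 ^ 2 ∣ Nat.card G := by rw [hG]; norm_num
  obtain ⟨y, hyP, hy, hyz⟩ := MathieuEleven.gen_prime hQ
  have hy1 : y ≠ 1 := fun e' => by rw [e', orderOf_one] at hy; omega
  rcases hel with rfl | he5
  · -- automiser of order two: too many elements of order divisible by five
    obtain ⟨X, Y, a, δ, h, h1X, hone, hYc⟩ :=
      Solv.BReyn.exists_principal_one_mem hM hQ he' (by norm_num) (t := 5) (by norm_num) (by norm_num)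
    change (oneChar : IrrCharacter G) ∈ X at h1X
    change a (oneChar : IrrCharacter G) = 1 at hone
    obtain ⟨θ, hθ⟩ : Y.Nonempty := Finset.card_pos.1 (by omega)
    have hθne : θ ≠ oneChar := fun e1 => Finset.disjoint_left.1 h.disj h1X (e1 ▸ hθ)
    obtain ⟨χ, hsing⟩ : ∃ χ, X.erase oneChar = {χ} :=
      Finset.card_eq_one.1 ((Finset.card_erase_of_mem h1X).trans (by rw [h.cardX]))
    obtain ⟨hne, hχX⟩ := Finset.mem_erase.1 (show χ ∈ X.erase oneChar by rw [hsing]; simp)
    have hrel1 : δ * (charDegree (θ : G → ℂ) : ℤ) = 1 + a χ * (charDegree (χ : G → ℂ) : ℤ) := by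
      have h1 := h.rel θ hθ 1 (by rw [orderOf_one]; norm_num)
      rw [← Finset.add_sum_erase X _ h1X, hone, hsing, Finset.sum_singleton] at h1
      simp only [val_one, Int.cast_one, one_mul, oneChar] at h1
      have h3 : ((δ * (charDegree (θ : G → ℂ) : ℤ) : ℤ) : ℂ) =
          ((1 + a χ * (charDegree (χ : G → ℂ) : ℤ) : ℤ) : ℂ) := by
        push_cast at h1 ⊢
        simp only [charDegree] at h1 ⊢
        simpa using h1
      exact_mod_cast h3
    have hdeg : charDegree (χ : G → ℂ) = 45 := by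
      have ht := two_c
      simp only [twoOk, List.all_eq_true, Bool.or_eq_true, Bool.not_eq_true', decide_eq_false_iff_not,
        decide_eq_true_eq, List.mem_filter, Bool.and_eq_true] at ht
      have hmem : ∀ ψ : IrrCharacter G, ψ ∈ principalBlock M G → ψ ≠ oneChar → charDegree (ψ : G → ℂ) ∈ degDivs ∧
          (1 < charDegree (ψ : G → ℂ) ∧ 20401920 % charDegree (ψ : G → ℂ) = 0 ∧
            charDegree (ψ : G → ℂ) * charDegree (ψ : G → ℂ) < 20401920) ∧ ok2 (charDegree (ψ : G → ℂ)) = true :=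
        fun ψ hψB hψ => ⟨(degree_bound hd hψ).2, ⟨one_lt_degree hna hψ,
          Nat.mod_eq_zero_of_dvd (hG ▸ deg_dvd_card ψ.2), hG ▸ (degree_bound hd hψ).1⟩, hok ψ hψB hψ⟩
      have hcg := (h.a_congr χ hχX).eq
      have hcgθ := (h.congrY θ hθ).eq
      rcases ht _ (hmem χ ((h.mem_iff χ).2 (Or.inl hχX)) hne) with h' | h'
      · exfalso; rcases h.a_sign χ hχX with e' | e' <;> rw [e'] at hcg <;> omega
      rcases h' _ (hmem θ ((h.mem_iff θ).2 (Or.inr hθ)) hθne) with (h'' | h'') | h''
      · exfalso; rcases h.sign with e' | e' <;> rw [e'] at hcgθ <;> omega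
      · exfalso
        apply h''
        rcases h.a_sign χ hχX with e' | e' <;> rcases h.sign with e'' | e'' <;> rw [e'] at hcg hrel1 <;>
          rw [e''] at hcgθ hrel1 <;> split_ifs <;> omega
      · exact h''
    have ha : a χ = 1 := by
      have hcg := (h.a_congr χ hχX).eq
      rcases h.a_sign χ hχX with e' | e' <;> rw [e'] at hcg ⊢
      omega
    have hA : ∀ x ∈ pSet 11 G, (χ : G → ℂ) x = 1 := fun x hx =>
      val_singular hM Q hQ hsq ((h.mem_iff χ).2 (Or.inl hχX))
        (fun w hw => by rw [h.a_val χ hχX w hw, ha]; norm_num) (mem_pSet.1 hx)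
    have hB : ∀ x ∈ pSet 5 G, (χ : G → ℂ) x = 0 := fun x hx => by
      refine BSW.defect_zero_vanish Nat.prime_five ?_ (mem_pSet.1 hx)
      rw [← charDegree_eq_deg, hdeg, hG]
      refine (pow_dvd_pow 5 (show (20401920 : ℕ).factorization 5 ≤ 1 from ?_)).trans (by norm_num)
      by_contra hlt
      have := (pow_dvd_pow 5 (show 2 ≤ (20401920 : ℕ).factorization 5 by omega)).trans (Nat.ordProj_dvd _ _)
      norm_num at this
    have hdisj : Disjoint (pSet 11 G) (pSet 5 G) := Finset.disjoint_left.2 fun x h1 h2 => by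
      have := (hA x h1).symm.trans (hB x h2)
      norm_num at this
    have hm := mass hne _ _ hdisj (Or.inl rfl) hA hB
    have cA := pSet_frac Q hQ hn hk (by rw [hG, hnek])
    have cB := share (r := 5) (G := G) (by rw [hG]; norm_num) (by rw [hG]; norm_num) hna
    have hAN : (pSet 11 G).card ≤ Nat.card G := by
      rw [Nat.card_eq_fintype_card]; exact Finset.card_le_univ _
    rw [hG] at cA cB hAN hm
    generalize (pSet 11 G).card = A at hm cA hAN
    generalize (pSet 5 G).card = B at hm cB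
    have e1 : (9273600 : ℤ) ≤ A := by omega
    have e2 : (4080384 : ℤ) ≤ B := by omega
    have e3 : (9273600 : ℤ) * 9273600 ≤ (A : ℤ) ^ 2 := by rw [sq]; exact mul_le_mul e1 e1 (by norm_num) (by omega)
    have e5 : (20401920 - (A : ℤ)) * (20401920 - A - B) ≤ (20401920 - (A : ℤ)) * 7047936 :=
      mul_le_mul_of_nonneg_left (by omega) (by omega)
    have e6 : (20401920 - (A : ℤ)) * 7047936 ≤ 11128320 * 7047936 := by omega
    push_cast at hm
    omega
  -- automiser of order five or ten
  have h := List.all_eq_true.1 (List.all_eq_true.1 table_c n (mem_allDivs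
    ((Dvd.intro (e * k) (by rw [← hnek, mul_assoc])).trans (show 1854720 ∣ 244823040 by norm_num)))) e
    (by simpa using he5)
  have hkeq : 1854720 / (n * e) = k := by
    rw [← hnek, Nat.mul_div_cancel_left _ (Nat.pos_of_ne_zero fun h0 => by rw [h0, zero_mul] at hnek; omega)]
  simp only [Bool.or_eq_true, Bool.and_eq_true, Bool.not_eq_true', decide_eq_false_iff_not, decide_eq_true_eq,
    hkeq] at h
  rcases h with (h | h) | h | ⟨h, hq⟩
  · exact h ⟨Nat.mod_eq_zero_of_dvd (Dvd.intro k hnek), hn1, hne1⟩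
  · exact false_of_chk hna (by norm_num) hM Q hQ he' he10 he1 hG (by norm_num) hn ok2 hok h
  · omega
  refine false_of_chk hna (by norm_num) hM Q hQ he' he10 he1 hG (by norm_num) hn ok3 (fun χ hχ hne => ?_) h
  rw [ok3, hok χ hχ hne, Bool.true_and, bne_iff_ne]
  intro h45
  have h5e : 5 ∣ e := by rcases he5 with rfl | rfl <;> norm_num
  obtain ⟨q, hq', hqp, hqr, hqmod⟩ : ∃ q : ℕ, q.Prime ∧ q ≠ 11 ∧ q ≠ 5 ∧ q ^ k.factorization q % 5 ≠ 1 := by
    by_cases h7 : k % 7 = 0
    · refine ⟨7, by norm_num, by norm_num, by norm_num, ?_⟩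
      have hb : k.factorization 7 = 1 := by
        refine le_antisymm ?_ (((by norm_num : Nat.Prime 7).dvd_iff_one_le_factorization hk0).1
          (Nat.dvd_of_mod_eq_zero h7))
        by_contra hlt
        have h49 : 7 ^ 2 ∣ n * e * k :=
          ((pow_dvd_pow 7 (not_le.1 hlt)).trans (Nat.ordProj_dvd k 7)).trans (dvd_mul_left _ _)
        rw [hnek] at h49
        norm_num at h49
      rw [hb]; norm_num
    · refine ⟨2, Nat.prime_two, by norm_num, by norm_num, ?_⟩
      have hlo : 1 ≤ k.factorization 2 :=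
        (Nat.prime_two.dvd_iff_one_le_factorization hk0).1 (Nat.dvd_of_mod_eq_zero hkodd)
      rcases hq with ⟨-, h16⟩ | h32 | h7'
      swap
      · have hb : k.factorization 2 = 5 := by
          refine le_antisymm ?_ ((Nat.prime_two.pow_dvd_iff_le_factorization hk0).1
            (Nat.dvd_of_mod_eq_zero (by norm_num; omega)))
          by_contra hlt
          have h64 := Nat.mod_eq_zero_of_dvd ((pow_dvd_pow 2 (not_le.1 hlt)).trans (Nat.ordProj_dvd k 2))
          norm_num at h64
          omega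
        rw [hb]; norm_num
      · have hb : k.factorization 2 ≤ 3 := by
          by_contra hlt
          exact h16 (Nat.mod_eq_zero_of_dvd ((pow_dvd_pow 2 (not_le.1 hlt)).trans (Nat.ordProj_dvd k 2)))
        generalize k.factorization 2 = j at hlo hb ⊢
        interval_cases j <;> norm_num
      · exact absurd h7' h7
  haveI := Fact.mk hq'
  obtain ⟨v, f, hvC, hv, hf, hfv⟩ := exists_pair Q (r := 5) hkQ he' h5e hqp hqmod hk0
  exact false_of_two_primes hna hM Q hQ hχ hne (r := 5) Nat.prime_five (by norm_num) (by rw [h45]; norm_num)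
    (by rw [hG]; norm_num) hyP hy1 hq' hqp hqr hv (Subgroup.mem_centralizer_iff.1 hvC y hyP).symm
    (hf ▸ Subgroup.orderOf_dvd_natCard _ (Subgroup.mem_centralizer_singleton_iff.2 hfv)) (by rw [h45]; norm_num)

end Cfsg.Agent.MathieuByGraph

namespace Cfsg.Agent.MathieuByGraph

open Cfsg Cfsg.Agent.Char

/-- The orders of the simple groups dividing that of the largest Mathieu group and divisible by twenty-three. -/
theorem order_twentyThree.{v} {S : Type v} [Group S] [Fintype S] [IsSimpleGroup S] (hna : ¬ IsMulCommutative S)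
    (hd : Nat.card S ∣ 244823040) (h23 : 23 ∣ Nat.card S) :
    (11 ∣ Nat.card S ∧ Nat.card S < 64009) ∨ Nat.card S = 10200960 ∨ Nat.card S = 244823040 := by
  rcases twentyThree_options hna hd h23 with h | h | h |
    ⟨P, n, e, hP, hC, he, hn, ⟨hG, rfl, rfl⟩ | ⟨hG, rfl, rfl⟩ | ⟨hG, rfl, rfl⟩⟩
  · exact Or.inl h
  · exact Or.inr (Or.inl h)
  · exact Or.inr (Or.inr h)
  · exact (not_425040 hG P hP hC hn he).elim
  · exact (not_850080 hG P hP hC he).elim
  · exact (not_20401920 hG P hP hC he).elim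

end Cfsg.Agent.MathieuByGraph
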