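import Cfsg.Agent.Lib.Spor.MathieuByGraph.Check
import Cfsg.Agent.Lib.Spor.MTwelve.OrderFront.Generic
import Cfsg.Agent.Lib.Char.FrobSylowSections
import Cfsg.Agent.Lib.Char.BSW.Eqs

/-!
Values and eigenvalue multiplicities of the principal block characters of a Sylow subgroup of prime order at the
elements commuting with it.
-/

set_option autoImplicit false
set_option linter.unusedSectionVars false
set_option linter.style.haveILetI false

namespace Cfsg.Agent.MathieuByGraph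

open Cfsg Cfsg.Agent.Char Cfsg.Agent.Small.Order459648
open Cfsg.Agent.MTwelve.OrderFront (val_one mult_nat)
open scoped ComplexConjugate

universe u

variable {G : Type u} [Group G] [Fintype G]

/-- The eigenvalues of a nontrivial element of prime order. -/
theorem exists_eigen [IsSimpleGroup G] (hna : ¬ IsMulCommutative G) (χ : IrrCharacter G) {v : G} {q : ℕ}
    (hv : orderOf v = q) :
    ∃ (n : ℕ) (μ : Fin n → ℂ), n = charDegree (χ : G → ℂ) ∧ (∀ i, μ i ^ q = 1) ∧
      (∀ j : ℕ, (χ : G → ℂ) (v ^ j) = ∑ i, μ i ^ j) ∧ ∏ i, μ i = 1 := by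
  classical
  obtain ⟨d, ρ, hρ⟩ := irr_isCharacter χ.2
  obtain ⟨μ, hμ, htr, hdet⟩ := exists_eigenvalues ρ v
  refine ⟨_, μ, ?_, fun i => hv ▸ hμ i, fun j => by rw [← hρ]; exact htr j, ?_⟩
  · have h := val_one χ
    rw [← hρ, Representation.char_one] at h
    rw [← hρ]
    exact_mod_cast h
  · let f : G →* ℂˣ := (LinearMap.det.comp ρ).toHomUnits
    have hle : commutator G ≤ f.ker := Abelianization.commutator_subset_ker f
    rw [perfect hna] at hle
    have h1 : LinearMap.det (ρ v) = 1 := congrArg Units.val (MonoidHom.mem_ker.1 (hle (Subgroup.mem_top v)))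
    have h2 := hdet 1
    rw [pow_one, h1] at h2
    simpa using h2.symm

/-- The twisted sum counts an eigenvalue. -/
theorem twist_eq {n q : ℕ} (μ : Fin n → ℂ) (hq : q ≠ 0) (hμ : ∀ i, μ i ^ q = 1) {c : ℂ} (hc : c ^ q = 1) :
    ∑ j ∈ Finset.range q, c⁻¹ ^ j * ∑ i, μ i ^ j = (q : ℂ) * (Finset.univ.filter fun i => μ i = c).card := by
  classical
  have hc0 : c ≠ 0 := fun h => by rw [h, zero_pow hq] at hc; exact zero_ne_one hc
  have key : ∀ i, ∑ j ∈ Finset.range q, (c⁻¹ * μ i) ^ j = if μ i = c then (q : ℂ) else 0 := by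
    intro i
    split
    · rename_i h1; simp [h1, inv_mul_cancel₀ hc0]
    · rename_i h1
      have h2 : c⁻¹ * μ i ≠ 1 := fun h => h1 ((inv_mul_eq_one₀ hc0).1 h).symm
      rw [geom_sum_eq h2, mul_pow, inv_pow, hc, hμ i, inv_one, one_mul, sub_self, zero_div]
  simp only [Finset.mul_sum, ← mul_pow]
  rw [Finset.sum_comm, Finset.sum_congr rfl fun i _ => key i, ← Finset.sum_filter, Finset.sum_const,
    nsmul_eq_mul, mul_comm]

section Principal

variable {p : ℕ} [Fact p.Prime] {M : Ideal AlgInt}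

/-- The nontrivial eigenvalues occur in multiples of the prime. -/
theorem p_dvd_mult (hM : IsPModular p M) (P : Sylow p G) (hP : Nat.card P = p) {χ : IrrCharacter G}
    (hχ : χ ∈ principalBlock M G) {y : G} (hy : y ∈ (P : Subgroup G)) (hy1 : y ≠ 1) {q : ℕ} (hq : q.Prime)
    (hqp : q ≠ p) {v : G} (hv : v ^ q = 1) (hc : v * y = y * v) {n : ℕ} (μ : Fin n → ℂ)
    (hμ : ∀ i, μ i ^ q = 1) (htr : ∀ j : ℕ, (χ : G → ℂ) (v ^ j) = ∑ i, μ i ^ j) {c : ℂ} (hcq : c ^ q = 1)
    (hc1 : c ≠ 1) : p ∣ (Finset.univ.filter fun i => μ i = c).card := by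
  classical
  have hp : p.Prime := Fact.out
  have hF := frobSylow_of_prime hP
  have hcy : Commute y v := hc.symm
  have hyp : y ^ p = 1 := by
    have h := congrArg Subtype.val (pow_card_eq_one' (x := (⟨y, hy⟩ : ↥(P : Subgroup G))))
    rw [show Nat.card (P : Subgroup G) = p from hP] at h
    exact h
  have hoy : orderOf y = p := orderOf_eq_prime hyp hy1
  have hconst : ∀ i j : ℕ, i < p → i ≠ 0 → (χ : G → ℂ) (y ^ i * v ^ j) = (χ : G → ℂ) (y ^ i) := by
    intro i j hi hi0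
    have hyi : y ^ i ≠ 1 := fun h => by
      have := Nat.le_of_dvd (by omega) (hoy ▸ orderOf_dvd_of_pow_eq_one h)
      omega
    have hm : v ^ j ∈ Subgroup.centralizer ({y ^ i} : Set G) :=
      Subgroup.mem_centralizer_singleton_iff.2 (hcy.symm.pow_pow j i).eq
    refine hF.principal_const hM hχ (y := ⟨y ^ i, pow_mem hy i⟩) hyi ⟨v ^ j, hm⟩ ?_
    rw [Subgroup.orderOf_mk]
    intro h
    have h2 : orderOf (v ^ j) ∣ q := orderOf_dvd_of_pow_eq_one (by rw [← pow_mul, mul_comm, pow_mul, hv, one_pow])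
    exact hqp ((Nat.prime_dvd_prime_iff_eq hp hq).1 (h.trans h2)).symm
  have hco : Nat.Coprime p q := (Nat.coprime_primes hp hq).2 (Ne.symm hqp)
  have hg : (y * v) ^ (p * q) = 1 := by
    rw [hcy.mul_pow, pow_mul, hyp, one_pow, one_mul, mul_comm p, pow_mul, hv, one_pow]
  have hη : c⁻¹ ^ q = 1 := by rw [inv_pow, hcq, inv_one]
  obtain ⟨T, hT⟩ := mult_nat (irr_isCharacter χ.2) (n := p * q) (Nat.mul_ne_zero hp.ne_zero hq.ne_zero)
    hg (ζ := c⁻¹) (by rw [mul_comm, pow_mul, hη, one_pow])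
  have hinj : Set.InjOn (fun i : ℕ => (i % p, i % q)) (Finset.range (p * q) : Set ℕ) := by
    intro i hi j hj hij
    simp only [Finset.coe_range, Set.mem_Iio, Prod.mk.injEq] at hi hj hij
    exact ((Nat.modEq_and_modEq_iff_modEq_mul hco).1 hij).eq_of_lt_of_lt hi hj
  have himg : (Finset.range (p * q)).image (fun i : ℕ => (i % p, i % q)) = Finset.range p ×ˢ Finset.range q := by
    refine Finset.eq_of_subset_of_card_le (fun x hx => ?_) ?_
    · obtain ⟨i, -, rfl⟩ := Finset.mem_image.1 hx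
      exact Finset.mem_product.2 ⟨Finset.mem_range.2 (Nat.mod_lt _ hp.pos),
        Finset.mem_range.2 (Nat.mod_lt _ hq.pos)⟩
    · rw [Finset.card_image_of_injOn hinj]; simp
  have hsum : ∑ i ∈ Finset.range (p * q), c⁻¹ ^ i * (χ : G → ℂ) ((y * v) ^ i) =
      ∑ a ∈ Finset.range p, ∑ b ∈ Finset.range q, c⁻¹ ^ b * (χ : G → ℂ) (y ^ a * v ^ b) := by
    rw [← Finset.sum_product', ← himg, Finset.sum_image hinj]
    refine Finset.sum_congr rfl fun i _ => ?_
    rw [hcy.mul_pow, pow_eq_pow_mod i hyp, pow_eq_pow_mod i hv, pow_eq_pow_mod i hη]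
  have hgeo : ∑ b ∈ Finset.range q, c⁻¹ ^ b = 0 := by
    rw [geom_sum_eq (fun h => hc1 (inv_eq_one.1 h)), hη, sub_self, zero_div]
  obtain ⟨p', hp'⟩ : ∃ p', p = p' + 1 := ⟨p - 1, by have := hp.pos; omega⟩
  rw [hsum, hp', Finset.sum_range_succ', ← hp'] at hT
  rw [Finset.sum_congr rfl fun i hi => Finset.sum_congr rfl fun j _ => by
    rw [hconst (i + 1) j (by have := Finset.mem_range.1 hi; omega) (by omega)]] at hT
  simp only [← Finset.sum_mul, hgeo, zero_mul, Finset.sum_const_zero, zero_add, pow_zero, one_mul] at hT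
  rw [Finset.sum_congr rfl fun j _ => by rw [htr j], twist_eq μ hq.ne_zero hμ hcq, Nat.cast_mul] at hT
  have h2 : ((q * (Finset.univ.filter fun i => μ i = c).card : ℕ) : ℂ) = ((q * (p * T) : ℕ) : ℂ) := by
    push_cast
    linear_combination hT
  exact ⟨T, Nat.eq_of_mul_eq_mul_left hq.pos (by exact_mod_cast h2)⟩

end Principal

/-- The eigenvalues of an element whose class has size prime to a divisor of the degree. -/
theorem r_dvd_mult (χ : IrrCharacter G) {r : ℕ} (hr : r.Prime) (hrd : r ∣ charDegree (χ : G → ℂ))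
    (hr2 : ¬ r ^ 2 ∣ Nat.card G) {v : G} (hrC : r ∣ Nat.card (Subgroup.centralizer ({v} : Set G))) {q : ℕ}
    (hq : q.Prime) (hqr : q ≠ r) {n : ℕ} (μ : Fin n → ℂ)
    (hμ : ∀ i, μ i ^ q = 1) (htr : ∀ j : ℕ, (χ : G → ℂ) (v ^ j) = ∑ i, μ i ^ j) {c : ℂ} (hcq : c ^ q = 1) :
    r ∣ (Finset.univ.filter fun i => μ i = c).card := by
  classical
  have hd0 : (charDegree (χ : G → ℂ) : ℂ) ≠ 0 := Nat.cast_ne_zero.2 (deg_pos χ.2).ne'
  have hint : ∀ j : ℕ, IsIntegral ℤ ((χ : G → ℂ) (v ^ j) / r) := by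
    intro j
    have h := omega_isIntegral χ.2 (v ^ j)
    rw [omega, char_one_eq_deg (irr_isCharacter χ.2), ← charDegree_eq_deg, card_conjClass_eq_index] at h
    set H := Subgroup.centralizer ({v ^ j} : Set G) with hH
    have hrH : r ∣ Nat.card H := hrC.trans (Subgroup.card_dvd_of_le fun x hx =>
      Subgroup.mem_centralizer_singleton_iff.2
        ((show Commute x v from Subgroup.mem_centralizer_singleton_iff.1 hx).pow_right j).eq)
    have hcop : Nat.Coprime H.index r := ((hr.coprime_iff_not_dvd.2 fun h' => hr2 (by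
      rw [pow_two, ← Subgroup.card_mul_index H]
      exact Nat.mul_dvd_mul hrH h'))).symm
    obtain ⟨α, β, hαβ⟩ : ∃ α β : ℤ, α * (H.index : ℤ) + β * r = 1 :=
      Int.isCoprime_iff_gcd_eq_one.2 (by exact_mod_cast hcop)
    obtain ⟨w, hw⟩ := hrd
    have h3 := ((isIntegral_algebraMap (R := ℤ) (A := ℂ) (x := α * w)).mul h).add
      ((isIntegral_algebraMap (R := ℤ) (A := ℂ) (x := β)).mul (char_isIntegral (irr_isCharacter χ.2) (v ^ j)))
    refine Eq.mp (congrArg (IsIntegral ℤ) ?_) h3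
    have hc : (α : ℂ) * (H.index : ℂ) + β * r = 1 := by exact_mod_cast hαβ
    have hw' : (charDegree (χ : G → ℂ) : ℂ) = (r : ℂ) * w := by exact_mod_cast hw
    have hr0 : (r : ℂ) ≠ 0 := Nat.cast_ne_zero.2 hr.ne_zero
    have hw0 : (w : ℂ) ≠ 0 := fun e => hd0 (by rw [hw', e, mul_zero])
    simp only [algebraMap_int_eq, eq_intCast]
    push_cast
    rw [hw']
    field_simp
    linear_combination ((χ : G → ℂ) (v ^ j)) * hc
  have hc0 : c ≠ 0 := fun h => by rw [h, zero_pow hq.ne_zero] at hcq; exact zero_ne_one hcq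
  have hcint : IsIntegral ℤ (c⁻¹ : ℂ) := IsIntegral.of_pow hq.pos (by rw [inv_pow, hcq, inv_one]; exact isIntegral_one)
  have h4 : IsIntegral ℤ (((((q * (Finset.univ.filter fun i => μ i = c).card : ℕ) : ℚ) / (r : ℚ) : ℚ)) : ℂ) := by
    have h5 := IsIntegral.sum (fun j => c⁻¹ ^ j * ((χ : G → ℂ) (v ^ j) / r)) (s := Finset.range q)
      (fun j _ => (hcint.pow j).mul (hint j))
    refine Eq.mp (congrArg (IsIntegral ℤ) ?_) h5
    rw [Finset.sum_congr rfl fun j _ => by rw [htr j, ← mul_div_assoc], ← Finset.sum_div,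
      twist_eq μ hq.ne_zero hμ hcq]
    push_cast; rfl
  obtain ⟨w, hw⟩ := isIntegral_rat_cast_imp h4
  rw [eq_div_iff (Nat.cast_ne_zero.2 hr.ne_zero)] at hw
  have h6 : r ∣ q * (Finset.univ.filter fun i => μ i = c).card := by
    refine Int.natCast_dvd_natCast.1 ⟨w, ?_⟩
    rw [mul_comm (r : ℤ)]
    exact_mod_cast hw.symm
  exact ((Nat.coprime_primes hr hq).2 (Ne.symm hqr)).dvd_of_dvd_mul_left h6

variable [IsSimpleGroup G]

/-- A small degree divisible by `r` is not in the block when an element of the centraliser has `r` in its own. -/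
theorem false_of_two_primes (hna : ¬ IsMulCommutative G) {p : ℕ} [Fact p.Prime] {M : Ideal AlgInt}
    (hM : IsPModular p M) (P : Sylow p G) (hP : Nat.card P = p) {χ : IrrCharacter G}
    (hχ : χ ∈ principalBlock M G) (hne : χ ≠ oneChar) {r : ℕ} (hr : r.Prime) (hrp : r ≠ p)
    (hrd : r ∣ charDegree (χ : G → ℂ)) (hr2 : ¬ r ^ 2 ∣ Nat.card G) {y : G} (hy : y ∈ (P : Subgroup G))
    (hy1 : y ≠ 1) {v : G} {q : ℕ} (hq : q.Prime) (hqp : q ≠ p) (hqr : q ≠ r) (hv : orderOf v = q)
    (hc : v * y = y * v) (hrC : r ∣ Nat.card (Subgroup.centralizer ({v} : Set G)))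
    (hlt : charDegree (χ : G → ℂ) < 2 * (p * r)) : False := by
  classical
  have hp : p.Prime := Fact.out
  obtain ⟨n, μ, hn, hμ, htr, hdet⟩ := exists_eigen hna χ hv
  have hv1 : v ≠ 1 := fun h => by rw [h, orderOf_one] at hv; exact hq.ne_one hv.symm
  obtain ⟨i, hi⟩ : ∃ i, μ i ≠ 1 := by
    by_contra hall
    push Not at hall
    refine SmallOrderGraph.norm_ne_deg hna hne hv1 ?_
    rw [← pow_one v, htr 1, ← hn]
    simp [hall]
  have hmult : ∀ j, μ j ≠ 1 → p * r ∣ (Finset.univ.filter fun k => μ k = μ j).card := fun j hj =>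
    ((Nat.coprime_primes hp hr).2 (Ne.symm hrp)).mul_dvd_of_dvd_of_dvd
      (p_dvd_mult hM P hP hχ hy hy1 hq hqp (hv ▸ pow_orderOf_eq_one v) hc μ hμ htr (hμ j) hj)
      (r_dvd_mult χ hr hrd hr2 hrC hq hqr μ hμ htr (hμ j))
  have hge : ∀ j, μ j ≠ 1 → p * r ≤ (Finset.univ.filter fun k => μ k = μ j).card := fun j hj =>
    Nat.le_of_dvd (Finset.card_pos.2 ⟨j, by simp⟩) (hmult j hj)
  have hone : ∀ j, μ j ≠ 1 → μ j = μ i := by
    intro j hj
    by_contra hne'
    have hdisj : Disjoint (Finset.univ.filter fun k => μ k = μ j) (Finset.univ.filter fun k => μ k = μ i) :=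
      Finset.disjoint_filter.2 fun k _ h1 h2 => hne' (h1.symm.trans h2)
    have h := Finset.card_le_univ
      ((Finset.univ.filter fun k => μ k = μ j) ∪ (Finset.univ.filter fun k => μ k = μ i))
    rw [Finset.card_union_of_disjoint hdisj, Fintype.card_fin] at h
    have := hge i hi
    have := hge j hj
    omega
  set m := (Finset.univ.filter fun k => μ k = μ i).card with hm
  have hmeq : m = p * r := by
    obtain ⟨t, ht⟩ := hmult i hi
    have h1 := hge i hi
    have h2 : m ≤ n := (Finset.card_le_univ _).trans_eq (Fintype.card_fin n)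
    rw [← hm] at ht h1
    rcases t with _ | _ | t
    · rw [mul_zero] at ht; have := Nat.mul_pos hp.pos hr.pos; omega
    · omega
    · have h3 : p * r * 2 ≤ p * r * (t + 1 + 1) := Nat.mul_le_mul_left _ (by omega)
      omega
  rw [← Finset.prod_filter_mul_prod_filter_not Finset.univ (fun k => μ k = μ i), Finset.prod_congr rfl
    (fun k hk => (Finset.mem_filter.1 hk).2), Finset.prod_const, ← hm, hmeq,
    Finset.prod_eq_one (fun k hk => ?_), mul_one] at hdet
  · refine hi ?_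
    have h := pow_gcd_eq_one.2 ⟨hdet, hμ i⟩
    rwa [(Nat.Coprime.mul_left ((Nat.coprime_primes hp hq).2 (Ne.symm hqp))
      ((Nat.coprime_primes hr hq).2 (Ne.symm hqr))).gcd_eq_one, pow_one] at h
  · by_contra hk1
    exact (Finset.mem_filter.1 hk).2 (hone k hk1)

/-- The value of a character of the block at an involution centralising the Sylow subgroup. -/
theorem invol_congr (hna : ¬ IsMulCommutative G) {p : ℕ} [Fact p.Prime] {M : Ideal AlgInt}
    (hM : IsPModular p M) (P : Sylow p G) (hP : Nat.card P = p) (hp2 : p ≠ 2) {χ : IrrCharacter G}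
    (hχ : χ ∈ principalBlock M G) {y : G} (hy : y ∈ (P : Subgroup G)) (hy1 : y ≠ 1) {t : G} (ht : orderOf t = 2)
    (hc : t * y = y * t) {z : ℤ} (hz : (χ : G → ℂ) t = z) :
    (2 * p : ℤ) ∣ (charDegree (χ : G → ℂ) : ℤ) - z := by
  classical
  obtain ⟨n, μ, hn, hμ, htr, -⟩ := exists_eigen hna χ ht
  obtain ⟨m, hm⟩ := p_dvd_mult hM P hP hχ hy hy1 Nat.prime_two (Ne.symm hp2) (ht ▸ pow_orderOf_eq_one t) hc μ hμ
    htr (c := -1) (by norm_num) (by norm_num)
  refine ⟨m, ?_⟩
  have hpair : ∀ i, μ i = 1 - (if μ i = -1 then (2 : ℂ) else 0) := by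
    intro i
    rcases sq_eq_one_iff.1 (hμ i) with h | h
    · rw [if_neg (by rw [h]; norm_num), h, sub_zero]
    · rw [if_pos h, h]; norm_num
  have h1 := htr 1
  simp only [pow_one] at h1
  rw [hz, Finset.sum_congr rfl fun i _ => hpair i, Finset.sum_sub_distrib, ← Finset.sum_filter,
    Finset.sum_const, Finset.sum_const, Finset.card_univ, Fintype.card_fin, hm, hn] at h1
  simp only [nsmul_eq_mul, mul_one] at h1
  have h2 : (((charDegree (χ : G → ℂ) : ℤ) - z : ℤ) : ℂ) = ((2 * p * m : ℤ) : ℂ) := by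
    push_cast at h1 ⊢
    linear_combination (-1 : ℂ) * h1
  exact_mod_cast h2

omit [IsSimpleGroup G] in
/-- A constant on the nontrivial elements of the Sylow subgroup is the value on every element of order divisible
by the prime. -/
theorem val_singular {p : ℕ} [Fact p.Prime] {M : Ideal AlgInt} (hM : IsPModular p M) (P : Sylow p G)
    (hP : Nat.card P = p) (hsq : ¬ p ^ 2 ∣ Nat.card G) {χ : IrrCharacter G} (hχ : χ ∈ principalBlock M G) {c : ℂ}
    (hc : ∀ y ∈ nonOne P, (χ : G → ℂ) (y : G) = c) {x : G} (hx : p ∣ orderOf x) : (χ : G → ℂ) x = c := by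
  classical
  have hp : p.Prime := Fact.out
  obtain ⟨m, hm⟩ := hx
  have hm0 : m ≠ 0 := fun h => (orderOf_pos x).ne' (by rw [hm, h, mul_zero])
  have hpm : ¬ p ∣ m := fun h => hsq (by
    rw [pow_two]; exact (Nat.mul_dvd_mul_left p h).trans (hm ▸ orderOf_dvd_natCard x))
  obtain ⟨α, β, hαβ⟩ : ∃ α β : ℤ, α * (m : ℤ) + β * p = 1 :=
    Int.isCoprime_iff_gcd_eq_one.2 (by exact_mod_cast (hp.coprime_iff_not_dvd.2 hpm).symm)
  set y0 := x ^ (α * m) with hy0
  set v0 := x ^ (β * p) with hv0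
  have hprod : y0 * v0 = x := by rw [hy0, hv0, ← zpow_add, hαβ, zpow_one]
  have hcomm : Commute y0 v0 := (Commute.refl x).zpow_zpow _ _
  have hxN : x ^ ((p * m : ℕ) : ℤ) = 1 := by rw [zpow_natCast, ← hm, pow_orderOf_eq_one]
  have hy0p : y0 ^ p = 1 := by
    rw [hy0, ← zpow_natCast, ← zpow_mul, show α * m * (p : ℤ) = ((p * m : ℕ) : ℤ) * α by push_cast; ring, zpow_mul,
      hxN, one_zpow]
  have hv0m : v0 ^ m = 1 := by
    rw [hv0, ← zpow_natCast, ← zpow_mul, show β * p * (m : ℤ) = ((p * m : ℕ) : ℤ) * β by push_cast; ring, zpow_mul,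
      hxN, one_zpow]
  have hy01 : y0 ≠ 1 := fun h => hpm (by
    rw [h, one_mul] at hprod
    have : orderOf x ∣ m := orderOf_dvd_of_pow_eq_one (by rw [← hprod, hv0m])
    exact (hm ▸ dvd_mul_right p m : p ∣ orderOf x).trans this)
  obtain ⟨Q, hQ⟩ := Char.PrimeSylowCount.exists_sylow_eq P hP y0 (orderOf_eq_prime hy0p hy01)
  obtain ⟨g, hg⟩ := MulAction.exists_smul_eq G Q P
  have hyP : g * y0 * g⁻¹ ∈ (P : Subgroup G) := by
    rw [← hg, Sylow.coe_subgroup_smul, Subgroup.mem_pointwise_smul_iff_inv_smul_mem, MulAut.smul_def, ← map_inv,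
      MulAut.conj_apply, inv_inv, hQ]
    convert Subgroup.mem_zpowers y0 using 1
    group
  have hy1 : g * y0 * g⁻¹ ≠ 1 := fun h => hy01 (conj_eq_one_iff.1 h)
  have hvC : g * v0 * g⁻¹ ∈ Subgroup.centralizer ({g * y0 * g⁻¹} : Set G) :=
    Subgroup.mem_centralizer_singleton_iff.2 (by rw [conj_mul, conj_mul, hcomm.eq])
  have hv' : ¬ p ∣ orderOf (⟨_, hvC⟩ : Subgroup.centralizer ({g * y0 * g⁻¹} : Set G)) := by
    rw [Subgroup.orderOf_mk]
    exact fun h => hpm (h.trans (orderOf_dvd_of_pow_eq_one (by rw [conj_pow, hv0m, mul_one, mul_inv_cancel])))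
  have h1 := (frobSylow_of_prime hP).principal_const hM hχ (y := ⟨_, hyP⟩) hy1 ⟨_, hvC⟩ hv'
  rw [← hprod, ← isClassFunction_character (irr_isCharacter χ.2) (y0 * v0) g, ← conj_mul]
  exact h1.trans (hc ⟨_, hyP⟩ (mem_nonOne.2 hy1))

end Cfsg.Agent.MathieuByGraph
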