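import Cfsg.Agent.Lib.Spor.MathieuByGraph.Cases
import Cfsg.Prelude.Def_Sporadic

/-!
Four Mathieu groups are determined by the order and the degree graph, the largest by way of its characterisation
by the order.
-/

set_option autoImplicit false
set_option linter.style.haveILetI false

namespace Cfsg.Agent.MathieuByGraph

open Cfsg Cfsg.Agent.Char

theorem iso_of_order_graph {M : Type*} [Group M] [Finite M]
    (hM : Cfsg.Spor.IsoM11 M ∨ Cfsg.Spor.IsoM22 M ∨ Cfsg.Spor.IsoM23 M ∨ Cfsg.Spor.IsoM24 M)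
    {G : Type*} [Group G] [Finite G] (hcard : Nat.card G = Nat.card M)
    (hΔ : Cfsg.degreeGraph G = Cfsg.degreeGraph M) (h24 : Cfsg.IsM24 G → Nonempty (G ≃* Cfsg.M24)) :
    Nonempty (G ≃* M) := by
  have p5 : Nat.Prime 5 := by norm_num
  have p3 : Nat.Prime 3 := by norm_num
  have p7 : Nat.Prime 7 := by norm_num
  have p11 : Nat.Prime 11 := by norm_num
  have p23 : Nat.Prime 23 := by norm_num
  rcases hM with h | h | h | h
  · obtain ⟨hc, hd⟩ := of_eleven h
    obtain ⟨χ, hχ⟩ := exists_deg_of_graph hΔ p5 p11 (by norm_num) hd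
    obtain ⟨e⟩ := iso_eleven (hcard.trans hc) χ hχ
    exact h.map fun f => e.trans f.symm
  · obtain ⟨hc, hd, hd'⟩ := of_twentyTwo h
    obtain ⟨χ, hχ⟩ := exists_deg_of_graph hΔ p5 p11 (by norm_num) hd
    obtain ⟨ψ, hψ⟩ := exists_deg_of_graph hΔ p3 p11 (by norm_num) hd'
    obtain ⟨e⟩ := iso_twentyTwo (hcard.trans hc) χ hχ ψ hψ
    exact h.map fun f => e.trans f.symm
  · obtain ⟨hc, hd⟩ := of_twentyThree h
    obtain ⟨χ, hχ⟩ := exists_deg_of_graph hΔ p11 p23 (by norm_num) hd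
    obtain ⟨e⟩ := iso_twentyThree (hcard.trans hc) χ hχ
    exact h.map fun f => e.trans f.symm
  · obtain ⟨hc, hd, hd'⟩ := of_twentyFour h
    obtain ⟨χ, hχ⟩ := exists_deg_of_graph hΔ p11 p23 (by norm_num) hd
    obtain ⟨ψ, hψ⟩ := exists_deg_of_graph hΔ p7 p23 (by norm_num) hd'
    obtain ⟨e⟩ := h24 ⟨simple_twentyFour (hcard.trans hc) χ hχ ψ hψ, hcard.trans hc⟩
    exact h.map fun f => e.trans f.symm

end Cfsg.Agent.MathieuByGraph
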