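import Cfsg.Agent.Lib.Spor.MathieuByGraph.Local
import Cfsg.Agent.Lib.Small.StructureConstantTwo

/-!
Counting elements: prescribed values of a character on large sets, and the size of those sets.
-/

set_option autoImplicit false
set_option linter.unusedSectionVars false
set_option linter.style.haveILetI false

namespace Cfsg.Agent.MathieuByGraph

open Cfsg Cfsg.Agent.Char Cfsg.Agent.Small.Order459648 Cfsg.Agent.Char.PrimeSylowCount
open Cfsg.Agent.MTwelve.OrderFront (val_one)
open scoped ComplexConjugate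

universe u

variable {G : Type u} [Group G] [Fintype G]

/-- A nonprincipal character cannot be a sign on a large set and zero on another one. -/
theorem mass {χ : IrrCharacter G} (hne : χ ≠ oneChar) (A B : Finset G) (hd : Disjoint A B) {ε : ℂ}
    (hε : ε = 1 ∨ ε = -1) (hA : ∀ x ∈ A, (χ : G → ℂ) x = ε) (hB : ∀ x ∈ B, (χ : G → ℂ) x = 0) :
    (A.card : ℤ) ^ 2 ≤ ((Nat.card G : ℤ) - A.card) * ((Nat.card G : ℤ) - A.card - B.card) := by
  classical
  set R := (A ∪ B)ᶜ with hR
  have hsplit : ∀ (R' : Type) [AddCommMonoid R'] (f : G → R'),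
      ∑ x, f x = (∑ x ∈ A, f x) + (∑ x ∈ B, f x) + ∑ x ∈ R, f x := by
    intro R' _ f
    rw [← Finset.sum_union hd, hR, Finset.sum_add_sum_compl]
  have h0 : ∑ x : G, (χ : G → ℂ) x = 0 := by
    have h := irrC_orth χ (oneChar : IrrCharacter G)
    rw [if_neg hne, classInner] at h
    simp only [oneChar, map_one, mul_one] at h
    exact (mul_eq_zero.1 h).resolve_left (inv_ne_zero (Nat.cast_ne_zero.2 Nat.card_pos.ne'))
  have h2 : ∑ x : G, ‖(χ : G → ℂ) x‖ ^ 2 = (Nat.card G : ℝ) := by
    have h := irr_self χ.2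
    rw [classInner_self_re, ← Complex.ofReal_one, Complex.ofReal_inj,
      inv_mul_eq_one₀ (Nat.cast_ne_zero.2 Nat.card_pos.ne')] at h
    exact h.symm
  rw [hsplit ℂ, Finset.sum_eq_zero hB, add_zero, Finset.sum_congr rfl hA, Finset.sum_const, nsmul_eq_mul] at h0
  rw [hsplit ℝ, Finset.sum_eq_zero (s := B) (fun x hx => by rw [hB x hx, norm_zero, zero_pow two_ne_zero]),
    add_zero, Finset.sum_congr rfl (g := fun _ => (1 : ℝ)) (fun x hx => by
      rw [hA x hx]; rcases hε with rfl | rfl <;> simp), Finset.sum_const, nsmul_eq_mul, mul_one] at h2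
  have hnorm : (A.card : ℝ) ≤ ∑ x ∈ R, ‖(χ : G → ℂ) x‖ := by
    refine le_trans (le_of_eq ?_) (norm_sum_le _ _)
    rw [show ∑ x ∈ R, (χ : G → ℂ) x = -((A.card : ℂ) * ε) by linear_combination h0, norm_neg, norm_mul,
      Complex.norm_natCast]
    rcases hε with rfl | rfl <;> simp
  have hcs := sq_sum_le_card_mul_sum_sq (s := R) (f := fun x => ‖(χ : G → ℂ) x‖)
  have hRc : (R.card : ℝ) = (Nat.card G : ℝ) - A.card - B.card := by
    have h := Finset.card_compl_add_card (A ∪ B)
    rw [Finset.card_union_of_disjoint hd, ← hR, ← Nat.card_eq_fintype_card] at h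
    rw [← h]; push_cast; ring
  have hsum : ∑ x ∈ R, ‖(χ : G → ℂ) x‖ ^ 2 = (Nat.card G : ℝ) - A.card := by linarith
  rw [hsum, hRc] at hcs
  have h3 : ((A.card : ℤ) : ℝ) ^ 2 ≤ ((Nat.card G : ℤ) - A.card : ℤ) * ((Nat.card G : ℤ) - A.card - B.card : ℤ) := by
    push_cast
    refine le_trans (pow_le_pow_left₀ (Nat.cast_nonneg _) hnorm 2) (hcs.trans (le_of_eq ?_))
    ring
  exact_mod_cast h3

/-- The share of the elements of order divisible by a prime. -/
theorem pSet_frac {p n e k : ℕ} [Fact p.Prime] (P : Sylow p G) (hP : Nat.card P = p)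
    (hn : Nat.card (Sylow p G) = n) (hk : centCard p P = p * k) (hG : Nat.card G = p * (n * e * k)) :
    (p - 1) * Nat.card G ≤ p * e * (pSet p G).card := by
  have h := pSet_ge P hP hk
  rw [hn] at h
  calc (p - 1) * Nat.card G = p * e * (n * ((p - 1) * k)) := by rw [hG]; ring
    _ ≤ p * e * (pSet p G).card := Nat.mul_le_mul_left _ h

/-- An element of prime order of the automiser and one of the centraliser commute. -/
theorem exists_pair {p r q : ℕ} [Fact p.Prime] [Fact r.Prime] [Fact q.Prime] (P : Sylow p G) {e k : ℕ}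
    (hk : Nat.card (Subgroup.centralizer ((P : Subgroup G) : Set G)) = p * k)
    (he : (Subgroup.centralizer ((P : Subgroup G) : Set G)).relIndex
      (Subgroup.normalizer ((P : Subgroup G) : Set G)) = e) (hre : r ∣ e) (hqp : q ≠ p)
    (hmod : q ^ k.factorization q % r ≠ 1) (hk0 : k ≠ 0) :
    ∃ v f : G, v ∈ Subgroup.centralizer ((P : Subgroup G) : Set G) ∧ orderOf v = q ∧ orderOf f = r ∧
      f * v = v * f := by
  classical
  set C := Subgroup.centralizer ((P : Subgroup G) : Set G)
  set N := Subgroup.normalizer ((P : Subgroup G) : Set G)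
  haveI : (C.subgroupOf N).Normal := Subgroup.normal_subgroupOf_centralizer_normalizer _
  set C' := C.subgroupOf N
  obtain ⟨T⟩ := (Sylow.nonempty : Nonempty (Sylow q C'))
  set T' : Subgroup N := (T : Subgroup C').map C'.subtype
  set H := Subgroup.normalizer (T' : Set N)
  have hsup : H ⊔ C' = ⊤ := Sylow.normalizer_sup_eq_top T
  have hrH : r ∣ Nat.card H := by
    let ψ : H →* N ⧸ C' := (QuotientGroup.mk' C').comp H.subtype
    have hsur : Function.Surjective ψ := by
      intro x
      obtain ⟨n, rfl⟩ := QuotientGroup.mk'_surjective C' x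
      have hn : n ∈ ((H ⊔ C' : Subgroup N) : Set N) := by rw [hsup]; exact Subgroup.mem_top n
      rw [Subgroup.mul_normal] at hn
      obtain ⟨a, ha, c, hc, rfl⟩ := Set.mem_mul.1 hn
      refine ⟨⟨a, ha⟩, (QuotientGroup.eq.2 ?_ : _)⟩
      simp only [Subgroup.subtype_apply, ← mul_assoc, inv_mul_cancel, one_mul, SetLike.mem_coe] at hc ⊢
      exact hc
    have h := Subgroup.card_dvd_of_surjective ψ hsur
    rw [← Subgroup.index_eq_card, show C'.index = e from he] at h
    exact hre.trans h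
  obtain ⟨f, hf⟩ := exists_prime_orderOf_dvd_card' (G := H) r hrH
  have hC' : Nat.card C' = p * k := by
    rw [Solv.card_subgroupOf (Subgroup.centralizer_le_normalizer _), hk]
  have hT : Nat.card T' = q ^ k.factorization q := by
    rw [Subgroup.card_map_of_injective C'.subtype_injective, T.card_eq_multiplicity, hC',
      Nat.factorization_mul (Fact.out : p.Prime).ne_zero hk0, Finsupp.add_apply,
      Nat.factorization_eq_zero_of_not_dvd (fun h => hqp
        ((Nat.prime_dvd_prime_iff_eq Fact.out Fact.out).1 h)), zero_add]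
  set A : Subgroup G := T'.map N.subtype
  have hA : Nat.card A = q ^ k.factorization q := by
    rw [Subgroup.card_map_of_injective N.subtype_injective, hT]
  have hAC : A ≤ C := by
    rintro _ ⟨x, ⟨c, -, rfl⟩, rfl⟩
    exact c.2
  have hfo : orderOf ((f : N) : G) = r := by rw [Subgroup.orderOf_coe, Subgroup.orderOf_coe, hf]
  have hnorm : ∀ x ∈ A, ((f : N) : G) * x * ((f : N) : G)⁻¹ ∈ A := by
    rintro _ ⟨x, hx, rfl⟩
    exact ⟨(f : N) * x * (f : N)⁻¹, (Subgroup.mem_normalizer_iff.1 f.2 x).1 hx, by simp⟩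
  have hfix := MTwelve.OrderFront.modEq_cent (p := r) (k := 1) (x := ((f : N) : G))
    (by rw [pow_one, ← hfo, pow_orderOf_eq_one]) A hnorm
  set F := A ⊓ Subgroup.centralizer ({((f : N) : G)} : Set G)
  have hne : Nat.card F ≠ 1 := fun h => hmod (by
    rw [h, hA] at hfix
    exact (show _ % r = 1 % r from hfix).trans (Nat.mod_eq_of_lt (Fact.out : r.Prime).one_lt))
  have hdvd : q ∣ Nat.card F := by
    obtain ⟨i, -, hi⟩ := (Nat.dvd_prime_pow Fact.out).1 (hA ▸ Subgroup.card_dvd_of_le (inf_le_left : F ≤ A))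
    rcases i with _ | i
    · exact absurd (hi.trans (pow_zero q)) hne
    · rw [hi]; exact dvd_pow_self q (Nat.succ_ne_zero i)
  obtain ⟨v, hv⟩ := exists_prime_orderOf_dvd_card' (G := F) q hdvd
  exact ⟨v, ((f : N) : G), hAC v.2.1, by rw [Subgroup.orderOf_coe, hv], hfo,
    (Subgroup.mem_centralizer_singleton_iff.1 v.2.2).symm⟩

/-- A single exceptional character has the opposite sign on the Sylow subgroup, when that is self-centralising. -/
theorem single_val {p : ℕ} [Fact p.Prime] {M : Ideal AlgInt} (hM : IsPModular p M) (P : Sylow p G)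
    (hP : Nat.card P = p) (hC : Nat.card (Subgroup.centralizer ((P : Subgroup G) : Set G)) = p) {e : ℕ}
    {X Y : Finset (IrrCharacter G)} {a : IrrCharacter G → ℤ} {δ : ℤ} (h : PrimePrincipal M P e X Y a δ)
    {θ : IrrCharacter G} (hY : Y = {θ}) {y : ↥(P : Subgroup G)} (hy : y ∈ nonOne P) :
    (θ : G → ℂ) (y : G) = ((-δ : ℤ) : ℂ) := by
  classical
  have hp : p.Prime := Fact.out
  have hy1 : (y : G) ≠ 1 := mem_nonOne.1 hy
  have hθ : θ ∈ Y := by rw [hY]; exact Finset.mem_singleton_self θ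
  have hz : Subgroup.zpowers (y : G) = (P : Subgroup G) := by
    refine Subgroup.eq_of_le_of_card_ge (Subgroup.zpowers_le.2 y.2) ?_
    have ho : orderOf (y : G) ∣ p := by
      have := (P : Subgroup G).orderOf_dvd_natCard y.2
      rwa [show Nat.card (P : Subgroup G) = p from hP] at this
    rw [Nat.card_zpowers, ((Nat.dvd_prime hp).1 ho).resolve_left fun e' => hy1 (orderOf_eq_one_iff.1 e')]
    exact hP.le
  have ho : orderOf (y : G) = p := by rw [← Nat.card_zpowers, hz]; exact hP
  have hcy : Subgroup.centralizer ({(y : G)} : Set G) = Subgroup.zpowers (y : G) := by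
    rw [← MathieuEleven.centralizer_gen hz, hz]
    exact (Subgroup.eq_of_le_of_card_ge (fun a ha => Subgroup.mem_centralizer_iff.2 fun b hb =>
      MathieuEleven.comm_of_prime hP b hb a ha) (by rw [hC]; exact hP.ge)).symm
  have h2 := second_orth (y : G) (1 : G)
  rw [if_neg fun e' => hy1 (isConj_one_left.mp e'), ← Finset.sum_subset (Finset.subset_univ (X ∪ Y)) fun ψ _ hψ => by
    rw [Small.StructureConstantTwo.vanish_outside hM ho hcy fun hm => hψ (Finset.mem_union.2 ((h.mem_iff ψ).mp hm)),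
      zero_mul], Finset.sum_union h.disj, hY, Finset.sum_singleton] at h2
  have hrel := h.rel θ hθ 1 (by rw [orderOf_one]; exact hp.not_dvd_one)
  simp only [val_one] at hrel h2
  simp only [map_intCast] at h2
  rw [Finset.sum_congr rfl fun χ hχ => by rw [h.a_val χ hχ y hy]] at h2
  have hd0 : ((charDegree (θ : G → ℂ) : ℤ) : ℂ) ≠ 0 := by exact_mod_cast (deg_pos θ.2).ne'
  refine mul_right_cancel₀ hd0 ?_
  push_cast at h2 hrel ⊢
  linear_combination h2 + hrel

/-- The value of a character at an involution inverting an element of odd prime order. -/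
theorem inverting_bound {p : ℕ} (hp : p % 2 = 1) {χ : IrrCharacter G} {i y : G} (hi : i * i = 1)
    (hy : orderOf y = p) (hinv : i * y * i⁻¹ = y⁻¹) {a : ℤ}
    (hval : ∀ j : ℕ, y ^ j ≠ 1 → (χ : G → ℂ) (y ^ j) = a) {z : ℤ} (hz : (χ : G → ℂ) i = z) :
    (p : ℤ) * |z| ≤ (charDegree (χ : G → ℂ) : ℤ) + ((p : ℤ) - 1) * a := by
  classical
  obtain ⟨n, ρ, hρ⟩ := irr_isCharacter χ.2
  have hp0 : (p : ℂ) ≠ 0 := Nat.cast_ne_zero.2 (by omega)
  obtain ⟨p', hp'⟩ : ∃ p', p = p' + 1 := ⟨p - 1, by omega⟩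
  set S := ρ i with hS
  set E : Module.End ℂ (Fin n → ℂ) := (p : ℂ)⁻¹ • ∑ j ∈ Finset.range p, ρ (y ^ j) with hE
  have hyp : y ^ p = 1 := hy ▸ pow_orderOf_eq_one y
  have hshift : ∀ m : ℕ, ρ (y ^ m) * (∑ j ∈ Finset.range p, ρ (y ^ j)) = ∑ j ∈ Finset.range p, ρ (y ^ j) := by
    intro m
    induction m with
    | zero => rw [pow_zero, map_one, one_mul]
    | succ m ih =>
      rw [pow_succ, map_mul, mul_assoc]
      suffices h : ρ y * (∑ j ∈ Finset.range p, ρ (y ^ j)) = ∑ j ∈ Finset.range p, ρ (y ^ j) by rw [h, ih]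
      rw [Finset.mul_sum]
      simp only [← map_mul, ← pow_succ']
      rw [hp', Finset.sum_range_succ, Finset.sum_range_succ' (fun j => ρ (y ^ j)), ← hp', hyp, pow_zero]
  have hEE : E * E = E := by
    rw [hE, smul_mul_smul_comm, Finset.sum_mul, Finset.sum_congr rfl fun j _ => hshift j, Finset.sum_const,
      Finset.card_range, ← Nat.cast_smul_eq_nsmul ℂ, smul_smul, mul_assoc, inv_mul_cancel₀ hp0, mul_one]
  have hSS : S * S = 1 := by rw [hS, ← map_mul, hi, map_one]
  have hconjpow : ∀ j : ℕ, i * y ^ j = (y ^ j)⁻¹ * i := fun j => by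
    rw [← inv_pow, ← hinv, conj_pow]; group
  have hmod : ∀ j < p, ((p - j) % p + j) % p = 0 := fun j hj => by
    rw [Nat.mod_add_mod, Nat.sub_add_cancel hj.le, Nat.mod_self]
  have hnn : ∀ j < p, (p - (p - j) % p) % p = j := fun j hj => by
    rcases Nat.eq_zero_or_pos j with rfl | h0
    · rw [Nat.sub_zero, Nat.mod_self, Nat.sub_zero, Nat.mod_self]
    · rw [Nat.mod_eq_of_lt (show p - j < p by omega), show p - (p - j) = j by omega, Nat.mod_eq_of_lt hj]
  have hSE : S * E = E * S := by
    rw [hE, hS, mul_smul_comm, smul_mul_assoc, Finset.mul_sum, Finset.sum_mul]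
    simp only [← map_mul, hconjpow]
    congr 1
    refine Finset.sum_nbij' (fun j => (p - j) % p) (fun j => (p - j) % p) ?_ ?_ ?_ ?_ ?_
    · intro j _; simp only [Finset.coe_range, Set.mem_Iio, Finset.mem_range]; exact Nat.mod_lt _ (by omega)
    · intro j _; simp only [Finset.coe_range, Set.mem_Iio, Finset.mem_range]; exact Nat.mod_lt _ (by omega)
    · intro j hj; simp only [Finset.coe_range, Set.mem_Iio, Finset.mem_range] at hj; exact hnn j hj
    · intro j hj; simp only [Finset.coe_range, Set.mem_Iio, Finset.mem_range] at hj; exact hnn j hj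
    · intro j hj
      simp only [Finset.mem_range] at hj
      have : y ^ ((p - j) % p) = (y ^ j)⁻¹ := by
        refine eq_inv_of_mul_eq_one_left ?_
        rw [← pow_add, ← pow_mod_orderOf, hy, hmod j hj, pow_zero]
      rw [this]
  have hidem : ∀ s : ℂ, s * s = 1 → ∃ r : ℕ,
      LinearMap.trace ℂ _ ((2 : ℂ)⁻¹ • (E + s • (S * E))) = r := by
    intro s hs
    refine ⟨_, (LinearMap.IsIdempotentElem.isProj_range _ ?_).trace⟩
    show _ * _ = _
    have h1 : S * E * (S * E) = E := by
      calc S * E * (S * E) = S * (E * S) * E := by simp only [mul_assoc]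
        _ = S * S * (E * E) := by rw [← hSE]; simp only [mul_assoc]
        _ = E := by rw [hSS, hEE, one_mul]
    have h2 : E * (S * E) = S * E := by rw [← mul_assoc, ← hSE, mul_assoc, hEE]
    have h3 : S * E * E = S * E := by rw [mul_assoc, hEE]
    rw [smul_mul_smul_comm, add_mul, mul_add, mul_add, hEE, mul_smul_comm, h2, smul_mul_assoc, h3,
      smul_mul_smul_comm, h1, hs, one_smul]
    module
  have htE : LinearMap.trace ℂ _ E = (((charDegree (χ : G → ℂ) : ℤ) + ((p : ℤ) - 1) * a : ℤ) : ℂ) / (p : ℂ) := by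
    rw [hE, map_smul, map_sum, hp', Finset.sum_range_succ',
      Finset.sum_congr rfl (g := fun _ => (a : ℂ)) fun j hj => ?_]
    · rw [pow_zero, show LinearMap.trace ℂ _ (ρ 1) = (χ : G → ℂ) 1 by rw [← hρ]; rfl, val_one, Finset.sum_const,
        Finset.card_range]
      simp only [smul_eq_mul, nsmul_eq_mul]
      push_cast; ring
    · rw [show LinearMap.trace ℂ _ (ρ (y ^ (j + 1))) = (χ : G → ℂ) (y ^ (j + 1)) by rw [← hρ]; rfl]
      refine hval _ fun h => ?_
      have := Nat.le_of_dvd (by omega) (hy ▸ orderOf_dvd_of_pow_eq_one h)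
      have := Finset.mem_range.1 hj
      omega
  have htSE : LinearMap.trace ℂ _ (S * E) = (z : ℂ) := by
    rw [hE, hS, mul_smul_comm, Finset.mul_sum, map_smul, map_sum,
      Finset.sum_congr rfl (g := fun _ => (z : ℂ)) fun j _ => ?_]
    · rw [Finset.sum_const, Finset.card_range]
      simp only [smul_eq_mul, nsmul_eq_mul]
      rw [← mul_assoc, inv_mul_cancel₀ hp0, one_mul]
    · rw [← map_mul, show LinearMap.trace ℂ _ (ρ (i * y ^ j)) = (χ : G → ℂ) (i * y ^ j) by rw [← hρ]; rfl]
      have e1 : i * y ^ j = (y ^ ((p' / 2 + 1) * j))⁻¹ * i * (y ^ ((p' / 2 + 1) * j))⁻¹⁻¹ := by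
        rw [inv_inv, ← hconjpow, mul_assoc, ← pow_add]
        congr 1
        rw [show (p' / 2 + 1) * j + (p' / 2 + 1) * j = p * j + j by
          rw [← add_mul, show p' / 2 + 1 + (p' / 2 + 1) = p + 1 by omega, add_one_mul],
          pow_add, pow_mul, hyp, one_pow, one_mul]
      rw [e1, isClassFunction_character (irr_isCharacter χ.2), hz]
  clear_value E
  have key : ∀ s : ℤ, s = 1 ∨ s = -1 →
      0 ≤ (charDegree (χ : G → ℂ) : ℤ) + ((p : ℤ) - 1) * a + (p : ℤ) * (s * z) := by
    intro s hs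
    obtain ⟨r, hr⟩ := hidem (s : ℂ) (by rcases hs with rfl | rfl <;> simp)
    rw [map_smul, map_add, map_smul, htE, htSE, smul_eq_mul, smul_eq_mul] at hr
    have h2 : (((charDegree (χ : G → ℂ) : ℤ) + ((p : ℤ) - 1) * a + (p : ℤ) * (s * z) : ℤ) : ℂ) =
        (((2 * p * r : ℕ) : ℤ) : ℂ) := by
      push_cast at hr ⊢
      field_simp at hr
      linear_combination hr
    have h3 : (charDegree (χ : G → ℂ) : ℤ) + ((p : ℤ) - 1) * a + (p : ℤ) * (s * z) = ((2 * p * r : ℕ) : ℤ) := by
      exact_mod_cast h2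
    rw [h3]; positivity
  have k1 := key 1 (Or.inl rfl)
  have k2 := key (-1) (Or.inr rfl)
  rcases abs_cases z with ⟨h, -⟩ | ⟨h, -⟩ <;> rw [h] <;> nlinarith [k1, k2]

end Cfsg.Agent.MathieuByGraph
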