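import Cfsg.Agent.Lib.Spor.MathieuByGraph.PermDegrees
import Cfsg.Agent.Lib.Spor.GolayTupleFacts
import Cfsg.Agent.Lib.Spor.GolayStab
import Cfsg.Agent.Lib.Spor.GolayTrans

/-!
Orbit numbers of the Mathieu group of degree twenty-four on points, pairs, ordered pairs and octads.
-/

set_option autoImplicit false
set_option maxRecDepth 100000
set_option linter.unusedSectionVars false
set_option linter.style.haveILetI false
set_option maxHeartbeats 800000

namespace Cfsg.Agent.MathieuByGraph.TwentyFour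

open Cfsg Cfsg.Agent.Spor MulAction
open scoped Pointwise

/-- Two short lists of points with the same equality pattern are conjugate. -/
theorem map_pattern {k : ℕ} (hk : k ≤ 5) (f f' : Fin k → GolayPt) (h : ∀ i j, f i = f j ↔ f' i = f' j) :
    ∃ g : M24, ∀ i, g • f i = f' i := by
  classical
  let s := Finset.univ.image f
  have hs : s.card ≤ k := Finset.card_image_le.trans (by simp)
  have hsec : ∀ x : s, ∃ i, f i = x.1 := fun x => by
    obtain ⟨i, -, hi⟩ := Finset.mem_image.1 x.2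
    exact ⟨i, hi⟩
  choose j hj using hsec
  let e := s.equivFin.symm
  obtain ⟨σ, hσ, hσe⟩ := M24_trans (hs.trans hk) ⟨fun i => (e i).1, Subtype.val_injective.comp e.injective⟩
    ⟨fun i => f' (j (e i)), fun a b hab => e.injective (Subtype.ext (by
      rw [← hj (e a), ← hj (e b)]; exact (h _ _).2 hab))⟩
  refine ⟨⟨σ, hσ⟩, fun i => ?_⟩
  have hx : f i ∈ s := Finset.mem_image.2 ⟨i, Finset.mem_univ _, rfl⟩
  have h1 := hσe (e.symm ⟨f i, hx⟩)
  change σ (e (e.symm ⟨f i, hx⟩)).1 = f' (j (e (e.symm ⟨f i, hx⟩))) at h1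
  rw [Equiv.apply_symm_apply] at h1
  show σ (f i) = f' i
  exact h1.trans ((h _ _).1 (hj ⟨f i, hx⟩))

/-- The unordered pairs of points. -/
abbrev Pr := {s : Finset GolayPt // s.card = 2}

/-- The octads. -/
abbrev Oc := {s : Finset GolayPt // s ∈ octads}

/-- The ordered pairs of distinct points. -/
abbrev Od := {p : GolayPt × GolayPt // p.1 ≠ p.2}

instance instPr : MulAction M24 Pr where
  smul g s := ⟨g • s.1, (Finset.card_smul_finset g s.1).trans s.2⟩
  one_smul s := Subtype.ext (one_smul _ s.1)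
  mul_smul g k s := Subtype.ext (mul_smul g k s.1)

instance instOc : MulAction M24 Oc where
  smul g s := ⟨g • s.1, smul_octad g.2 s.2⟩
  one_smul s := Subtype.ext (one_smul _ s.1)
  mul_smul g k s := Subtype.ext (mul_smul g k s.1)

instance instOd : MulAction M24 Od where
  smul g p := ⟨(g • p.1.1, g • p.1.2), fun h => p.2 (smul_left_cancel g h)⟩
  one_smul p := Subtype.ext (Prod.ext (one_smul _ p.1.1) (one_smul _ p.1.2))
  mul_smul g k p := Subtype.ext (Prod.ext (mul_smul g k p.1.1) (mul_smul g k p.1.2))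

noncomputable instance fintypeOc : Fintype Oc := Fintype.ofFinite _

theorem pat_two {a b c d : GolayPt} (h : a = b ↔ c = d) : ∃ g : M24, g • a = c ∧ g • b = d := by
  obtain ⟨g, hg⟩ := map_pattern (k := 2) (by norm_num) ![a, b] ![c, d] (by
    intro i j; fin_cases i <;> fin_cases j <;> simp [h, eq_comm])
  exact ⟨g, hg 0, hg 1⟩

instance transPt : IsPretransitive M24 GolayPt :=
  ⟨fun a b => (pat_two (a := a) (b := a) (c := b) (d := b) (by simp)).imp fun _ h => h.1⟩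

theorem od_map (p q : Od) : ∃ g : M24, g • p = q := by
  obtain ⟨g, h1, h2⟩ := pat_two (a := p.1.1) (b := p.1.2) (c := q.1.1) (d := q.1.2) (by simp [p.2, q.2])
  exact ⟨g, Subtype.ext (Prod.ext h1 h2)⟩

instance transOd : IsPretransitive M24 Od := ⟨od_map⟩

instance transPr : IsPretransitive M24 Pr := ⟨fun s t => by
  obtain ⟨a, b, hab, hs⟩ := Finset.card_eq_two.1 s.2
  obtain ⟨c, d, hcd, ht⟩ := Finset.card_eq_two.1 t.2
  obtain ⟨g, h1, h2⟩ := pat_two (a := a) (b := b) (c := c) (d := d) (by simp [hab, hcd])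
  refine ⟨g, Subtype.ext ?_⟩
  show g • s.1 = t.1
  rw [hs, ht, Finset.smul_finset_insert, Finset.smul_finset_singleton, h1, h2]⟩

instance transOc : IsPretransitive M24 Oc := ⟨fun s t => by
  obtain ⟨σ, hσ, e⟩ := octad_map s.1 s.2
  obtain ⟨τ, hτ, e'⟩ := octad_map t.1 t.2
  refine ⟨⟨τ, hτ⟩ * ⟨σ, hσ⟩⁻¹, Subtype.ext ?_⟩
  show (⟨τ, hτ⟩ * ⟨σ, hσ⟩⁻¹ : M24) • s.1 = t.1
  rw [← e, mul_smul]
  exact (congrArg (τ • ·) (inv_smul_smul σ (ofMask 5279))).trans e'⟩

theorem smul_mem_of_fix {g : M24} {a : GolayPt} {s : Finset GolayPt} (h : g • a = a) : a ∈ g • s ↔ a ∈ s := by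
  conv_lhs => rw [← h]
  exact Finset.smul_mem_smul_finset_iff g

theorem ofMask_one : ofMask 1 = ({pt 0} : Finset GolayPt) := ofMask_pow 0 (by norm_num)

theorem ofMask_two : ofMask 2 = ({pt 1} : Finset GolayPt) := ofMask_pow 1 (by norm_num)

theorem pt01 : pt 0 ≠ pt 1 := by decide +kernel

theorem pts_one : tupP1OctA.map ofMask = [({pt 0} : Finset GolayPt)] := by
  simp [tupP1OctA, ofMask_one]

theorem pts_two : tupP2OctA.map ofMask = [({pt 0} : Finset GolayPt), {pt 1}] ∧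
    tupP2PairA.map ofMask = [({pt 0} : Finset GolayPt), {pt 1}] := by
  simp [tupP2OctA, tupP2PairA, ofMask_one, ofMask_two]

theorem fix_pt {g : M24} {i : ℕ} (hi : i < 24) (h : g • ofMask (2 ^ i) = ofMask (2 ^ i)) : g • pt i = pt i := by
  rw [ofMask_pow i hi] at h
  exact fix_of_singleton h

/-- A swap of the two base points. -/
theorem exists_swap : ∃ τ : M24, τ • pt 0 = pt 1 ∧ τ • pt 1 = pt 0 :=
  pat_two (by simp [pt01, pt01.symm])

theorem pt_pt : Nat.card (orbitRel.Quotient (stabilizer M24 (pt 0)) GolayPt) = 2 := by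
  refine card_orbits_of_inv (fun y => if y = pt 0 then 0 else 1) (fun i => ?_) (fun k y => ?_) fun y z h => ?_
  · fin_cases i
    · exact ⟨pt 0, by simp⟩
    · exact ⟨pt 1, by simp [pt01.symm]⟩
  · have hk : (k : M24) • pt 0 = pt 0 := k.2
    refine if_congr ⟨fun e => smul_left_cancel (k : M24) (e.trans hk.symm), fun e => ?_⟩ rfl rfl
    show (k : M24) • y = pt 0
    rw [e, hk]
  · have hyz : y = pt 0 ↔ z = pt 0 := by split_ifs at h <;> simp_all
    obtain ⟨g, h1, h2⟩ := pat_two (a := pt 0) (b := y) (c := pt 0) (d := z)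
      (by rw [eq_comm, hyz, eq_comm])
    exact ⟨⟨g, h1⟩, h2⟩

theorem pt_oct : Nat.card (orbitRel.Quotient (stabilizer M24 (pt 0)) Oc) = 2 := by
  refine card_orbits_of_inv (fun y => if pt 0 ∈ y.1 then 0 else 1) (fun i => ?_) (fun k y => ?_) fun y z h => ?_
  · fin_cases i
    · refine ⟨⟨ofMask 5279, baseOctad_mem⟩, ?_⟩
      have : pt 0 ∈ ofMask 5279 := by decide +kernel
      simp [this]
    · refine ⟨⟨ofMask 10558, by rw [mem_octads, mask_ofMask (by norm_num)]; decide +kernel⟩, ?_⟩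
      have : pt 0 ∉ ofMask 10558 := by decide +kernel
      simp [this]
  · exact if_congr (smul_mem_of_fix (k.2 : (k : M24) • pt 0 = pt 0)) rfl rfl
  · have hyz : pt 0 ∈ y.1 ↔ pt 0 ∈ z.1 := by split_ifs at h <;> simp_all
    obtain ⟨g, hg, hfix, he⟩ := tupP1Oct_classes y.1 y.2 z.1 z.2 (by
      simp only [pts_one, tupInv, List.map_cons, List.map_nil, card_singleton_inter]
      by_cases hy : pt 0 ∈ y.1 <;> simp [hy, ← hyz])
    exact ⟨⟨⟨g, hg⟩, fix_pt (g := ⟨g, hg⟩) (i := 0) (by norm_num) (hfix 1 (by simp [tupP1OctA]))⟩, Subtype.ext he⟩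

/-- The pair of base points. -/
def pr₀ : Pr := ⟨{pt 0, pt 1}, Finset.card_pair pt01⟩

/-- The ordered pair of base points. -/
def od₀ : Od := ⟨(pt 0, pt 1), pt01⟩

theorem mem_pr_stab {g : M24} (h0 : g • pt 0 = pt 0 ∨ g • pt 0 = pt 1) (h1 : g • pt 1 = pt 0 ∨ g • pt 1 = pt 1)
    (hne : g • pt 0 ≠ g • pt 1) : g ∈ stabilizer M24 pr₀ := by
  refine Subtype.ext ?_
  show g • ({pt 0, pt 1} : Finset GolayPt) = {pt 0, pt 1}
  rw [Finset.smul_finset_insert, Finset.smul_finset_singleton]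
  rcases h0 with a | a <;> rcases h1 with b | b <;> rw [a, b] at hne ⊢
  · exact absurd rfl hne
  · exact Finset.pair_comm _ _
  · exact absurd rfl hne

theorem pr_pt : Nat.card (orbitRel.Quotient (stabilizer M24 pr₀) GolayPt) = 2 := by
  refine card_orbits_of_inv (fun y => if y ∈ pr₀.1 then 0 else 1) (fun i => ?_) (fun k y => ?_) fun y z h => ?_
  · fin_cases i
    · exact ⟨pt 0, by simp [pr₀]⟩
    · refine ⟨pt 2, ?_⟩
      have : pt 2 ∉ pr₀.1 := by decide +kernel
      simp [this]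
  · have hk : (k : M24) • pr₀.1 = pr₀.1 := congrArg Subtype.val k.2
    refine if_congr ?_ rfl rfl
    show (k : M24) • y ∈ pr₀.1 ↔ _
    conv_lhs => rw [← hk]
    exact Finset.smul_mem_smul_finset_iff (k : M24)
  · have hyz : y ∈ pr₀.1 ↔ z ∈ pr₀.1 := by split_ifs at h <;> simp_all
    simp only [pr₀, Finset.mem_insert, Finset.mem_singleton] at hyz
    by_cases hy : y = pt 0 ∨ y = pt 1
    · rcases hy with rfl | rfl <;> rcases hyz.1 (by simp) with rfl | rfl
      · exact ⟨1, one_smul _ _⟩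
      · obtain ⟨τ, h1, h2⟩ := exists_swap
        exact ⟨⟨τ, mem_pr_stab (Or.inr h1) (Or.inl h2) (by rw [h1, h2]; exact pt01.symm)⟩, h1⟩
      · obtain ⟨τ, h1, h2⟩ := exists_swap
        exact ⟨⟨τ, mem_pr_stab (Or.inr h1) (Or.inl h2) (by rw [h1, h2]; exact pt01.symm)⟩, h2⟩
      · exact ⟨1, one_smul _ _⟩
    · have hz : ¬ (z = pt 0 ∨ z = pt 1) := fun e => hy (hyz.2 e)
      push Not at hy hz
      obtain ⟨g, hg⟩ := map_pattern (k := 3) (by norm_num) ![pt 0, pt 1, y] ![pt 0, pt 1, z] (by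
        intro i j
        fin_cases i <;> fin_cases j <;> simp [pt01, pt01.symm, hy.1, hy.2, hz.1, hz.2, hy.1.symm, hy.2.symm,
          hz.1.symm, hz.2.symm])
      exact ⟨⟨g, mem_pr_stab (Or.inl (hg 0)) (Or.inr (hg 1)) (fun e => pt01 (smul_left_cancel g e))⟩, hg 2⟩

/-- The number of base points in a set. -/
def baseCnt (s : Finset GolayPt) : Fin 3 :=
  ⟨(pr₀.1 ∩ s).card, Nat.lt_succ_of_le ((Finset.card_le_card Finset.inter_subset_left).trans pr₀.2.le)⟩

theorem baseCnt_smul (k : stabilizer M24 pr₀) (s : Finset GolayPt) : baseCnt ((k : M24) • s) = baseCnt s := by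
  have hk : (k : M24) • pr₀.1 = pr₀.1 := congrArg Subtype.val k.2
  refine Fin.ext ?_
  show (pr₀.1 ∩ (k : M24) • s).card = (pr₀.1 ∩ s).card
  conv_lhs => rw [← hk]
  rw [← Finset.smul_finset_inter, Finset.card_smul_finset]

theorem baseCnt_eq (s : Finset GolayPt) :
    (baseCnt s : ℕ) = (if pt 0 ∈ s then 1 else 0) + (if pt 1 ∈ s then 1 else 0) := by
  show (({pt 0, pt 1} : Finset GolayPt) ∩ s).card = _
  by_cases h0 : pt 0 ∈ s <;> by_cases h1 : pt 1 ∈ s <;>
    simp [h0, h1, Finset.insert_inter_of_mem, Finset.insert_inter_of_notMem, pt01, Finset.card_pair]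

theorem pair_sep {T : Set (Finset GolayPt)} (hT : ∀ σ ∈ M24, ∀ s ∈ T, σ • s ∈ T) {A : List ℕ}
    (hA : A = [1, 2]) (hcl : ∀ s ∈ T, ∀ s' ∈ T, tupInv (A.map ofMask) s = tupInv (A.map ofMask) s' →
      ∃ g ∈ M24, (∀ m ∈ A, g • ofMask m = ofMask m) ∧ g • s = s') {y z : Finset GolayPt} (hy : y ∈ T)
    (hz : z ∈ T) (h : baseCnt y = baseCnt z) : ∃ k : stabilizer M24 pr₀, (k : M24) • y = z := by
  subst hA
  have hpts : ([1, 2] : List ℕ).map ofMask = [({pt 0} : Finset GolayPt), {pt 1}] := by simp [ofMask_one, ofMask_two]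
  have direct : ∀ z' ∈ T, (pt 0 ∈ y ↔ pt 0 ∈ z') → (pt 1 ∈ y ↔ pt 1 ∈ z') →
      ∃ g : M24, g • pt 0 = pt 0 ∧ g • pt 1 = pt 1 ∧ g • y = z' := fun z' hz' e0 e1 => by
    obtain ⟨g, hg, hfix, he⟩ := hcl y hy z' hz' (by
      simp only [hpts, tupInv, List.map_cons, List.map_nil, card_singleton_inter, e0, e1])
    exact ⟨⟨g, hg⟩, fix_pt (g := ⟨g, hg⟩) (i := 0) (by norm_num) (hfix 1 (by simp)),
      fix_pt (g := ⟨g, hg⟩) (i := 1) (by norm_num) (hfix 2 (by simp)), he⟩
  have h' : ((if pt 0 ∈ y then 1 else 0) + (if pt 1 ∈ y then 1 else 0) : ℕ) =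
      (if pt 0 ∈ z then 1 else 0) + (if pt 1 ∈ z then 1 else 0) := by rw [← baseCnt_eq, ← baseCnt_eq, h]
  by_cases hc : (pt 0 ∈ y ↔ pt 0 ∈ z) ∧ (pt 1 ∈ y ↔ pt 1 ∈ z)
  · obtain ⟨g, g0, g1, he⟩ := direct z hz hc.1 hc.2
    exact ⟨⟨g, mem_pr_stab (Or.inl g0) (Or.inr g1) (by rw [g0, g1]; exact pt01)⟩, he⟩
  · obtain ⟨τ, t0, t1⟩ := exists_swap
    have hτz : τ • z ∈ T := hT _ τ.2 z hz
    have e0 : pt 0 ∈ τ • z ↔ pt 1 ∈ z := by
      conv_lhs => rw [← t1]
      exact Finset.smul_mem_smul_finset_iff τ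
    have e1 : pt 1 ∈ τ • z ↔ pt 0 ∈ z := by
      conv_lhs => rw [← t0]
      exact Finset.smul_mem_smul_finset_iff τ
    obtain ⟨g, g0, g1, he⟩ := direct (τ • z) hτz
      (by rw [e0]; by_cases a : pt 0 ∈ y <;> by_cases b : pt 1 ∈ y <;> by_cases c : pt 0 ∈ z <;>
        by_cases d : pt 1 ∈ z <;> simp_all)
      (by rw [e1]; by_cases a : pt 0 ∈ y <;> by_cases b : pt 1 ∈ y <;> by_cases c : pt 0 ∈ z <;>
        by_cases d : pt 1 ∈ z <;> simp_all)
    have hτ : τ ∈ stabilizer M24 pr₀ := mem_pr_stab (Or.inr t0) (Or.inl t1) (by rw [t0, t1]; exact pt01.symm)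
    have hgm : g ∈ stabilizer M24 pr₀ := mem_pr_stab (Or.inl g0) (Or.inr g1) (by rw [g0, g1]; exact pt01)
    refine ⟨⟨τ⁻¹ * g, mul_mem (inv_mem hτ) hgm⟩, ?_⟩
    show (τ⁻¹ * g) • y = z
    rw [mul_smul, he, inv_smul_smul]

theorem pr_pr : Nat.card (orbitRel.Quotient (stabilizer M24 pr₀) Pr) = 3 := by
  refine card_orbits_of_inv (fun y => baseCnt y.1) (fun i => ?_) (fun k y => baseCnt_smul k y.1) fun y z h => ?_
  · fin_cases i
    · exact ⟨⟨{pt 2, pt 3}, by decide +kernel⟩, by decide +kernel⟩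
    · exact ⟨⟨{pt 0, pt 3}, by decide +kernel⟩, by decide +kernel⟩
    · exact ⟨pr₀, by decide +kernel⟩
  · obtain ⟨k, hk⟩ := pair_sep pairs_inv rfl tupP2Pair_classes (y := y.1) (z := z.1) y.2 z.2 h
    exact ⟨k, Subtype.ext hk⟩

theorem pr_oct : Nat.card (orbitRel.Quotient (stabilizer M24 pr₀) Oc) = 3 := by
  refine card_orbits_of_inv (fun y => baseCnt y.1) (fun i => ?_) (fun k y => baseCnt_smul k y.1) fun y z h => ?_
  · have hex : ∀ i : Fin 3, ∃ m ∈ octMasks, baseCnt (ofMask m) = i := by decide +kernel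
    obtain ⟨m, hm, hi⟩ := hex i
    exact ⟨⟨ofMask m, by rw [mem_octads, mask_ofMask (octMasks_lt hm)]; exact hm⟩, hi⟩
  · obtain ⟨k, hk⟩ := pair_sep octads_inv rfl tupP2Oct_classes (y := y.1) (z := z.1) y.2 z.2 h
    exact ⟨k, Subtype.ext hk⟩

/-- The base octad. -/
def oc₀ : Oc := ⟨ofMask 5279, baseOctad_mem⟩

theorem inter_cases (y : Oc) : (oc₀.1 ∩ y.1).card ∈ [0, 2, 4, 8] := by
  rcases octMasks_class _ (mem_octads.1 y.2) with h | h | h | h
  · rw [show y.1 = oc₀.1 from mask_injective (h.trans (mask_ofMask (by norm_num)).symm), Finset.inter_self, oc₀.2.2]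
    simp
  all_goals rw [← pc_mask, mask_inter, oc₀, mask_ofMask (by norm_num), h]; simp

theorem oct_oct : Nat.card (orbitRel.Quotient (stabilizer M24 oc₀) Oc) = 4 := by
  refine card_orbits_of_inv (fun y => ⟨min 3 ((oc₀.1 ∩ y.1).card / 2), by omega⟩) (fun i => ?_) (fun k y => ?_)
    fun y z h => ?_
  · have hex : ∀ i : Fin 4, ∃ m ∈ octMasks, min 3 (pc (5279 &&& m) / 2) = (i : ℕ) := by decide +kernel
    obtain ⟨m, hm, hi⟩ := hex i
    refine ⟨⟨ofMask m, by rw [mem_octads, mask_ofMask (octMasks_lt hm)]; exact hm⟩, Fin.ext ?_⟩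
    show min 3 ((oc₀.1 ∩ ofMask m).card / 2) = (i : ℕ)
    rw [← pc_mask, mask_inter, oc₀, mask_ofMask (by norm_num), mask_ofMask (octMasks_lt hm)]
    exact hi
  · have hk : (k : M24) • oc₀.1 = oc₀.1 := congrArg Subtype.val k.2
    refine Fin.ext ?_
    show min 3 ((oc₀.1 ∩ (k : M24) • y.1).card / 2) = _
    conv_lhs => rw [← hk]
    rw [← Finset.smul_finset_inter, Finset.card_smul_finset]
  · have h' : (oc₀.1 ∩ y.1).card = (oc₀.1 ∩ z.1).card := by
      have hh := congrArg Fin.val h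
      simp only at hh
      have a := inter_cases y
      have b := inter_cases z
      simp only [List.mem_cons, List.not_mem_nil, or_false] at a b
      omega
    obtain ⟨g, hg, h1, h2⟩ := octad_orbit_trans oc₀.2 y.2 z.2 h'
    exact ⟨⟨⟨g, hg⟩, Subtype.ext h1⟩, Subtype.ext h2⟩

theorem od_fix (k : stabilizer M24 od₀) : (k : M24) • pt 0 = pt 0 ∧ (k : M24) • pt 1 = pt 1 :=
  ⟨congrArg (fun p : Od => p.1.1) k.2, congrArg (fun p : Od => p.1.2) k.2⟩

/-- The place of a point against the base points. -/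
def place (x : GolayPt) : Fin 3 := if x = pt 0 then 0 else if x = pt 1 then 1 else 2

theorem place_smul (k : stabilizer M24 od₀) (x : GolayPt) : place ((k : M24) • x) = place x := by
  obtain ⟨h0, h1⟩ := od_fix k
  refine if_congr ⟨fun e => smul_left_cancel (k : M24) (e.trans h0.symm), fun e => by rw [e, h0]⟩ rfl
    (if_congr ⟨fun e => smul_left_cancel (k : M24) (e.trans h1.symm), fun e => by rw [e, h1]⟩ rfl rfl)

theorem place_eq {x y : GolayPt} (h : place x = place y) :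
    (x = pt 0 ↔ y = pt 0) ∧ (x = pt 1 ↔ y = pt 1) := by
  unfold place at h
  have := pt01
  split_ifs at h <;> simp_all

theorem od_pt : Nat.card (orbitRel.Quotient (stabilizer M24 od₀) GolayPt) = 3 := by
  refine card_orbits_of_inv place (fun i => ?_) place_smul fun y z h => ?_
  · fin_cases i
    · exact ⟨pt 0, by decide +kernel⟩
    · exact ⟨pt 1, by decide +kernel⟩
    · exact ⟨pt 2, by decide +kernel⟩
  · obtain ⟨e0, e1⟩ := place_eq h
    obtain ⟨g, hg⟩ := map_pattern (k := 3) (by norm_num) ![pt 0, pt 1, y] ![pt 0, pt 1, z] (by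
      intro i j
      fin_cases i <;> fin_cases j <;> simp [pt01, pt01.symm, e0, e1, eq_comm (a := pt 0), eq_comm (a := pt 1)])
    exact ⟨⟨g, Subtype.ext (Prod.ext (hg 0) (hg 1))⟩, hg 2⟩

/-- The two memberships of the base points. -/
def memCode (s : Finset GolayPt) : Fin 4 :=
  if pt 0 ∈ s then (if pt 1 ∈ s then 0 else 1) else if pt 1 ∈ s then 2 else 3

theorem od_pr : Nat.card (orbitRel.Quotient (stabilizer M24 od₀) Pr) = 4 := by
  refine card_orbits_of_inv (fun y => memCode y.1) (fun i => ?_) (fun k y => ?_) fun y z h => ?_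
  · fin_cases i
    · exact ⟨pr₀, by decide +kernel⟩
    · exact ⟨⟨{pt 0, pt 3}, by decide +kernel⟩, by decide +kernel⟩
    · exact ⟨⟨{pt 1, pt 3}, by decide +kernel⟩, by decide +kernel⟩
    · exact ⟨⟨{pt 2, pt 3}, by decide +kernel⟩, by decide +kernel⟩
  · obtain ⟨h0, h1⟩ := od_fix k
    exact if_congr (smul_mem_of_fix h0) (if_congr (smul_mem_of_fix h1) rfl rfl)
      (if_congr (smul_mem_of_fix h1) rfl rfl)
  · simp only [memCode] at h
    have hyz : (pt 0 ∈ y.1 ↔ pt 0 ∈ z.1) ∧ (pt 1 ∈ y.1 ↔ pt 1 ∈ z.1) := by split_ifs at h <;> simp_all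
    obtain ⟨g, hg, hfix, he⟩ := tupP2Pair_classes y.1 y.2 z.1 z.2 (by
      simp only [pts_two.2, tupInv, List.map_cons, List.map_nil, card_singleton_inter, hyz.1, hyz.2])
    exact ⟨⟨⟨g, hg⟩, Subtype.ext (Prod.ext (fix_pt (g := ⟨g, hg⟩) (i := 0) (by norm_num) (hfix 1 (by simp [tupP2PairA])))
      (fix_pt (g := ⟨g, hg⟩) (i := 1) (by norm_num) (hfix 2 (by simp [tupP2PairA]))))⟩, Subtype.ext he⟩

/-- The seven places of an ordered pair. -/
def odCode (a b : Fin 3) : Fin 7 :=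
  if a = 0 ∧ b = 1 then 0 else if a = 1 ∧ b = 0 then 1 else if a = 0 then 2 else if a = 1 then 3 else
    if b = 0 then 4 else if b = 1 then 5 else 6

theorem odCode_inj : ∀ a b c d : Fin 3, (a = b → a = 2) → (c = d → c = 2) → odCode a b = odCode c d →
    a = c ∧ b = d := by
  decide +kernel

theorem od_od : Nat.card (orbitRel.Quotient (stabilizer M24 od₀) Od) = 7 := by
  refine card_orbits_of_inv (fun y => odCode (place y.1.1) (place y.1.2)) (fun i => ?_) (fun k y => ?_)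
    fun y z h => ?_
  · fin_cases i
    · exact ⟨⟨(pt 0, pt 1), by decide +kernel⟩, by decide +kernel⟩
    · exact ⟨⟨(pt 1, pt 0), by decide +kernel⟩, by decide +kernel⟩
    · exact ⟨⟨(pt 0, pt 2), by decide +kernel⟩, by decide +kernel⟩
    · exact ⟨⟨(pt 1, pt 2), by decide +kernel⟩, by decide +kernel⟩
    · exact ⟨⟨(pt 2, pt 0), by decide +kernel⟩, by decide +kernel⟩
    · exact ⟨⟨(pt 2, pt 1), by decide +kernel⟩, by decide +kernel⟩
    · exact ⟨⟨(pt 2, pt 3), by decide +kernel⟩, by decide +kernel⟩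
  · show odCode (place ((k : M24) • y.1.1)) (place ((k : M24) • y.1.2)) = _
    rw [place_smul, place_smul]
  · have hne : ∀ p : Od, place p.1.1 = place p.1.2 → place p.1.1 = 2 := by
      intro p e
      have := p.2
      unfold place at e ⊢
      split_ifs at e ⊢ <;> simp_all
    obtain ⟨ea, eb⟩ := odCode_inj _ _ _ _ (hne y) (hne z) h
    obtain ⟨a0, a1⟩ := place_eq ea
    obtain ⟨b0, b1⟩ := place_eq eb
    obtain ⟨g, hg⟩ := map_pattern (k := 4) (by norm_num) ![pt 0, pt 1, y.1.1, y.1.2] ![pt 0, pt 1, z.1.1, z.1.2] (by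
      intro i j
      fin_cases i <;> fin_cases j <;> simp [pt01, pt01.symm, a0, a1, b0, b1, eq_comm (a := pt 0),
        eq_comm (a := pt 1), y.2, z.2, y.2.symm, z.2.symm])
    exact ⟨⟨g, Subtype.ext (Prod.ext (hg 0) (hg 1))⟩, Subtype.ext (Prod.ext (hg 2) (hg 3))⟩

end Cfsg.Agent.MathieuByGraph.TwentyFour
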