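import Cfsg.Agent.Lib.Perm.PermChar
import Cfsg.Agent.Lib.Char.AbelianTIDegree

/-!
Degrees of constituents of permutation characters from the numbers of orbits of the point stabilisers.
-/

set_option autoImplicit false
set_option linter.unusedSectionVars false
set_option linter.style.haveILetI false

namespace Cfsg.Agent.MathieuByGraph

open Cfsg Cfsg.Agent.Char MulAction Cfsg.Agent.Perm.PermChar
open scoped ComplexConjugate

universe u v w

variable {G : Type u} [Group G] [Fintype G]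

/-- The inner product of two permutation characters. -/
theorem inner_two {Ω : Type v} [Fintype Ω] [MulAction G Ω] [IsPretransitive G Ω] {Δ : Type w} [Fintype Δ]
    [MulAction G Δ] (a : Ω) :
    classInner (permChar G Ω) (permChar G Δ) = (Nat.card (orbitRel.Quotient (stabilizer G a) Δ) : ℂ) := by
  classical
  haveI := Fintype.ofFinite (stabilizer G a)
  rw [inner_permChar a (Char.isClassFunction_character isCharacter_permChar)]
  have h := Cfsg.Agent.Perm.DerangementRank.burnside (stabilizer G a) Δ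
  have h' : ∑ h : stabilizer G a, conj (permChar G Δ (h : G)) =
      ((Nat.card (orbitRel.Quotient (stabilizer G a) Δ) * Nat.card (stabilizer G a) : ℕ) : ℂ) := by
    rw [← h, Nat.cast_sum]
    refine Finset.sum_congr rfl fun k _ => ?_
    rw [Complex.conj_natCast]
    rfl
  rw [h', Nat.cast_mul, mul_comm, mul_inv_cancel_right₀ (card_ne _)]

/-- The number of orbits from a separating invariant. -/
theorem card_orbits_of_inv {K : Type*} [Group K] {Δ : Type*} [MulAction K Δ] {n : ℕ} (f : Δ → Fin n)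
    (hsurj : Function.Surjective f) (hinv : ∀ (k : K) (y : Δ), f (k • y) = f y)
    (hsep : ∀ y z : Δ, f y = f z → ∃ k : K, k • y = z) : Nat.card (orbitRel.Quotient K Δ) = n := by
  rw [← Nat.card_fin n]
  refine Nat.card_congr (Equiv.ofBijective
    (Quotient.lift f (fun y z ⟨k, hk⟩ => by rw [← hk]; exact hinv k z)) ⟨?_, fun i => ?_⟩)
  · intro q q' h
    induction q using Quotient.inductionOn
    induction q' using Quotient.inductionOn
    rename_i y z
    obtain ⟨k, hk⟩ := hsep z y h.symm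
    exact Quotient.sound ⟨k, hk⟩
  · obtain ⟨y, hy⟩ := hsurj i
    exact ⟨Quotient.mk'' y, hy⟩

/-- A character of norm one more than the squares of its known coefficients has one further constituent. -/
theorem exists_next {θ : G → ℂ} (hθ : IsCharacter G θ) (S : Finset (IrrCharacter G)) (c : IrrCharacter G → ℕ)
    (hc : ∀ χ ∈ S, classInner θ (χ : G → ℂ) = c χ) {N d : ℕ} (hN : classInner θ θ = (N : ℂ))
    (hNs : N = ∑ χ ∈ S, c χ * c χ + 1) (hd : θ 1 = (d : ℂ)) :
    ∃ χ : IrrCharacter G, χ ∉ S ∧ classInner θ (χ : G → ℂ) = 1 ∧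
      d = ∑ ψ ∈ S, c ψ * deg (ψ : G → ℂ) + deg (χ : G → ℂ) ∧
      ∀ ψ : IrrCharacter G, ψ ∉ S → ψ ≠ χ → classInner θ (ψ : G → ℂ) = 0 := by
  classical
  obtain ⟨n, hn⟩ := exists_decomposition hθ
  have hco := decomposition_coeff n hn
  have hS : ∀ χ ∈ S, n χ = c χ := fun χ h => by
    have := hc χ h
    rw [hco] at this
    exact_mod_cast this
  have hsq : ∑ χ, n χ * n χ = N := by
    have h := AbTI.classInner_self_decomp n hn
    rw [hN] at h
    exact_mod_cast h.symm
  rw [← Finset.sum_add_sum_compl S, Finset.sum_congr rfl (g := fun χ => c χ * c χ) fun χ h => by rw [hS χ h],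
    hNs] at hsq
  have hone : ∑ χ ∈ Sᶜ, n χ * n χ = 1 := by omega
  obtain ⟨χ, hχS, hχ0⟩ := Finset.exists_ne_zero_of_sum_ne_zero (s := Sᶜ) (f := fun χ => n χ * n χ) (by omega)
  rw [← Finset.add_sum_erase _ _ hχS] at hone
  have hpos : 1 ≤ n χ * n χ := Nat.one_le_iff_ne_zero.2 hχ0
  have h1 : n χ = 1 := Nat.eq_one_of_mul_eq_one_left (show n χ * n χ = 1 by omega)
  have hz : ∀ ψ ∈ Sᶜ.erase χ, n ψ = 0 := fun ψ hψ =>
    mul_self_eq_zero.1 (Finset.sum_eq_zero_iff.1
      (show ∑ ψ ∈ Sᶜ.erase χ, n ψ * n ψ = 0 by omega) ψ hψ)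
  refine ⟨χ, Finset.mem_compl.1 hχS, by rw [hco, h1, Nat.cast_one], ?_, fun ψ h1' h2' => ?_⟩
  · have h := congrFun hn 1
    rw [hd, Finset.sum_apply, Finset.sum_congr rfl (g := fun ψ => ((n ψ * deg (ψ : G → ℂ) : ℕ) : ℂ)) (fun ψ _ => by
      rw [Pi.smul_apply, char_one_eq_deg (irr_isCharacter ψ.2), nsmul_eq_mul, Nat.cast_mul]),
      ← Nat.cast_sum, Nat.cast_inj, ← Finset.sum_add_sum_compl S, ← Finset.add_sum_erase _ _ hχS, h1, one_mul] at h
    have e1 : ∑ ψ ∈ Sᶜ.erase χ, n ψ * deg (ψ : G → ℂ) = 0 :=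
      Finset.sum_eq_zero fun ψ hψ => by rw [hz ψ hψ, zero_mul]
    have e2 : ∑ ψ ∈ S, n ψ * deg (ψ : G → ℂ) = ∑ ψ ∈ S, c ψ * deg (ψ : G → ℂ) :=
      Finset.sum_congr rfl fun ψ hψ => by rw [hS ψ hψ]
    omega
  · rw [hco, hz ψ (Finset.mem_erase.2 ⟨h2', Finset.mem_compl.2 h1'⟩), Nat.cast_zero]

/-- The inner product with a character of known constituents. -/
theorem inner_support {θ φ : G → ℂ} (hφ : IsCharacter G φ) (T : Finset (IrrCharacter G))
    (c : IrrCharacter G → ℕ) (hc : ∀ χ ∈ T, classInner φ (χ : G → ℂ) = c χ)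
    (h0 : ∀ χ : IrrCharacter G, χ ∉ T → classInner φ (χ : G → ℂ) = 0) :
    classInner θ φ = ∑ χ ∈ T, (c χ : ℂ) * classInner θ (χ : G → ℂ) := by
  classical
  obtain ⟨n, hn⟩ := exists_decomposition hφ
  have hco := decomposition_coeff n hn
  conv_lhs => rw [hn]
  rw [classInner_sum_right, Finset.sum_congr rfl (g := fun χ => (n χ : ℂ) * classInner θ (χ : G → ℂ)) fun χ _ => by
    rw [← Nat.cast_smul_eq_nsmul ℂ, classInner_smul_right, Complex.conj_natCast]]
  refine (Finset.sum_subset (Finset.subset_univ T) fun χ _ h => ?_).symm.trans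
    (Finset.sum_congr rfl fun χ h => ?_)
  · have h' := h0 χ h
    rw [hco] at h'
    rw [h', zero_mul]
  · have h' := hc χ h
    rw [hco] at h'
    rw [h']

end Cfsg.Agent.MathieuByGraph
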