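import Cfsg.Agent.Lib.Spor.MathieuByGraph.Cent
import Cfsg.Agent.Lib.Small.MathieuEleven.Counts
import Cfsg.Agent.Lib.Char.PrimitiveDegree
import Cfsg.Agent.Lib.Char.DegreeSplit
import Cfsg.Agent.Lib.Char.FullyRamifiedInduced
import Cfsg.Prelude.Def_DegreeGraph

/-!
The subgroup generated by the elements of order `r` when `r` divides a degree: perfect, simple modulo its centre;
degrees prime to its index come from its characters.
-/

set_option autoImplicit false
set_option linter.style.haveILetI false
set_option linter.unusedSectionVars false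

namespace Cfsg.Agent.MathieuByGraph

open Cfsg Cfsg.Agent.Char MulAction
open scoped ComplexConjugate Pointwise commutatorElement

universe u

variable {r m : ℕ} [Fact r.Prime] {G : Type u} [Group G] [Finite G]

/-- The group generated by the elements of the prime order. -/
theorem exists_top [Fintype G] (hG : Nat.card G = r * m) (hm : ModFree m r) (hrm : ¬ r ∣ m) (χ : IrrCharacter G)
    (hr : r ∣ deg (χ : G → ℂ)) :
    ∃ L : Subgroup G, L.Normal ∧ commutator L = ⊤ ∧ IsSimpleGroup (L ⧸ Subgroup.center L) ∧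
      ¬ IsMulCommutative (L ⧸ Subgroup.center L) ∧ r ∣ Nat.card (L ⧸ Subgroup.center L) ∧
      L.index * Nat.card (Subgroup.center L) * Nat.card (L ⧸ Subgroup.center L) = r * m := by
  classical
  have hr2 : ¬ r ^ 2 ∣ r * m := fun h =>
    hrm (Nat.dvd_of_mul_dvd_mul_left (Fact.out : r.Prime).pos ((pow_two r).symm.dvd.trans h))
  have hr0 : 0 < r := (Fact.out : r.Prime).pos
  have hP : ∀ P : Sylow r G, Nat.card (P : Subgroup G) = r := fun P => by
    obtain ⟨k, hk⟩ := P.isPGroup'.exists_card_eq
    have hd : r ^ k ∣ r * m := hk ▸ hG ▸ Subgroup.card_subgroup_dvd_card (P : Subgroup G)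
    have hk1 : 1 ≤ k := by
      by_contra h
      have h0 : k = 0 := by omega
      refine P.not_dvd_index ?_
      have hi := (P : Subgroup G).index_mul_card
      rw [hk, h0, pow_zero, mul_one, hG] at hi
      exact hi ▸ dvd_mul_right r m
    have hk2 : k < 2 := by
      by_contra h
      have h2 : r * r ∣ r * m := (pow_two r) ▸ (pow_dvd_pow r (Nat.le_of_not_lt h)).trans hd
      exact hrm (Nat.dvd_of_mul_dvd_mul_left hr0 h2)
    rw [hk, show k = 1 by omega, pow_one]
  have hnn : ∀ P : Sylow r G, ¬ (P : Subgroup G).Normal := fun P hn => by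
    haveI := hn
    have h := deg_dvd_index_abelian_normal χ.2 (P : Subgroup G) fun a b =>
      Subtype.ext (MathieuEleven.comm_of_prime (hP P) a a.2 b b.2)
    exact P.not_dvd_index (hr.trans h)
  -- two commuting elements of that order lie in one Sylow subgroup
  have hsame : ∀ z : G, orderOf z = r → ∃ P : Sylow r G, Subgroup.zpowers z = (P : Subgroup G) ∧
      ∀ x : G, orderOf x = r → x * z = z * x → x ∈ (P : Subgroup G) := by
    intro z hz
    obtain ⟨P, hPz⟩ := (IsPGroup.of_card (n := 1) (by rw [Nat.card_zpowers, hz, pow_one]) :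
      IsPGroup r (Subgroup.zpowers z)).exists_le_sylow
    have e : Subgroup.zpowers z = (P : Subgroup G) :=
      Subgroup.eq_of_le_of_card_ge hPz (by rw [Nat.card_zpowers, hz, hP P])
    refine ⟨P, e, fun x hx hxz => MathieuEleven.mem_of_normalises ⟨1, by rw [pow_one, ← hx, pow_orderOf_eq_one]⟩ P ?_⟩
    refine Subgroup.centralizer_le_normalizer _ ?_
    rw [MathieuEleven.centralizer_gen e]
    exact Subgroup.mem_centralizer_singleton_iff.2 hxz
  set L := Subgroup.closure {x : G | orderOf x = r} with hLdef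
  haveI hLn : L.Normal := ⟨fun n hn g => by
    have hle : L ≤ L.comap (MulAut.conj g).toMonoidHom := (Subgroup.closure_le _).2 fun x hx =>
      Subgroup.subset_closure (((MulAut.conj g).orderOf_eq x).trans hx)
    exact hle hn⟩
  have hgen : Subgroup.closure {x : L | orderOf x = r} = ⊤ := by
    rw [show {x : L | orderOf x = r} = Subtype.val ⁻¹' {x : G | orderOf x = r} by
      ext x; simp [Subgroup.orderOf_coe]]
    exact Subgroup.closure_closure_coe_preimage
  have hLd : Nat.card L ∣ r * m := hG ▸ Subgroup.card_subgroup_dvd_card L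
  have hLna : ∃ a b : L, a * b ≠ b * a := by
    by_contra hcon
    push Not at hcon
    obtain ⟨P⟩ : Nonempty (Sylow r G) := inferInstance
    refine hnn P ⟨fun a ha g => ?_⟩
    by_cases ha1 : a = 1
    · simp [ha1]
    have ho : orderOf a = r := MathieuEleven.prime_order hP P a ha ha1
    have hog : orderOf (g * a * g⁻¹) = r := ((MulAut.conj g).orderOf_eq a).trans ho
    obtain ⟨P', hP', hmem⟩ := hsame a ho
    obtain rfl : P' = P := Sylow.ext (hP'.symm.trans
      (Subgroup.eq_of_le_of_card_ge (Subgroup.zpowers_le.2 ha) (by rw [Nat.card_zpowers, ho, hP P])))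
    exact hmem _ hog (congrArg Subtype.val
      (hcon ⟨_, Subgroup.subset_closure hog⟩ ⟨a, Subgroup.subset_closure ho⟩))
  obtain ⟨u, v, huv⟩ := hLna
  set Z := Subgroup.center L with hZdef
  have hZr : ¬ r ∣ Nat.card Z := fun h => by
    obtain ⟨z, hz⟩ := exists_prime_orderOf_dvd_card' (G := Z) r h
    obtain ⟨P, -, hmem⟩ := hsame ((z : L) : G) (by rw [Subgroup.orderOf_coe, Subgroup.orderOf_coe, hz])
    have hle : L ≤ (P : Subgroup G) := (Subgroup.closure_le _).2 fun x hx =>
      hmem x hx (congrArg Subtype.val (Subgroup.mem_center_iff.1 z.2 ⟨x, Subgroup.subset_closure hx⟩))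
    exact huv (Subtype.ext (MathieuEleven.comm_of_prime (hP P) u (hle u.2) v (hle v.2)))
  have hcases := fun (M : Subgroup L) (hM : M.Normal) => normal_cases hLd hm hr2 hgen M (hM := hM)
  haveI hTn : Nontrivial (L ⧸ Z) := by
    rw [← Finite.one_lt_card_iff_nontrivial]
    by_contra hle
    have h1 : Z.index = 1 := le_antisymm (not_lt.1 hle) (Nat.one_le_iff_ne_zero.2 Subgroup.index_ne_zero_of_finite)
    have h2 : v ∈ Z := Subgroup.index_eq_one.1 h1 ▸ Subgroup.mem_top v
    exact huv (Subgroup.mem_center_iff.1 h2 u)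
  haveI hT : IsSimpleGroup (L ⧸ Z) := ⟨fun N hN => by
    rcases hcases (N.comap (QuotientGroup.mk' Z)) (hN.comap _) with h | h
    · left
      rw [← Subgroup.map_comap_eq_self_of_surjective (QuotientGroup.mk'_surjective Z) N, Subgroup.map_eq_bot_iff,
        QuotientGroup.ker_mk']
      exact h
    · right
      rw [← Subgroup.map_comap_eq_self_of_surjective (QuotientGroup.mk'_surjective Z) N, h,
        Subgroup.map_top_of_surjective _ (QuotientGroup.mk'_surjective Z)]⟩
  have hLcard : Nat.card L = Nat.card (L ⧸ Z) * Nat.card Z := Subgroup.card_eq_card_quotient_mul_card_subgroup Z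
  have hrT : r ∣ Nat.card (L ⧸ Z) := by
    have h1 : r ∣ Nat.card L := by
      obtain ⟨P⟩ : Nonempty (Sylow r G) := inferInstance
      obtain ⟨z, hz⟩ := exists_prime_orderOf_dvd_card' (G := (P : Subgroup G)) r (dvd_of_eq (hP P).symm)
      have h := Subgroup.orderOf_dvd_natCard L (Subgroup.subset_closure (show (z : G) ∈ {x : G | orderOf x = r} by
        simp [Subgroup.orderOf_coe, hz]))
      rwa [Subgroup.orderOf_coe, hz] at h
    exact ((Nat.Prime.dvd_mul Fact.out).1 (hLcard ▸ h1)).resolve_right hZr
  have hna : ¬ IsMulCommutative (L ⧸ Z) := fun h => by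
    letI : CommGroup (L ⧸ Z) := { (inferInstance : Group (L ⧸ Z)) with mul_comm := fun a b => h.is_comm.comm a b }
    haveI : Fact (Nat.card (L ⧸ Z)).Prime := ⟨IsSimpleGroup.prime_card (α := L ⧸ Z)⟩
    haveI : IsCyclic (L ⧸ Z) := isCyclic_of_prime_card rfl
    have h2 := (QuotientGroup.mk' Z).isMulCommutative_of_isCyclic_of_ker_le_center (QuotientGroup.ker_mk' Z).le
    exact huv (h2.is_comm.comm u v)
  have hperf : commutator L = ⊤ := by
    refine (hcases _ inferInstance).resolve_left fun h => hna ⟨⟨fun a b => ?_⟩⟩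
    obtain ⟨a, rfl⟩ := QuotientGroup.mk'_surjective Z a
    obtain ⟨b, rfl⟩ := QuotientGroup.mk'_surjective Z b
    rw [← commutatorElement_eq_one_iff_mul_comm, ← map_commutatorElement]
    exact (QuotientGroup.eq_one_iff _).2
      (h (Subgroup.commutator_mem_commutator (Subgroup.mem_top a) (Subgroup.mem_top b)))
  haveI := Fintype.ofFinite L
  refine ⟨L, hLn, hperf, hT, hna, hrT, ?_⟩
  rw [mul_assoc, mul_comm (Nat.card (Subgroup.center L)), ← hLcard, L.index_mul_card, hG]

/-- A divisor of a degree prime to the index divides a degree of the normal subgroup, bounded by the centre. -/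
theorem exists_below [Fintype G] (L : Subgroup G) [L.Normal] (χ : IrrCharacter G) {d : ℕ}
    (hd : d ∣ deg (χ : G → ℂ)) (hco : Nat.Coprime d L.index) :
    ∃ θ : IrrCharacter L, d ∣ deg (θ : L → ℂ) ∧ deg (θ : L → ℂ) ^ 2 ≤ Nat.card (L ⧸ Subgroup.center L) := by
  classical
  haveI := Fintype.ofFinite L
  obtain ⟨θ, hθ⟩ := FROrbit.exists_constituent_below L χ
  refine ⟨θ, hco.dvd_of_dvd_mul_left (hd.trans (DegreeSplit.deg_dvd_index_mul L χ θ hθ)), ?_⟩
  have h := Prim.sq_deg_mul_card_le θ (Subgroup.center L) le_rfl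
  rw [Subgroup.card_eq_card_quotient_mul_card_subgroup (Subgroup.center L)] at h
  exact Nat.le_of_mul_le_mul_right h Nat.card_pos

/-- Degrees below when the product of the primes exceeds the square root of the order of the simple top. -/
theorem dvd_cofactor [Fintype G] (L : Subgroup G) [L.Normal] (χ : IrrCharacter G) {p q : ℕ}
    (hp : p.Prime) (hq : q.Prime) (hd : p * q ∣ deg (χ : G → ℂ)) (hpi : ¬ p ∣ L.index)
    (hlt : Nat.card (L ⧸ Subgroup.center L) < (p * q) ^ 2) : q ∣ L.index := by
  classical
  haveI := Fintype.ofFinite L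
  by_contra hqi
  obtain ⟨θ, h1, h2⟩ := exists_below L χ hd
    (Nat.Coprime.mul_left ((hp.coprime_iff_not_dvd).2 hpi) ((hq.coprime_iff_not_dvd).2 hqi))
  have := Nat.le_of_dvd (deg_pos θ.2) h1
  have := Nat.pow_le_pow_left this 2
  omega

end Cfsg.Agent.MathieuByGraph
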